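import Cfsg.Agent.OddHalf.SL.Defs
import Cfsg.Agent.KFacts.TwESix.Faith
import Cfsg.Agent.OddHalf.D7Tw.DFour
import Cfsg.Agent.OddHalf.D7Tw.Orbit

-- merged: Cfsg.Agent.OddHalf.D7Tw.Defs
section

/-!
# THEOREM H for `K = ²E₆(q)`: the hypotheses (helper756; text: bb ODD 8710, 9297, 9445)

`Φ` = the long roots (a simply laced root system), `X r` the long root groups of `K`, `W r` the doubled ones
(`SL.Defs.Dbl`), `ρ ∈ Φ`, `Z = X ρ`, `P = C_K(Z)^∞`, `Q = O₂(P)`.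

* `Base`: the facts which do not speak about centralisers in `G`.
* `Cen`: the facts on `C_G(t) ∩ C_G(z)`, `z ∈ X ρ`, `z ≠ 1`.
* `Tor`: the elements of the torus used in (7).
-/

set_option autoImplicit false

namespace Cfsg.Agent.OddHalf.D7Tw

open Subgroup

variable {L : Type*} [AddCommGroup L] {G : Type*} [Group G]

/-- `k A k⁻¹ = A'` -/
def Cj (k : G) (A A' : Subgroup G) : Prop := ∀ x, x ∈ A ↔ k * x * k⁻¹ ∈ A'

/-- the facts which do not speak about centralisers in `G` -/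
structure Base (t : G) (K : Subgroup G) (B : L → L → ℤ) (Φ : Set L) (X W : L → Subgroup G) (ρ : L)
    (P Q : Subgroup G) : Prop where
  roots : SL.Defs.Roots B Φ
  dbl : SL.Defs.Dbl t B Φ X W
  hρ : ρ ∈ Φ
  /-- root combinatorics -/
  ex0 : ∃ s ∈ Φ, B s ρ = 0
  ex1 : ∃ s ∈ Φ, B s ρ = 1
  ex01 : ∀ s ∈ Φ, B s ρ = 1 → ∃ s' ∈ Φ, B s' ρ = 0 ∧ B s s' = 1
  Kt : ∀ k ∈ K, k * t = t * k
  tK : t ∉ K
  XK : ∀ r ∈ Φ, X r ≤ K
  Xne : ∀ r ∈ Φ, X r ≠ ⊥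
  card : ∀ r ∈ Φ, Nat.card (X r) = Nat.card (X ρ)
  /-- `[X_r, y] = X_{r+s}` for `1 ≠ y ∈ X_s`, `(r, s) = -1` -/
  Xsurj : ∀ r ∈ Φ, ∀ s ∈ Φ, B r s = -1 → ∀ y ∈ X s, y ≠ 1 → ∀ c ∈ X (r + s), ∃ x ∈ X r, x * y * x⁻¹ * y⁻¹ = c
  /-- `P` and `Q` -/
  PK : P ≤ K
  perf : ⁅P, P⁆ = P
  QP : Q ≤ P
  Q2 : IsPGroup 2 Q
  Qn : ∀ p ∈ P, ∀ y ∈ Q, p * y * p⁻¹ ∈ Q
  QQ : ⁅Q, Q⁆ ≤ X ρ
  ZQ : ∀ x ∈ Q, (∀ y ∈ Q, x * y = y * x) → x ∈ X ρ
  XQ : ∀ s ∈ Φ, 1 ≤ B s ρ → X s ≤ Q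
  XP : ∀ s ∈ Φ, 0 ≤ B s ρ → X s ≤ P
  XnQ : ∀ s ∈ Φ, B s ρ = 0 → ∀ x ∈ X s, x ∈ Q → x = 1
  /-- `P` is generated by conjugates of long root elements -/
  Pgen : P ≤ closure {c | ∃ p ∈ P, ∃ s ∈ Φ, 0 ≤ B s ρ ∧ ∃ x ∈ X s, c = p * x * p⁻¹}
  /-- `Q` is generated by the long root groups contained in it -/
  Qgen : Q ≤ X ρ ⊔ closure {c | ∃ p ∈ P, ∃ s ∈ Φ, B s ρ = 1 ∧ ∃ x ∈ X s, c = p * x * p⁻¹}
  /-- two long root groups in `Q` are conjugate to two root groups `X r₁`, `X r₂` with `(r₁, r₂) ≥ -1` -/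
  pair : ∀ p₁ ∈ P, ∀ p₂ ∈ P, ∀ s₁ ∈ Φ, ∀ s₂ ∈ Φ, B s₁ ρ = 1 → B s₂ ρ = 1 → ∃ k ∈ K, ∃ r₁ ∈ Φ, ∃ r₂ ∈ Φ,
    -1 ≤ B r₁ r₂ ∧ Cj (k * p₁) (X s₁) (X r₁) ∧ Cj (k * p₂) (X s₂) (X r₂)
  /-- every perfect normal subgroup of `P` contains `Q` -/
  nrm : ∀ N ≤ P, ⁅N, N⁆ = N → N ≠ ⊥ → (∀ p ∈ P, ∀ n ∈ N, p * n * p⁻¹ ∈ N) → Q ≤ N
  /-- `P` centralises `W ρ` -/
  WP : ∀ w ∈ W ρ, ∀ p ∈ P, w * p = p * w
  /-- `W r` is determined by `X r` -/
  Wcan : ∀ r ∈ Φ, ∀ s ∈ Φ, ∀ k ∈ K, Cj k (X r) (X s) → Cj k (W r) (W s)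

/-- the facts on `C_G(t) ∩ C_G(z)` -/
structure Cen (t z : G) (Z P Q : Subgroup G) : Prop where
  /-- `P` is the largest perfect subgroup -/
  top : ∀ D : Subgroup G, ⁅D, D⁆ = D → (∀ d ∈ D, d * t = t * d) → (∀ d ∈ D, d * z = z * d) → D ≤ P
  norQ : ∀ c, c * t = t * c → c * z = z * c → ∀ y ∈ Q, c * y * c⁻¹ ∈ Q
  cenQ : ∀ c, c * t = t * c → c * z = z * c → (∀ y ∈ Q, c * y = y * c) → c ∈ Z ∨ t * c ∈ Z
  /-- `O₂ ≤ ⟨t⟩ × Q` -/
  core : ∀ N : Subgroup G, (∀ x ∈ N, x * t = t * x) → (∀ x ∈ N, x * z = z * x) → IsPGroup 2 N →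
    (∀ c, c * t = t * c → c * z = z * c → ∀ x ∈ N, c * x * c⁻¹ ∈ N) → ∀ x ∈ N, x ∈ Q ∨ t * x ∈ Q
  irr : ∀ N : Subgroup G, N ≤ Q → (∀ c, c * t = t * c → c * z = z * c → ∀ x ∈ N, c * x * c⁻¹ ∈ N) →
    N ≤ Z ∨ N = Q

end Cfsg.Agent.OddHalf.D7Tw

end

-- merged: Cfsg.Agent.OddHalf.D7Tw.BaseOf
section

/-!
# `K = ²E₆(q)`: the hypotheses `D7Tw.Base` of THEOREM H (ODD D7, helper628)

`R : RGD` of `K = GG` in `G`, `V r` the doubled long root groups (`Orbit.YO`, `SL.Defs.Dbl` on the `D₄` of long roots).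

* `LD R t V` : the facts used; `LD.of_dbl`;
* `cj_V` : `g (X r) g⁻¹ = X s` implies `g (V r) g⁻¹ = V s` for `g ∈ K`;
* `Pgen`, `X_inf_Q`, `pair` : further facts on `P`, `Q`;
* **`base`** : `D7Tw.Base t K B Φ (X ∘ c) (V ∘ c) ρ P Q`.
-/

set_option autoImplicit false
set_option linter.unusedSectionVars false

namespace Cfsg.Agent.OddHalf.D7Tw.BaseOf

open CoxeterSystem Cfsg.Agent.ChevalleyStructure.CoxeterGeom Cfsg.Agent.Tits.Roots Cfsg.Agent.Tits.Core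
  Cfsg.Agent.Tits.RootComb Cfsg.Agent.Tits.Exchange Cfsg.Agent.Nodes.Reps Cfsg.Agent.Nodes.BNOf
  Cfsg.Agent.Nodes.Coroot Cfsg.Agent.Nodes.LeviDec
  Cfsg.Agent.Nodes.Bruhat Cfsg.Agent.Nodes.OppDec Cfsg.Agent.Nodes.StabComb
  Cfsg.Agent.KFacts.RgdPar Cfsg.Agent.KFacts.RgdCent
  Cfsg.Agent.KFacts.RgdSL Cfsg.Agent.KFacts.RgdTI Cfsg.Agent.KFacts.RgdEx Cfsg.Agent.KFacts.RgdOdd
  Cfsg.Agent.Nodes.RGDTwE6 Cfsg.Agent.KFacts.TwESix.Comb Cfsg.Agent.KFacts.TwESix.Btw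
  Cfsg.Agent.KFacts.TwESix.Pair Cfsg.Agent.KFacts.TwESix.Facts Cfsg.Agent.KFacts.TwESix.QRho
  Cfsg.Agent.KFacts.TwESix.Faith Cfsg.Agent.KFacts.TwESix Cfsg.Agent.OddHalf.D7Tw
open scoped commutatorElement

variable {W G : Type*} [Group W] [Group G] {cs : CoxeterSystem CoxeterMatrix.F₄ W} {T : Subgroup G}
  {n : Fin 4 → G} {X : (Fin 4 → ℤ) → Subgroup G}

/-- The doubled long root groups. -/
structure LD (R : RGD cs isCartan 2 T n X) (t : G) (V : (Fin 4 → ℤ) → Subgroup G) : Prop where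
  tt : t * t = 1
  tK : ∀ k ∈ GG cs isCartan T X, t * k = k * t
  tnot : t ∉ GG cs isCartan T X
  XW : ∀ r, IsRoot cs isCartan r → bf r r = 4 → X r ≤ V r
  sq : ∀ r, IsRoot cs isCartan r → bf r r = 4 → ∀ w ∈ V r, w * w = 1
  cent : ∀ r, IsRoot cs isCartan r → bf r r = 4 → ∀ w ∈ V r, t * w = w * t → w ∈ X r
  brk : ∀ r, IsRoot cs isCartan r → bf r r = 4 → ∀ w ∈ V r, w⁻¹ * (t * w * t) ∈ X r
  surj : ∀ r, IsRoot cs isCartan r → bf r r = 4 → ∀ x ∈ X r, ∃ w ∈ V r, w⁻¹ * (t * w * t) = x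
  pos : ∀ r s, IsRoot cs isCartan r → IsRoot cs isCartan s → bf r r = 4 → bf s s = 4 → 0 ≤ bf r s →
    ∀ v ∈ V r, ∀ w ∈ V s, v * w = w * v
  neg : ∀ r s, IsRoot cs isCartan r → IsRoot cs isCartan s → bf r r = 4 → bf s s = 4 → bf r s = -2 →
    ∀ v ∈ V r, ∀ w ∈ V s, v * w * v⁻¹ * w⁻¹ ∈ V (r + s)
  WX : ∀ r, IsRoot cs isCartan r → bf r r = 4 → ∀ a, IsRoot cs isCartan a → 0 ≤ bf a r →
    ∀ w ∈ V r, ∀ x ∈ X a, w * x = x * w
  eqv : ∀ w k, Rp cs R.nsys w k → ∀ r, IsRoot cs isCartan r → bf r r = 4 → ∀ v ∈ V r,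
    k * v * k⁻¹ ∈ V (rep cs isCartan w r)

/-- from the output of the growth -/
theorem LD.of_dbl {R : RGD cs isCartan 2 T n X} {t : G} {V : (Fin 4 → ℤ) → Subgroup G}
    (tK : ∀ k ∈ GG cs isCartan T X, t * k = k * t) (tnot : t ∉ GG cs isCartan T X)
    (Y : Orbit.YO R t rho V)
    (L : SL.Defs.Dbl t DFour.B DFour.Phi (fun x => X (DFour.c x)) (fun x => V (DFour.c x))) : LD R t V := by
  have hO : ∀ r, IsRoot cs isCartan r → bf r r = 4 → r ∈ Orbit.O cs isCartan rho := by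
    intro r hr hl
    obtain ⟨w, hw⟩ := exists_rep_long cs hr hl
    obtain ⟨v, hv⟩ := exists_rep_long cs (rho_root cs) rho_long
    refine ⟨w * v⁻¹, ?_⟩
    rw [rep_mul_apply, ← hv, rep_inv_apply, hw]
  have hP : ∀ r, IsRoot cs isCartan r → bf r r = 4 → ∃ x ∈ DFour.Phi, DFour.c x = r := fun r hr hl =>
    DFour.exists_phi cs hr hl
  refine
    { tt := L.tt
      tK := tK
      tnot := tnot
      XW := fun r hr hl => Y.XW r (hO r hr hl)
      sq := ?_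
      cent := fun r hr hl => Y.cent r (hO r hr hl)
      brk := fun r hr hl => Y.brk r (hO r hr hl)
      surj := fun r hr hl => Y.surj r (hO r hr hl)
      pos := ?_
      neg := ?_
      WX := fun r hr hl a ha har => Y.WX r (hO r hr hl) a ha ((ge_iff cs hr hl).2 har)
      eqv := fun w k hk r hr hl => Y.eqv w k hk r (hO r hr hl) }
  · intro r hr hl w hw
    obtain ⟨x, hx, rfl⟩ := hP r hr hl
    exact L.sq x hx w hw
  · intro r s hr hs hl hl' hrs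
    obtain ⟨x, hx, rfl⟩ := hP r hr hl
    obtain ⟨y, hy, rfl⟩ := hP s hs hl'
    rw [DFour.bf_c] at hrs
    exact L.pos x hx y hy (by omega)
  · intro r s hr hs hl hl' hrs v hv w hw
    obtain ⟨x, hx, rfl⟩ := hP r hr hl
    obtain ⟨y, hy, rfl⟩ := hP s hs hl'
    rw [DFour.bf_c] at hrs
    have := L.neg x hx y hy (by omega) v hv w hw
    simp only [map_add] at this
    exact this

/-- `α₀ + α₁` -/
def s0 : Fin 4 → ℤ := ![1, 1, 0, 0]

/-- `α₀` -/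
def a0 : Fin 4 → ℤ := ![1, 0, 0, 0]

/-- `α₁` -/
def c0 : Fin 4 → ℤ := ![0, 1, 0, 0]

theorem facts0 : s0 ∈ rts ∧ a0 ∈ rts ∧ c0 ∈ rts ∧ rho - s0 ∈ rts ∧ bf s0 s0 = 4 ∧ bf a0 a0 = 4 ∧ bf c0 c0 = 4 ∧
    bf (rho - s0) (rho - s0) = 4 ∧ bf c0 a0 = -2 ∧ bf s0 (rho - s0) = -2 ∧ c0 + a0 = s0 ∧ s0 + (rho - s0) = rho ∧
    s0 0 = 1 ∧ a0 0 = 1 ∧ c0 0 = 0 ∧ (rho - s0) 0 = 1 := by
  decide +kernel

namespace LD

variable [Finite G] {R : RGD cs isCartan 2 T n X} {t : G} {V : (Fin 4 → ℤ) → Subgroup G} (D : Dat R)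
  (L : LD R t V)

include L

theorem exists_w {r s : Fin 4 → ℤ} (hr : IsRoot cs isCartan r) (hs : IsRoot cs isCartan s) (hrl : bf r r = 4)
    (hsl : bf s s = 4) : ∃ w : W, rep cs isCartan w r = s := by
  obtain ⟨w, hw⟩ := exists_rep_long cs hs hsl
  obtain ⟨v, hv⟩ := exists_rep_long cs hr hrl
  refine ⟨w * v⁻¹, ?_⟩
  rw [rep_mul_apply, ← hv, rep_inv_apply, hw]

theorem cj_rp {w : W} {k : G} (hk : Rp cs R.nsys w k) {r : Fin 4 → ℤ} (hr : IsRoot cs isCartan r)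
    (hl : bf r r = 4) : cj k (V r) = V (rep cs isCartan w r) := by
  apply le_antisymm
  · intro x hx
    rw [mem_cj] at hx
    have := L.eqv w k hk r hr hl _ hx
    have e : k * (k⁻¹ * x * k) * k⁻¹ = x := by group
    rwa [e] at this
  · intro x hx
    rw [mem_cj]
    have := L.eqv w⁻¹ k⁻¹ hk.inv _ (hr.act w) (by rw [bf_rep]; exact hl) x hx
    rwa [rep_inv_apply, inv_inv] at this

/-- the normaliser of `X r` normalises `V r` -/
theorem PS_le {r : Fin 4 → ℤ} (hr : IsRoot cs isCartan r) (hl : bf r r = 4) :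
    PS T X (Ge cs isCartan r) ≤ Subgroup.normalizer (V r : Set G) := by
  refine sup_le ?_ ?_
  · intro g hg
    rw [mem_normalizer_iff_cj]
    have := L.cj_rp (rp_of_mem (cs := cs) (hN := R.nsys) hg) hr hl
    rwa [map_one, Module.End.one_apply] at this
  · refine RGD.Sup_le fun a ha => ?_
    intro x hx
    rw [Subgroup.mem_normalizer_iff]
    have hc : ∀ w ∈ V r, w * x = x * w := fun w hw =>
      L.WX r hr hl a ha.1 ((ge_iff cs hr hl).1 ha.2) w hw x hx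
    intro w
    constructor
    · intro hw
      rw [← hc w hw, mul_inv_cancel_right]; exact hw
    · intro hw
      have h1 := hc _ hw
      have e : w = x⁻¹ * (x * w * x⁻¹ * x) := by group
      rw [h1] at e
      rw [e, inv_mul_cancel_left]; exact hw

include D

/-- `g (X r) g⁻¹ = X s` implies `g (V r) g⁻¹ = V s` -/
theorem cj_V {g : G} (hg : g ∈ GG cs isCartan T X) {r s : Fin 4 → ℤ} (hr : IsRoot cs isCartan r)
    (hs : IsRoot cs isCartan s) (hrl : bf r r = 4) (hsl : bf s s = 4) (he : cj g (X r) = X s) :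
    cj g (V r) = V s := by
  have : Finite W := finiteW cs
  obtain ⟨w, hw⟩ := L.exists_w hr hs hrl hsl
  obtain ⟨k, hk⟩ := exists_rp cs R.nsys w
  have hkG := NN_le_GG R ⟨w, hk⟩
  have h1 : cj (k⁻¹ * g) (X r) = X r := by
    rw [cj_mul, he, ← hw, ← R.conj_rp hk hr, cj_inv_cj]
  have h2 : k⁻¹ * g ∈ PS T X (Ge cs isCartan r) := by
    rw [← (D.lr r hr hrl).normalizer]
    exact Subgroup.mem_inf.2 ⟨mem_normalizer_iff_cj.2 h1, mul_mem (inv_mem hkG) hg⟩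
  have h3 := mem_normalizer_iff_cj.1 (L.PS_le hr hrl h2)
  have h4 := L.cj_rp hk hr hrl
  rw [hw] at h4
  have h5 : cj g (V r) = cj k (cj (k⁻¹ * g) (V r)) := by rw [← cj_mul, mul_inv_cancel_left]
  rw [h5, h3, h4]


end LD

/-! ### Further facts on `P` and `Q` -/

theorem gen_comb : ∀ b ∈ rts, 0 ≤ b 0 → bf b b = 2 → ∃ s ∈ rts, 0 ≤ s 0 ∧ bf s s = 4 ∧ ∃ d ∈ rts, 0 ≤ d 0 ∧
    bf d d = 2 ∧ bf s d = -2 ∧ s + d = b ∧ s + (2 : ℤ) • d ∈ rts ∧ 0 ≤ (s + (2 : ℤ) • d) 0 ∧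
    bf (s + (2 : ℤ) • d) (s + (2 : ℤ) • d) = 4 := by
  decide +kernel

theorem bf_le : ∀ x ∈ rts, ∀ s ∈ rts, bf s s = 4 → -4 ≤ bf x s := by decide +kernel

section KF

variable {R : RGD cs isCartan 2 T n X} (D : Dat R)

include D

/-- `P` is generated by the `P`-conjugates of the long root groups in it -/
theorem Pgen : PP cs X ≤ Subgroup.closure {c | ∃ p ∈ PP cs X, ∃ s ∈ rts, bf s s = 4 ∧ 0 ≤ s 0 ∧ ∃ x ∈ X s,
    c = p * x * p⁻¹} := by
  have : Finite W := finiteW cs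
  set N := Subgroup.closure {c | ∃ p ∈ PP cs X, ∃ s ∈ rts, bf s s = 4 ∧ 0 ≤ s 0 ∧ ∃ x ∈ X s, c = p * x * p⁻¹} with hN
  have hlong : ∀ s ∈ rts, bf s s = 4 → 0 ≤ s 0 → ∀ p ∈ PP cs X, ∀ x ∈ X s, p * x * p⁻¹ ∈ N := fun s hs hl h0 p hp x hx =>
    Subgroup.subset_closure ⟨p, hp, s, hs, hl, h0, x, hx, rfl⟩
  have hlong' : ∀ s ∈ rts, bf s s = 4 → 0 ≤ s 0 → ∀ x ∈ X s, x ∈ N := by
    intro s hs hl h0 x hx
    have := hlong s hs hl h0 1 (one_mem _) x hx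
    rwa [one_mul, inv_one, mul_one] at this
  refine PP_le fun b hb hb0 w hw => ?_
  rcases norm cs hb with h | h
  · exact hlong' b ((mem_rts cs).1 hb) h hb0 w hw
  · obtain ⟨s, hs, hs0, hsl, d, hd, hd0, hdd, hsd, rfl, hr, hr0, hrl⟩ := gen_comb b ((mem_rts cs).1 hb) hb0 h
    have hsr := (mem_rts cs).2 hs
    have hdr := (mem_rts cs).2 hd
    obtain ⟨u, hu, hu1⟩ := exists_ne_one R hsr
    obtain ⟨v, hv, z, hz, e⟩ := surj_135 D hsr hdr hsl hdd hsd hb ((mem_rts cs).2 hr) hu hu1 hw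
    have h1 : ⁅u, v⁆ ∈ N := by
      have e' : ⁅u, v⁆ = u * (v * u⁻¹ * v⁻¹) := by rw [commutatorElement_def]; group
      rw [e']
      exact mul_mem (hlong' s hs hsl hs0 u hu) (hlong s hs hsl hs0 v (le_PP hdr hd0 hv) _ (inv_mem hu))
    have h2 := hlong' _ hr hrl hr0 z hz
    have e' : w = ⁅u, v⁆ * z⁻¹ := by rw [e]; group
    rw [e']
    exact mul_mem h1 (inv_mem h2)

omit D in
/-- `X s ∩ Q = 1` for `s` long, orthogonal to `ρ` -/
theorem X_inf_Q (R : RGD cs isCartan 2 T n X) {s : Fin 4 → ℤ} (hs : IsRoot cs isCartan s) (hl : bf s s = 4)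
    (h0 : s 0 = 0) {e : G} (he : e ∈ X s) (h : e ∈ QQ cs X) : e = 1 := by
  have : Finite W := finiteW cs
  have hclo : Nodes.Unique.Closed cs isCartan ({s} : Set (Fin 4 → ℤ)) := by
    intro x hx y hy z hz
    rw [Set.mem_singleton_iff] at hx hy
    rw [hx, hy] at hz
    rw [Nodes.Unique.btwn_self hs hz]
    rfl
  have hclo' : Nodes.Unique.Closed cs isCartan (Rad cs isCartan rho) := by
    rintro x ⟨hx, hx'⟩ y ⟨hy, hy'⟩ z hz
    rw [cpr_rho] at hx' hy'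
    refine ⟨hz.1, ?_⟩
    rw [cpr_rho]
    exact Irr.btwn_zero hz hx' (by omega)
  let f : (Fin 4 → ℤ) →+ ℤ := 3 • ell cs isCartan (rho_root cs) + ell cs isCartan hs
  have hf : ∀ x, f x = 3 * cpr cs isCartan x rho + cpr cs isCartan x s := by
    intro x
    show (3 • ell cs isCartan (rho_root cs) + ell cs isCartan hs) x = _
    rw [AddMonoidHom.add_apply, AddMonoidHom.nsmul_apply]
    show 3 • cpr cs isCartan x rho + cpr cs isCartan x s = _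
    rw [nsmul_eq_mul]; norm_num
  have h1 := inf_eq_half R f (S := {s}) (S' := Rad cs isCartan rho) (by
    intro x hx
    rw [Set.mem_singleton_iff] at hx
    subst hx
    refine ⟨hs, ?_⟩
    rw [hf, cpr_self cs isCartan hs, cpr_rho, h0]; norm_num) (by
    rintro x ⟨hx, hx'⟩
    refine ⟨hx, ?_⟩
    rw [hf]
    have h2 := bf_le x ((mem_rts cs).1 hx) s ((mem_rts cs).1 hs) hl
    have h3 := cpr_long cs x hs hl
    omega) hclo hclo'
  have h2 : e ∈ RGD.Sup X {s} ⊓ RGD.Sup X (Rad cs isCartan rho) :=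
    Subgroup.mem_inf.2 ⟨RGD.le_Sup (X := X) (Set.mem_singleton s) he, h⟩
  have h3 : ({s} : Set (Fin 4 → ℤ)) ∩ Rad cs isCartan rho = ∅ := by
    ext x
    simp only [Set.mem_inter_iff, Set.mem_singleton_iff, Set.mem_empty_iff_false, iff_false, not_and]
    rintro rfl hx
    have := hx.2
    rw [cpr_rho, h0] at this
    omega
  have h4 : RGD.Sup X (∅ : Set (Fin 4 → ℤ)) = ⊥ := by
    rw [eq_bot_iff]
    exact RGD.Sup_le fun z hz => absurd hz (Set.notMem_empty z)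
  have h5 : RGD.Sup X {s} ⊓ RGD.Sup X (Rad cs isCartan rho) = ⊥ := by
    rw [← h4, ← h3]; exact h1
  rw [h5, Subgroup.mem_bot] at h2
  exact h2

/-- two long root groups in `Q` -/
theorem pair {g h : G} (hg : g ∈ GG cs isCartan T X) (hh : h ∈ GG cs isCartan T X)
    (hgQ : cj g (X rho) ≤ QQ cs X) (hhQ : cj h (X rho) ≤ QQ cs X) : ∃ k ∈ GG cs isCartan T X, ∃ s,
      IsRoot cs isCartan s ∧ bf s s = 4 ∧ -1 ≤ s 0 ∧ cj g (X rho) = cj k (X rho) ∧ cj h (X rho) = cj k (X s) := by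
  have : Finite W := finiteW cs
  have hrr := rho_root cs
  obtain ⟨k, hk, s, hs, hsl, e1, e2⟩ := exists_pair D hg hh
  refine ⟨k, hk, s, hs, hsl, ?_, e1, e2⟩
  rw [e1] at hgQ
  rw [e2] at hhQ
  by_contra hcon
  have h2 : s = -rho := by
    have h1 := CombRho.zero_le (-s) ((mem_rts cs).1 hs.neg)
    have h3 := CombRho.eq_rho (-s) ((mem_rts cs).1 hs.neg) (by
      have h2 : (-s) 0 = -(s 0) := rfl
      omega)
    rw [← h3, neg_neg]
  subst h2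
  obtain ⟨w', hw'⟩ := exists_rep_long cs hrr rho_long
  obtain ⟨m, hm⟩ := exists_rp cs R.nsys w'
  have h5 : X (sr 0) ⊔ X (-sr 0) ≤ cj (k * m)⁻¹ (QQ cs X) := by
    refine sup_le ?_ ?_
    · have h6 : cj (k * m) (X (sr 0)) ≤ QQ cs X := by
        rw [cj_mul, R.conj_rp hm (isRoot_sr cs isCartan 0), hw']
        exact hgQ
      have h7 := cj_mono (k * m)⁻¹ h6
      rwa [cj_inv_cj] at h7
    · have h6 : cj (k * m) (X (-sr 0)) ≤ QQ cs X := by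
        rw [cj_mul, R.conj_rp hm (isRoot_sr cs isCartan 0).neg, map_neg, hw']
        exact hhQ
      have h7 := cj_mono (k * m)⁻¹ h6
      rwa [cj_inv_cj] at h7
  exact R.notp 0 (((isPGroup_QQ R).map _).to_le h5)

end KF

/-! ### The instance -/

theorem cj_iff {k : G} {A A' : Subgroup G} : Cj k A A' ↔ cj k A = A' := by
  constructor
  · intro h
    ext x
    rw [mem_cj, h]
    have e : k * (k⁻¹ * x * k) * k⁻¹ = x := by group
    rw [e]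
  · rintro rfl x
    exact conj_mem_cj.symm

theorem phi_comb : (∃ s ∈ DFour.lg, DFour.B s ![1, 1, 0, 0] = 0) ∧ (∃ s ∈ DFour.lg, DFour.B s ![1, 1, 0, 0] = 1) ∧
    ∀ s ∈ DFour.lg, DFour.B s ![1, 1, 0, 0] = 1 → ∃ s' ∈ DFour.lg, DFour.B s' ![1, 1, 0, 0] = 0 ∧
      DFour.B s s' = 1 := by
  decide +kernel

theorem rho_phi : (![1, 1, 0, 0] : Fin 4 → ℤ) ∈ DFour.Phi :=
  show (![1, 1, 0, 0] : Fin 4 → ℤ) ∈ DFour.lg by decide +kernel

theorem c_zero (x : Fin 4 → ℤ) : (DFour.c x) 0 = DFour.B x ![1, 1, 0, 0] := by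
  rw [DFour.c_apply]
  unfold DFour.B
  simp only [Matrix.cons_val_zero, Matrix.cons_val_one, Matrix.cons_val]
  ring

/-- **The hypotheses `D7Tw.Base`.** -/
theorem base [Finite G] {R : RGD cs isCartan 2 T n X} {t : G} {V : (Fin 4 → ℤ) → Subgroup G} (D : Dat R)
    (hNC : NoCent cs isCartan T X) (tK : ∀ k ∈ GG cs isCartan T X, t * k = k * t)
    (tnot : t ∉ GG cs isCartan T X) (Y : Orbit.YO R t rho V)
    (L0 : SL.Defs.Dbl t DFour.B DFour.Phi (fun x => X (DFour.c x)) (fun x => V (DFour.c x))) :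
    Base t (GG cs isCartan T X) DFour.B DFour.Phi (fun x => X (DFour.c x)) (fun x => V (DFour.c x)) ![1, 1, 0, 0]
      (PP cs X) (QQ cs X) := by
  have : Finite W := finiteW cs
  have L := LD.of_dbl tK tnot Y L0
  have hrr := rho_root cs
  have hcr : DFour.c ![1, 1, 0, 0] = rho := DFour.c_rho
  have hroot : ∀ s ∈ DFour.Phi, IsRoot cs isCartan (DFour.c s) := fun s hs => DFour.root cs hs
  have hlong : ∀ s ∈ DFour.Phi, bf (DFour.c s) (DFour.c s) = 4 := fun s hs => DFour.long hs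
  have hQn : ∀ p ∈ PP cs X, ∀ y ∈ QQ cs X, p * y * p⁻¹ ∈ QQ cs X := fun p hp y hy =>
    (Subgroup.mem_normalizer_iff.1 (PP_normalizer R hp) y).1 hy
  -- conjugates of `X ρ`
  have hconj : ∀ s ∈ DFour.Phi, ∃ m ∈ GG cs isCartan T X, cj m (X rho) = X (DFour.c s) := by
    intro s hs
    obtain ⟨w, hw⟩ := L.exists_w hrr (hroot s hs) rho_long (hlong s hs)
    obtain ⟨m, hm⟩ := exists_rp cs R.nsys w
    exact ⟨m, NN_le_GG R ⟨w, hm⟩, by rw [R.conj_rp hm hrr, hw]⟩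
  refine
    { roots := DFour.roots
      dbl := L0
      hρ := rho_phi
      ex0 := phi_comb.1
      ex1 := phi_comb.2.1
      ex01 := phi_comb.2.2
      Kt := fun k hk => (tK k hk).symm
      tK := tnot
      XK := fun r hr => X_le_GG (hroot r hr)
      Xne := fun r hr => X_ne_bot R (hroot r hr)
      card := ?_
      Xsurj := ?_
      PK := PP_le_GG
      perf := perfect D
      QP := QQ_le_PP
      Q2 := isPGroup_QQ R
      Qn := hQn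
      QQ := ?_
      ZQ := ?_
      XQ := ?_
      XP := ?_
      XnQ := ?_
      Pgen := ?_
      Qgen := ?_
      pair := ?_
      nrm := fun N hN hNN hN1 hNn => nrm D hNC hN hNN hN1 hNn
      WP := ?_
      Wcan := ?_ }
  · -- card
    intro r hr
    obtain ⟨m, -, hm⟩ := hconj r hr
    show Nat.card (X (DFour.c r)) = Nat.card (X (DFour.c ![1, 1, 0, 0]))
    rw [hcr, ← hm]
    exact (Nat.card_congr ((X rho).equivMapOfInjective (MulAut.conj m).toMonoidHom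
      (MulAut.conj m).injective).toEquiv).symm
  · -- Xsurj
    intro r hr s hs hrs y hy hy1 c hc
    have hA : A2 cs isCartan (DFour.c r) (DFour.c s) := DFour.a2_of cs hr hs hrs
    have hc' : c⁻¹ ∈ X (DFour.c s + DFour.c r) := by
      have e : DFour.c s + DFour.c r = DFour.c (r + s) := by rw [map_add, add_comm]
      rw [e]; exact inv_mem hc
    obtain ⟨x, hx, e⟩ := hA.symm.comm_surj R hy hy1 hc'
    refine ⟨x, hx, ?_⟩
    rw [← commutatorElement_def, ← commutatorElement_inv, e, inv_inv]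
  · -- QQ
    rw [Subgroup.commutator_le]
    intro x hx y hy
    show ⁅x, y⁆ ∈ X (DFour.c ![1, 1, 0, 0])
    rw [hcr]
    exact Irr.comm_QQ R D.lr hx hy
  · -- ZQ
    intro x hx h
    show x ∈ X (DFour.c ![1, 1, 0, 0])
    rw [hcr]
    exact (loc D).ZQ (q := x) (by rw [QS_eq (cs := cs)]; exact hx) (fun v hv => h v (by
      rw [QS_eq (cs := cs)] at hv; exact hv))
  · -- XQ
    intro s hs h
    exact le_QQ (hroot s hs) (by rw [c_zero]; exact h)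
  · -- XP
    intro s hs h
    exact le_PP (hroot s hs) (by rw [c_zero]; exact h)
  · -- XnQ
    intro s hs h x hx hxQ
    exact X_inf_Q R (hroot s hs) (hlong s hs) (by rw [c_zero]; exact h) hx hxQ
  · -- Pgen
    refine le_trans (Pgen D) ?_
    rw [Subgroup.closure_le]
    rintro _ ⟨p, hp, s, hs, hsl, hs0, x, hx, rfl⟩
    obtain ⟨y, hy, rfl⟩ := DFour.exists_phi cs ((mem_rts cs).2 hs) hsl
    exact Subgroup.subset_closure ⟨p, hp, y, hy, by rw [← c_zero]; exact hs0, x, hx, rfl⟩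
  · -- Qgen
    obtain ⟨i1, -, -, -, l1, -, -, -, -, -, -, -, z1, -, -, -⟩ := facts0
    have hs := (mem_rts cs).2 i1
    obtain ⟨y, hy, ey⟩ := DFour.exists_phi cs hs l1
    have h1 := Q_eq D hs z1
    rw [h1]
    refine sup_le ?_ (iSup_le fun p => ?_)
    · refine le_trans (le_of_eq ?_) le_sup_left
      show X rho = X (DFour.c ![1, 1, 0, 0])
      rw [hcr]
    · refine le_trans ?_ le_sup_right
      intro x hx
      rw [mem_cj] at hx
      refine Subgroup.subset_closure ⟨p, p.2, y, hy, ?_, (p : G)⁻¹ * x * p, ?_, by group⟩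
      · rw [← c_zero, ey, z1]
      · show (p : G)⁻¹ * x * p ∈ X (DFour.c y)
        rw [ey]; exact hx
  · -- pair
    intro p₁ hp₁ p₂ hp₂ s₁ hs₁ s₂ hs₂ h₁ h₂
    obtain ⟨m₁, hm₁, e₁⟩ := hconj s₁ hs₁
    obtain ⟨m₂, hm₂, e₂⟩ := hconj s₂ hs₂
    have hle : ∀ p ∈ PP cs X, ∀ s ∈ DFour.Phi, DFour.B s ![1, 1, 0, 0] = 1 → ∀ m, cj m (X rho) = X (DFour.c s) →
        cj (p * m) (X rho) ≤ QQ cs X := by
      intro p hp s hs hs1 m hm x hx
      rw [cj_mul, hm, mem_cj] at hx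
      have h3 := hQn p hp _ (le_QQ (hroot s hs) (by rw [c_zero]; exact hs1.ge) hx)
      have e : p * (p⁻¹ * x * p) * p⁻¹ = x := by group
      rwa [e] at h3
    obtain ⟨k, hk, s, hs, hsl, hs1, f1, f2⟩ := pair D (mul_mem (PP_le_GG hp₁) hm₁) (mul_mem (PP_le_GG hp₂) hm₂)
      (hle p₁ hp₁ s₁ hs₁ h₁ m₁ e₁) (hle p₂ hp₂ s₂ hs₂ h₂ m₂ e₂)
    obtain ⟨y, hy, rfl⟩ := DFour.exists_phi cs hs hsl
    refine ⟨k⁻¹, inv_mem hk, ![1, 1, 0, 0], rho_phi, y, hy, ?_, ?_, ?_⟩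
    · rw [DFour.B_symm, ← c_zero]; exact hs1
    · rw [cj_iff]
      show cj (k⁻¹ * p₁) (X (DFour.c s₁)) = X (DFour.c ![1, 1, 0, 0])
      rw [hcr, cj_mul, ← e₁, ← cj_mul p₁, f1, cj_inv_cj]
    · rw [cj_iff]
      show cj (k⁻¹ * p₂) (X (DFour.c s₂)) = X (DFour.c y)
      rw [cj_mul, ← e₂, ← cj_mul p₂, f2, cj_inv_cj]
  · -- WP
    intro w hw
    have hw' : w ∈ V rho := by
      have : w ∈ V (DFour.c ![1, 1, 0, 0]) := hw
      rwa [hcr] at this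
    have h1 : PP cs X ≤ Subgroup.centralizer ({w} : Set G) := by
      refine RGD.Sup_le fun b hb x hx => ?_
      rw [Subgroup.mem_centralizer_singleton_iff]
      exact (L.WX rho hrr rho_long b hb.1 ((ge_iff cs hrr rho_long).1 hb.2) w hw' x hx).symm
    intro p hp
    exact (Subgroup.mem_centralizer_singleton_iff.1 (h1 hp)).symm
  · -- Wcan
    intro r hr s hs k hk h
    rw [cj_iff] at h ⊢
    exact L.cj_V D hk (hroot r hr) (hroot s hs) (hlong r hr) (hlong s hs) h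

end Cfsg.Agent.OddHalf.D7Tw.BaseOf

end
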