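import Mathlib
import Cfsg.Agent.OddHalf.D7Ex.Setup
import Cfsg.Agent.OddHalf.D7Tw.BaseOf
import Cfsg.Agent.OddHalf.D7Tw.Front

-- merged: Cfsg.Agent.OddHalf.D7Ex.HThree
section

/-!
# (H3) of THEOREM H (ODD D7, helper875 #8710) from the local hypotheses

`Hyp` (`Hyp.of_setup` : from `D7Ex.Setup`); `h3` : if every element of `C_H(t)` centralising `Q` is in `⟨t⟩X` (`cenQ`), the 2-subgroups of `P` normalised by `P` are in
`Q` (`core`), and `Lin X Q P`, then a 2-subgroup `N` of `C_H(t)` normalised by `C_H(t)` is contained in `Q ∪ tQ`.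
Any `K`; only `P`-invariance of `N` is used.
-/

set_option autoImplicit false

namespace Cfsg.Agent.OddHalf.D7Ex.HThree

open Subgroup
open scoped commutatorElement

variable {G : Type*} [Group G]

theorem mem_closure_comm {Q : Subgroup G} {f : G →* G} (h : ∀ v ∈ Q, ∀ w ∈ Q, f ⁅v, w⁆ = ⁅v, w⁆) :
    ∀ x ∈ ⁅Q, Q⁆, f x = x := by
  intro x hx
  have h1 : ⁅Q, Q⁆ ≤ f.eqLocus (MonoidHom.id G) := by
    rw [commutator_le]
    intro v hv w hw
    exact h v hv w hw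
  exact h1 hx

/-- the local hypotheses used -/
structure Hyp (t : G) (X Q P : Subgroup G) : Prop where
  XQ : X ≤ Q
  QP : Q ≤ P
  tP : ∀ p ∈ P, t * p = p * t
  XP : ∀ x ∈ X, ∀ p ∈ P, x * p = p * x
  PQ : ∀ p ∈ P, ∀ q ∈ Q, p * q * p⁻¹ ∈ Q
  XQQ : X ≤ ⁅Q, Q⁆
  QQ : ∀ v ∈ Q, ∀ w ∈ Q, v * w * v⁻¹ * w⁻¹ ∈ X
  E2 : ∀ f : G → G, (∀ v ∈ Q, f v ∈ X) → (∀ v ∈ Q, ∀ w ∈ Q, f (v * w) = f v * f w) → (∀ x ∈ X, f x = 1) →
    (∀ p ∈ P, ∃ q ∈ Q, ∀ v ∈ Q, f (p * v * p⁻¹) = f v * (q * v * q⁻¹ * v⁻¹)) →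
    ∃ q ∈ Q, ∀ v ∈ Q, f v = q * v * q⁻¹ * v⁻¹

theorem Hyp.of_setup {t : G} {X Q P H0 : Subgroup G} (S : Setup t X Q P H0) : Hyp t X Q P :=
  ⟨S.XQ, S.QP, S.tP, S.XP, S.PQ, S.XQQ, S.QQ, S.E2⟩

/-- **(H3)** -/
theorem h3 {t : G} {X Q P H : Subgroup G} (S : Hyp t X Q P) (hlin : Lin X Q P) (PH : P ≤ H)
    (nor : ∀ h ∈ H, h * t = t * h → (∀ p ∈ P, h * p * h⁻¹ ∈ P) ∧ (∀ q ∈ Q, h * q * h⁻¹ ∈ Q) ∧
      ∀ x ∈ X, h * x * h⁻¹ ∈ X)
    (cenQ : ∀ c ∈ H, c * t = t * c → (∀ y ∈ Q, c * y = y * c) → c ∈ X ∨ t * c ∈ X)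
    (core : ∀ D : Subgroup G, D ≤ P → IsPGroup 2 D → (∀ p ∈ P, ∀ d ∈ D, p * d * p⁻¹ ∈ D) → D ≤ Q)
    (N : Subgroup G) (hNH : N ≤ H) (hNt : ∀ x ∈ N, x * t = t * x) (hN2 : IsPGroup 2 N)
    (hN : ∀ h ∈ H, h * t = t * h → ∀ x ∈ N, h * x * h⁻¹ ∈ N) : ∀ x ∈ N, x ∈ Q ∨ t * x ∈ Q := by
  intro n hn
  have hPt : ∀ p ∈ P, p * t = t * p := fun p hp => (S.tP p hp).symm
  obtain ⟨nP, nQ, nX⟩ := nor n (hNH hn) (hNt n hn)
  -- `[n, P] ≤ Q`
  have h1 : ∀ p ∈ P, n * p * n⁻¹ * p⁻¹ ∈ Q := by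
    intro p hp
    have h2 : N ⊓ P ≤ Q := by
      refine core _ inf_le_right (hN2.to_le inf_le_left) fun q hq d hd => ?_
      refine mem_inf.2 ⟨hN q (PH hq) (hPt q hq) d hd.1, mul_mem (mul_mem hq hd.2) (inv_mem hq)⟩
    apply h2
    refine mem_inf.2 ⟨?_, mul_mem (nP p hp) (inv_mem hp)⟩
    have e : n * p * n⁻¹ * p⁻¹ = n * (p * n⁻¹ * p⁻¹) := by group
    rw [e]
    exact mul_mem hn (hN p (PH hp) (hPt p hp) _ (inv_mem hn))
  -- `[n, Q] ≤ X`
  have hn2 : IsPGroup 2 (zpowers n) := hN2.to_le (zpowers_le.2 hn)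
  have h2 : ∀ q ∈ Q, n * q * n⁻¹ * q⁻¹ ∈ X := hlin n hn2 nQ nX h1
  have cX : ∀ x ∈ X, ∀ p ∈ P, x * p = p * x := S.XP
  -- the homomorphism
  obtain ⟨q, hq, hf⟩ := S.E2 (fun v => n * v * n⁻¹ * v⁻¹) h2 (by
    intro v hv w hw
    have e : n * (v * w) * n⁻¹ * (v * w)⁻¹ = n * v * n⁻¹ * (n * w * n⁻¹ * w⁻¹) * v⁻¹ := by group
    show n * (v * w) * n⁻¹ * (v * w)⁻¹ = n * v * n⁻¹ * v⁻¹ * (n * w * n⁻¹ * w⁻¹)
    rw [e]
    have h3 := cX _ (h2 w hw) v⁻¹ (inv_mem (S.QP hv))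
    calc n * v * n⁻¹ * (n * w * n⁻¹ * w⁻¹) * v⁻¹ = n * v * n⁻¹ * ((n * w * n⁻¹ * w⁻¹) * v⁻¹) := by group
      _ = n * v * n⁻¹ * (v⁻¹ * (n * w * n⁻¹ * w⁻¹)) := by rw [h3]
      _ = _ := by group) (by
    intro x hx
    show n * x * n⁻¹ * x⁻¹ = 1
    have h3 := mem_closure_comm (Q := Q) (f := (MulAut.conj n).toMonoidHom) (by
      intro v hv w hw
      show n * (v * w * v⁻¹ * w⁻¹) * n⁻¹ = v * w * v⁻¹ * w⁻¹
      set a := n * v * n⁻¹ * v⁻¹ with ha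
      set b := n * w * n⁻¹ * w⁻¹ with hb
      have haX : a ∈ X := h2 v hv
      have hbX : b ∈ X := h2 w hw
      have e1 : n * v * n⁻¹ = a * v := by rw [ha]; group
      have e2 : n * w * n⁻¹ = b * w := by rw [hb]; group
      have c1 : a * (b * w) = b * w * a := cX a haX _ (mul_mem (S.QP (S.XQ hbX)) (S.QP hw))
      have c2 : a⁻¹ * (b * w)⁻¹ = (b * w)⁻¹ * a⁻¹ := by rw [← mul_inv_rev, ← mul_inv_rev, c1]
      have c3 : b * v⁻¹ = v⁻¹ * b := cX b hbX _ (inv_mem (S.QP hv))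
      have c4 : b * v = v * b := cX b hbX _ (S.QP hv)
      have c5 : a * v = v * a := cX a haX _ (S.QP hv)
      calc n * (v * w * v⁻¹ * w⁻¹) * n⁻¹ = (n * v * n⁻¹) * (n * w * n⁻¹) * (n * v * n⁻¹)⁻¹ * (n * w * n⁻¹)⁻¹ := by
            group
        _ = (a * v) * (b * w) * (a * v)⁻¹ * (b * w)⁻¹ := by rw [e1, e2]
        _ = (v * a) * (b * w) * (v * a)⁻¹ * (b * w)⁻¹ := by rw [c5]
        _ = v * (a * (b * w)) * a⁻¹ * v⁻¹ * (b * w)⁻¹ := by group
        _ = v * (b * w * a) * a⁻¹ * v⁻¹ * (b * w)⁻¹ := by rw [c1]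
        _ = (v * b) * w * v⁻¹ * w⁻¹ * b⁻¹ := by group
        _ = (b * v) * w * v⁻¹ * w⁻¹ * b⁻¹ := by rw [← c4]
        _ = b * (v * w * v⁻¹ * w⁻¹) * b⁻¹ := by group
        _ = (v * w * v⁻¹ * w⁻¹) * b * b⁻¹ := by
          rw [cX b hbX (v * w * v⁻¹ * w⁻¹) (mul_mem (mul_mem (mul_mem (S.QP hv) (S.QP hw)) (inv_mem (S.QP hv)))
            (inv_mem (S.QP hw)))]
        _ = _ := by group) x (S.XQQ hx)
    have h4 : n * x * n⁻¹ = x := h3
    rw [h4, mul_inv_cancel]) (by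
    intro p hp
    have hq0 : p⁻¹ * (n * p * n⁻¹) ∈ Q := by
      have h3 := S.PQ p⁻¹ (inv_mem hp) _ (h1 p hp)
      have e : p⁻¹ * (n * p * n⁻¹ * p⁻¹) * p⁻¹⁻¹ = p⁻¹ * (n * p * n⁻¹) := by group
      rwa [e] at h3
    refine ⟨p⁻¹ * (n * p * n⁻¹), hq0, fun v hv => ?_⟩
    set q0 := p⁻¹ * (n * p * n⁻¹) with hq0d
    show n * (p * v * p⁻¹) * n⁻¹ * (p * v * p⁻¹)⁻¹ = n * v * n⁻¹ * v⁻¹ * (q0 * v * q0⁻¹ * v⁻¹)
    have e1 : n * p * n⁻¹ = p * q0 := by rw [hq0d]; group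
    set a := n * v * n⁻¹ * v⁻¹ with ha
    have haX : a ∈ X := h2 v hv
    have e2 : n * v * n⁻¹ = a * v := by rw [ha]; group
    have hc : q0 * v * q0⁻¹ * v⁻¹ ∈ X := S.QQ q0 hq0 v hv
    calc n * (p * v * p⁻¹) * n⁻¹ * (p * v * p⁻¹)⁻¹
        = (n * p * n⁻¹) * (n * v * n⁻¹) * (n * p * n⁻¹)⁻¹ * p * v⁻¹ * p⁻¹ := by group
      _ = (p * q0) * (a * v) * (p * q0)⁻¹ * p * v⁻¹ * p⁻¹ := by rw [e1, e2]
      _ = ((p * q0) * a) * v * q0⁻¹ * v⁻¹ * p⁻¹ := by group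
      _ = (a * (p * q0)) * v * q0⁻¹ * v⁻¹ * p⁻¹ := by rw [cX a haX _ (mul_mem hp (S.QP hq0))]
      _ = a * (p * (q0 * v * q0⁻¹ * v⁻¹)) * p⁻¹ := by group
      _ = a * ((q0 * v * q0⁻¹ * v⁻¹) * p) * p⁻¹ := by rw [cX _ hc p hp]
      _ = _ := by group)
  -- `c = q⁻¹ n`
  have hqt := hPt q (S.QP hq)
  have hc : ∀ y ∈ Q, (q⁻¹ * n) * y = y * (q⁻¹ * n) := by
    intro y hy
    have h3 : n * y * n⁻¹ * y⁻¹ = q * y * q⁻¹ * y⁻¹ := hf y hy
    have h4 : n * y * n⁻¹ = q * y * q⁻¹ := mul_right_cancel h3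
    calc (q⁻¹ * n) * y = q⁻¹ * (n * y * n⁻¹) * n := by group
      _ = q⁻¹ * (q * y * q⁻¹) * n := by rw [h4]
      _ = _ := by group
  have hqH := PH (S.QP hq)
  have hct : (q⁻¹ * n) * t = t * (q⁻¹ * n) := by
    have h3 : Commute q t := hqt
    have h4 : Commute n t := hNt n hn
    exact (h3.inv_left.mul_left h4).eq
  rcases cenQ _ (mul_mem (inv_mem hqH) (hNH hn)) hct hc with h | h
  · left
    have e : n = q * (q⁻¹ * n) := by group
    rw [e]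
    exact mul_mem hq (S.XQ h)
  · right
    have e : t * n = q * (t * (q⁻¹ * n)) := by
      calc t * n = (t * q) * (q⁻¹ * n) := by group
        _ = (q * t) * (q⁻¹ * n) := by rw [hqt]
        _ = _ := by group
    rw [e]
    exact mul_mem hq (S.XQ h)

end Cfsg.Agent.OddHalf.D7Ex.HThree

end

-- merged: Cfsg.Agent.OddHalf.D7Tw.CenOf
section

/-!
# `K = ²E₆(q)`: the hypotheses `D7Tw.Cen` of THEOREM H (ODD D7, helper628)

`R : RGD` of `K = GG` in `G`, `S : FE.Start K t t`.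

* `hyp` : `D7Ex.HThree.Hyp` for `X ρ ≤ Q ≤ P`; `lin` : `D7Ex.Lin`;
* `AutQ` : an element of `C(t)` centralising `Q` induces a conjugation by an element of `X ρ` on `K`; `autQ_of` : from
  `Front.K1`;
* **`cen`** : `D7Tw.Cen t z (X ρ) P Q`, `1 ≠ z ∈ X ρ`.
-/

set_option autoImplicit false
set_option linter.unusedSectionVars false

namespace Cfsg.Agent.OddHalf.D7Tw.CenOf

open CoxeterSystem Cfsg.Agent.ChevalleyStructure.CoxeterGeom Cfsg.Agent.Tits.Roots Cfsg.Agent.Tits.Core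
  Cfsg.Agent.Tits.RootComb Cfsg.Agent.Tits.Exchange Cfsg.Agent.Nodes.Reps Cfsg.Agent.Nodes.BNOf
  Cfsg.Agent.Nodes.Coroot Cfsg.Agent.Nodes.LeviDec
  Cfsg.Agent.Nodes.Bruhat Cfsg.Agent.Nodes.OppDec Cfsg.Agent.Nodes.StabComb
  Cfsg.Agent.KFacts.RgdPar Cfsg.Agent.KFacts.RgdCent
  Cfsg.Agent.KFacts.RgdSL Cfsg.Agent.KFacts.RgdTI Cfsg.Agent.KFacts.RgdEx Cfsg.Agent.KFacts.RgdOdd
  Cfsg.Agent.Nodes.RGDTwE6 Cfsg.Agent.KFacts.TwESix.Comb Cfsg.Agent.KFacts.TwESix.Btw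
  Cfsg.Agent.KFacts.TwESix.Pair Cfsg.Agent.KFacts.TwESix.Facts Cfsg.Agent.KFacts.TwESix.QRho
  Cfsg.Agent.KFacts.TwESix.Faith Cfsg.Agent.KFacts.TwESix Cfsg.Agent.OddHalf.D7Tw Cfsg.Agent.OddHalf.D7Out
open scoped commutatorElement

variable {W G : Type*} [Group W] [Group G] {cs : CoxeterSystem CoxeterMatrix.F₄ W} {T : Subgroup G}
  {n : Fin 4 → G} {X : (Fin 4 → ℤ) → Subgroup G}

/-- An element of `C(t)` centralising `Q` induces a conjugation by an element of `X ρ` on `K`. -/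
def AutQ (cs : CoxeterSystem CoxeterMatrix.F₄ W) (X : (Fin 4 → ℤ) → Subgroup G) (K : Subgroup G) (t : G) : Prop :=
  ∀ c : G, c * t = t * c → (∀ y ∈ QQ cs X, c * y = y * c) → ∃ z ∈ X rho, ∀ k ∈ K, c * k * c⁻¹ = z * k * z⁻¹

section

variable {R : RGD cs isCartan 2 T n X} (D : Dat R) {t : G}

include D

theorem hyp (tK : ∀ k ∈ PP cs X, t * k = k * t) : D7Ex.HThree.Hyp t (X rho) (QQ cs X) (PP cs X) where
  XQ := le_QQ (rho_root cs) (by decide)
  QP := QQ_le_PP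
  tP := tK
  XP := fun x hx p hp => cen_PP D hx hp
  PQ := fun p hp q hq => (Subgroup.mem_normalizer_iff.1 (PP_normalizer R hp) q).1 hq
  XQQ := by
    have := (loc D).XQQ
    rwa [QS_eq (cs := cs)] at this
  QQ := fun v hv w hw => by
    have := (loc D).QQ (v := v) (w := w) (by rw [QS_eq (cs := cs)]; exact hv) (by rw [QS_eq (cs := cs)]; exact hw)
    exact this
  E2 := by
    have h := (loc D).E2
    rw [QS_eq (cs := cs)] at h
    exact fun f h1 h2 h3 h4 => h f h1 h2 h3 h4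

theorem lin [Finite G] : D7Ex.Lin (X rho) (QQ cs X) (PP cs X) := by
  have h := (loc D).linD
  rwa [QS_eq (cs := cs)] at h

/-- **The hypotheses `D7Tw.Cen`.** -/
theorem cen [Finite G] (hab : ∀ a ∈ T, ∀ b ∈ T, a * b = b * a) {K : Subgroup G} (hK : GG cs isCartan T X = K)
    (S : Front.FE.Start K t t) (hs : Cfsg.Agent.Schreier.Basic.Sch ↥K) (hA : AutQ cs X K t) {z : G}
    (hz : z ∈ X rho) (hz1 : z ≠ 1) : Cen t z (X rho) (PP cs X) (QQ cs X) := by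
  have S0 := S.toStart0
  have hKt : ∀ k ∈ K, k * t = t * k := S0.Kt
  have hPK : PP cs X ≤ K := hK ▸ PP_le_GG
  have hPt : ∀ p ∈ PP cs X, p * t = t * p := fun p hp => hKt p (hPK hp)
  have hPz : ∀ p ∈ PP cs X, p * z = z * p := fun p hp => (cen_PP D hz hp).symm
  -- `P` is the largest perfect subgroup of `C(t) ∩ C(z)`
  have top : ∀ E : Subgroup G, ⁅E, E⁆ = E → (∀ d ∈ E, d * t = t * d) → (∀ d ∈ E, d * z = z * d) →
      E ≤ PP cs X := by
    intro E hE hEt hEz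
    have h1 : E ≤ K := FrGen.perf_le S0 hs hEt hE
    exact perfect_le D hab hz hz1 hE (hK ▸ h1) hEz
  have tinv : t⁻¹ = t := inv_eq_of_mul_eq_one_left S0.tt
  have cjE : ∀ c, c * t = t * c → c * z = z * c → ∀ E : Subgroup G, (∀ d ∈ E, d * t = t * d) →
      (∀ d ∈ E, d * z = z * d) → (∀ d ∈ cj c E, d * t = t * d) ∧ ∀ d ∈ cj c E, d * z = z * d := by
    intro c hct hcz E hEt hEz
    constructor
    · intro d hd
      rw [mem_cj] at hd
      have h1 : Commute (c⁻¹ * d * c) t := hEt _ hd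
      have h2 : Commute c t := hct
      have e : d = c * (c⁻¹ * d * c) * c⁻¹ := by group
      rw [e]
      exact ((h2.mul_left h1).mul_left h2.inv_left).eq
    · intro d hd
      rw [mem_cj] at hd
      have h1 : Commute (c⁻¹ * d * c) z := hEz _ hd
      have h2 : Commute c z := hcz
      have e : d = c * (c⁻¹ * d * c) * c⁻¹ := by group
      rw [e]
      exact ((h2.mul_left h1).mul_left h2.inv_left).eq
  have cinv : ∀ {c x : G}, c * x = x * c → c⁻¹ * x = x * c⁻¹ := by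
    intro c x h
    have h1 : Commute c x := h
    exact h1.inv_left.eq
  -- `C(t) ∩ C(z)` normalises `P`
  have nP1 : ∀ c, c * t = t * c → c * z = z * c → cj c (PP cs X) ≤ PP cs X := by
    intro c hct hcz
    obtain ⟨h1, h2⟩ := cjE c hct hcz _ hPt hPz
    refine top _ ?_ h1 h2
    show ⁅(PP cs X).map _, (PP cs X).map _⁆ = (PP cs X).map _
    rw [← Subgroup.map_commutator, perfect D]
  have nP : ∀ c, c * t = t * c → c * z = z * c → ∀ p ∈ PP cs X, c * p * c⁻¹ ∈ PP cs X := fun c hct hcz p hp =>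
    nP1 c hct hcz (conj_mem_cj.2 hp)
  -- it normalises `Q`
  have nQ : ∀ c, c * t = t * c → c * z = z * c → ∀ y ∈ QQ cs X, c * y * c⁻¹ ∈ QQ cs X := by
    intro c hct hcz y hy
    have h1 : cj c (QQ cs X) ≤ QQ cs X := by
      refine core R ?_ ((isPGroup_QQ R).map _) ?_
      · exact le_trans (cj_mono c QQ_le_PP) (nP1 c hct hcz)
      · intro p hp d hd
        rw [mem_cj] at hd ⊢
        have h2 := nP c⁻¹ (cinv hct) (cinv hcz) p hp
        rw [inv_inv] at h2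
        have h3 := (Subgroup.mem_normalizer_iff.1 (PP_normalizer R h2) _).1 hd
        have e : c⁻¹ * p * c * (c⁻¹ * d * c) * (c⁻¹ * p * c)⁻¹ = c⁻¹ * (p * d * p⁻¹) * c := by group
        rwa [e] at h3
    exact h1 (conj_mem_cj.2 hy)
  have cQ : ∀ c, c * t = t * c → c * z = z * c → (∀ y ∈ QQ cs X, c * y = y * c) → c ∈ X rho ∨ t * c ∈ X rho := by
    intro c hct _ hcQ
    obtain ⟨x, hx, hxc⟩ := hA c hct hcQ
    have hxK : x ∈ K := hPK (le_PP (rho_root cs) (by decide) hx)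
    have h1 : x⁻¹ * c ∈ Subgroup.zpowers t := by
      refine S0.cK _ ?_ fun k hk => ?_
      · have h2 : Commute x t := hKt x hxK
        have h3 : Commute c t := hct
        exact (h2.inv_left.mul_left h3).eq
      · have h2 := hxc k hk
        calc k * (x⁻¹ * c) = x⁻¹ * (x * k * x⁻¹) * c := by group
          _ = x⁻¹ * (c * k * c⁻¹) * c := by rw [h2]
          _ = x⁻¹ * c * k := by group
    have h2 : x⁻¹ * c = 1 ∨ x⁻¹ * c = t := by
      rw [Subgroup.mem_zpowers_iff] at h1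
      obtain ⟨m, hm⟩ := h1
      have h3 : t ^ (2 : ℤ) = 1 := by rw [zpow_two, S0.tt]
      rcases Int.even_or_odd' m with ⟨l, rfl | rfl⟩
      · left
        rw [← hm, zpow_mul, h3, one_zpow]
      · right
        rw [← hm, zpow_add, zpow_mul, h3, one_zpow, one_mul, zpow_one]
    rcases h2 with h2 | h2
    · left
      have e : c = x * (x⁻¹ * c) := by group
      rw [e, h2, mul_one]; exact hx
    · right
      have e : c = x * (x⁻¹ * c) := by group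
      rw [e, h2, ← mul_assoc, ← hKt x hxK, mul_assoc, S0.tt, mul_one]
      exact hx
  refine
    { top := top
      norQ := nQ
      cenQ := cQ
      core := ?_
      irr := ?_ }
  · intro N hNt hNz hN2 hN
    -- in `H = C(z)`
    have hXH : ∀ c, c * t = t * c → c * z = z * c → ∀ x ∈ X rho, c * x * c⁻¹ ∈ X rho := by
      -- `X ρ = Z(Q)`
      intro c hct hcz x hx
      have h1 := nQ c hct hcz x (le_QQ (rho_root cs) (by decide) hx)
      refine (loc D).ZQ (q := c * x * c⁻¹) (by rw [QS_eq (cs := cs)]; exact h1) fun v hv => ?_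
      rw [QS_eq (cs := cs)] at hv
      have h2 := nQ c⁻¹ (cinv hct) (cinv hcz) v hv
      rw [inv_inv] at h2
      have h3 := cen_PP D hx (QQ_le_PP h2)
      calc c * x * c⁻¹ * v = c * (x * (c⁻¹ * v * c)) * c⁻¹ := by group
        _ = c * ((c⁻¹ * v * c) * x) * c⁻¹ := by rw [h3]
        _ = v * (c * x * c⁻¹) := by group
    refine D7Ex.HThree.h3 (H := Subgroup.centralizer ({z} : Set G)) (hyp D fun k hk => (hPt k hk).symm) (lin D)
      (fun p hp => Subgroup.mem_centralizer_singleton_iff.2 (hPz p hp)) ?_ ?_ ?_ N ?_ hNt hN2 ?_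
    · intro h hh ht
      have hh' := Subgroup.mem_centralizer_singleton_iff.1 hh
      exact ⟨nP h ht hh', nQ h ht hh', hXH h ht hh'⟩
    · intro c hc hct h
      exact cQ c hct (Subgroup.mem_centralizer_singleton_iff.1 hc) h
    · intro E hE h2 hn
      exact core R hE h2 hn
    · intro x hx
      exact Subgroup.mem_centralizer_singleton_iff.2 (hNz x hx)
    · intro h hh ht x hx
      exact hN h ht (Subgroup.mem_centralizer_singleton_iff.1 hh) x hx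
  · intro N hNQ hN
    exact irr D hNQ fun p hp x hx => hN p (hPt p hp) (hPz p hp) x hx

end

/-! ### `AutQ` from the model -/

/-- conjugation by an element of the normaliser -/
def cjAut {K : Subgroup G} {c : G} (h : c ∈ Subgroup.normalizer (K : Set G)) : MulAut ↥K where
  toFun k := ⟨c * k * c⁻¹, (Subgroup.mem_normalizer_iff.1 h k).1 k.2⟩
  invFun k := ⟨c⁻¹ * k * c, (Subgroup.mem_normalizer_iff.1 h _).2 (by
    have e : c * (c⁻¹ * (k : G) * c) * c⁻¹ = k := by group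
    rw [e]; exact k.2)⟩
  left_inv k := Subtype.ext (by
    show c⁻¹ * (c * (k : G) * c⁻¹) * c = k
    group)
  right_inv k := Subtype.ext (by
    show c * (c⁻¹ * (k : G) * c) * c⁻¹ = k
    group)
  map_mul' k l := Subtype.ext (by
    show c * ((k : G) * l) * c⁻¹ = (c * k * c⁻¹) * (c * l * c⁻¹)
    group)

/-- `AutQ` from the model `Y ≅ K`: `hk1` = `Cent.aut_k1`. -/
theorem autQ_of {Y : Type*} [Group Y] {X₀ : (Fin 4 → ℤ) → Subgroup Y}
    (hk1 : ∀ α : MulAut Y, (∀ a, IsRoot cs isCartan a → 0 < cpr cs isCartan a rho → ∀ v ∈ X₀ a, α v = v) →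
      ∃ z ∈ X₀ rho, α = MulAut.conj z) {K : Subgroup G} (e : Y ≃* ↥K) {t : G}
    (hn : ∀ c, c * t = t * c → c ∈ Subgroup.normalizer (K : Set G)) :
    AutQ cs (fun x => (X₀ x).map (Front.emb e)) K t := by
  intro c hct hcQ
  have hnK := hn c hct
  obtain ⟨z, hz, hα⟩ := hk1 (e.trans ((cjAut hnK).trans e.symm)) (by
    intro a ha ha0 v hv
    have h1 : Front.emb e v ∈ QQ cs (fun x => (X₀ x).map (Front.emb e)) := by
      refine le_QQ (X := fun x => (X₀ x).map (Front.emb e)) ha ?_ ⟨v, hv, rfl⟩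
      rw [cpr_rho] at ha0
      exact ha0
    have h2 := hcQ _ h1
    have h3 : cjAut hnK (e v) = e v := by
      apply Subtype.ext
      show c * ((e v : ↥K) : G) * c⁻¹ = ((e v : ↥K) : G)
      have h4 : c * ((e v : ↥K) : G) = ((e v : ↥K) : G) * c := h2
      rw [h4, mul_inv_cancel_right]
    show e.symm (cjAut hnK (e v)) = v
    rw [h3, e.symm_apply_apply])
  refine ⟨Front.emb e z, ⟨z, hz, rfl⟩, fun k hk => ?_⟩
  obtain ⟨y, rfl⟩ := Front.exists_emb e hk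
  have h1 := congrArg (fun β : MulAut Y => Front.emb e (β y)) hα
  have h2 : Front.emb e ((e.trans ((cjAut hnK).trans e.symm)) y) = c * Front.emb e y * c⁻¹ := by
    show ((e (e.symm (cjAut hnK (e y))) : ↥K) : G) = _
    rw [e.apply_symm_apply]
    rfl
  have h3 : Front.emb e ((MulAut.conj z) y) = Front.emb e z * Front.emb e y * (Front.emb e z)⁻¹ := by
    rw [MulAut.conj_apply, map_mul, map_mul, map_inv]
  have h4 : Front.emb e ((e.trans ((cjAut hnK).trans e.symm)) y) = Front.emb e ((MulAut.conj z) y) := h1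
  rw [h2, h3] at h4
  exact h4

end Cfsg.Agent.OddHalf.D7Tw.CenOf

end
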