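import Cfsg.Agent.OddHalf.D7Ex.Wab
import Cfsg.Agent.OddHalf.D7Tw.DFour
import Cfsg.Agent.OddHalf.D7Tw.Orbit
import Cfsg.Agent.KFacts.TwESix.Facts
import Cfsg.Agent.OddHalf.SL.General

-- merged: Cfsg.Agent.OddHalf.D7Tw.WabY
section

/-!
# The doubled root groups are abelian, `q > 2`: general form (helper622; copy of helper657's `D7Ex.Wab`)

`PreWY` : `D7Ex.PreW` with the centraliser hypothesis `K2` for a family `Y r s` of subsets of `C(W r) ∩ C(W s)` (twisted
types: `Φ` = the long roots, `Y r s` contains the short root groups). The proofs from (C) on are those of `PreW`.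
-/

set_option autoImplicit false
set_option linter.unusedSectionVars false

namespace Cfsg.Agent.OddHalf.D7Tw

open Subgroup Cfsg.Agent.OddHalf.SL.Defs
open Cfsg.Agent.OddHalf.D7Ex.PreW (d d_conj d_mul comm_of_d eq_t)

variable {L : Type*} [AddCommGroup L] {G : Type*} [Group G]

/-- The doubled root groups before one knows that they are abelian. -/
structure PreWY (t : G) (B : L → L → ℤ) (Φ : Set L) (X W : L → Subgroup G) (Y : L → L → Set G) : Prop where
  roots : Roots B Φ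
  tt : t * t = 1
  tX : ∀ r ∈ Φ, ∀ x ∈ X r, t * x = x * t
  Xsq : ∀ r ∈ Φ, ∀ x ∈ X r, x * x = 1
  XW : ∀ r ∈ Φ, X r ≤ W r
  Wsq : ∀ r ∈ Φ, ∀ w ∈ W r, w * w ∈ X r
  brk : ∀ r ∈ Φ, ∀ w ∈ W r, w⁻¹ * (t * w * t) ∈ X r
  cent : ∀ r ∈ Φ, ∀ w ∈ W r, t * w = w * t → w ∈ X r
  surj : ∀ r ∈ Φ, ∀ x ∈ X r, ∃ w ∈ W r, w⁻¹ * (t * w * t) = x
  WX : ∀ r ∈ Φ, ∀ a ∈ Φ, 0 ≤ B a r → ∀ w ∈ W r, ∀ x ∈ X a, w * x = x * w
  inf : ∀ r ∈ Φ, ∀ s ∈ Φ, B r s = 1 → ∀ x ∈ X r, x ∈ X s → x = 1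
  neg : ∀ r ∈ Φ, ∀ s ∈ Φ, B r s = -1 → ∀ x ∈ X r, ∀ y ∈ X s, x * y * x⁻¹ * y⁻¹ ∈ X (r + s)
  sur : ∀ a ∈ Φ, ∀ b ∈ Φ, B a b = -1 → ∀ y ∈ X b, y ≠ 1 → ∀ z ∈ X (a + b), ∃ x ∈ X a, x * y * x⁻¹ * y⁻¹ = z
  YW : ∀ r ∈ Φ, ∀ s ∈ Φ, B r s = 1 → ∀ c ∈ Y r s, (∀ w ∈ W r, w * c = c * w) ∧ (∀ w ∈ W s, w * c = c * w)
  Yd : ∀ r ∈ Φ, ∀ s ∈ Φ, B r s = 1 → ∀ c ∈ Y r s, ∀ g ∈ X (r - s), ∀ w ∈ W s,
    w * (g⁻¹ * c * g) = (g⁻¹ * c * g) * w
  K2 : ∀ r ∈ Φ, ∀ s ∈ Φ, B r s = 1 → ∀ c, c * t = t * c → (∀ k ∈ Y r s, c * k = k * c) →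
    ∃ x ∈ X r, ∃ y ∈ X s, c = x * y ∨ c = t * (x * y)
  /-- the swap -/
  swap : ∀ r ∈ Φ, ∀ s ∈ Φ, B r s = 1 → ∀ x ∈ X r, ∀ y ∈ X s, x ≠ 1 → y ≠ 1 → ∃ n : G, n * t = t * n ∧
    n * x * n⁻¹ = y ∧ n * y * n⁻¹ = x ∧ (∀ w ∈ W r, n * w * n⁻¹ ∈ W s) ∧ (∀ w ∈ W s, n * w * n⁻¹ ∈ W r)
  three : ∀ r ∈ Φ, ∀ x ∈ X r, ∃ y ∈ X r, y ≠ 1 ∧ y ≠ x

namespace PreWY

variable {t : G} {B : L → L → ℤ} {Φ : Set L} {X W : L → Subgroup G} {Y : L → L → Set G}

theorem d_eq_one (h : PreWY t B Φ X W Y) {r : L} (hr : r ∈ Φ) {w : G} (hw : w ∈ W r) (hd : d t w = 1) : w ∈ X r :=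
  h.cent r hr w hw (eq_t h.tt hd)

theorem inv_X (h : PreWY t B Φ X W Y) {r : L} (hr : r ∈ Φ) {x : G} (hx : x ∈ X r) : x⁻¹ = x :=
  inv_eq_of_mul_eq_one_left (h.Xsq r hr x hx)

/-- (B) -/
theorem stepB (h : PreWY t B Φ X W Y) {r s : L} (hr : r ∈ Φ) (hs : s ∈ Φ) (hrs : B r s = 1) {g u w : G}
    (hg : g ∈ X (r - s)) (hu : u ∈ W s) (hw : w ∈ W r) (hd : d t w = g * d t u * g⁻¹ * (d t u)⁻¹) :
    ∃ x ∈ X r, ∃ y ∈ X s, g * u * g⁻¹ = x * y * (u * w) ∨ g * u * g⁻¹ = t * (x * y) * (u * w) := by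
  have R := h.roots
  have ha : r - s ∈ Φ := R.sub_mem hr hs hrs
  have hsr : B s r = 1 := by rw [R.symm]; exact hrs
  have hgt : g * t = t * g := (h.tX _ ha g hg).symm
  have hdu : d t u ∈ X s := h.brk s hs u hu
  have hduw : d t u * w = w * d t u := (h.WX r hr s hs (by rw [hsr]; norm_num) w hw _ hdu).symm
  have hd1 : d t (g * u * g⁻¹) = d t (u * w) := by
    rw [d_conj hgt, d_mul h.tt hduw, hd]
    have h1 : d t u * (g * d t u * g⁻¹ * (d t u)⁻¹) = (g * d t u * g⁻¹ * (d t u)⁻¹) * d t u := by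
      rw [← hd]
      exact h.WX r hr s hs (by rw [hsr]; norm_num) _ (by
        have := h.brk r hr w hw
        exact h.XW r hr this) _ hdu |>.symm
    rw [h1]; group
  have hc1 := comm_of_d h.tt hd1
  obtain ⟨x, hx, y, hy, e⟩ := h.K2 r hr s hs hrs _ hc1 (by
    intro x hx
    -- `u w` commutes with `x`
    have c1 : u * x = x * u := (h.YW r hr s hs hrs x hx).2 u hu
    have c2 : w * x = x * w := (h.YW r hr s hs hrs x hx).1 w hw
    -- `g u g⁻¹` commutes with `x`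
    have c3 : (g * u * g⁻¹) * x = x * (g * u * g⁻¹) := by
      have c4 : u * (g⁻¹ * x * g) = (g⁻¹ * x * g) * u := h.Yd r hr s hs hrs x hx g hg u hu
      calc g * u * g⁻¹ * x = g * (u * (g⁻¹ * x * g)) * g⁻¹ := by group
        _ = g * ((g⁻¹ * x * g) * u) * g⁻¹ := by rw [c4]
        _ = _ := by group
    have c5 : (u * w)⁻¹ * x = x * (u * w)⁻¹ := by
      have : (u * w) * x = x * (u * w) := by rw [mul_assoc, c2, ← mul_assoc, c1, mul_assoc]
      rw [inv_mul_eq_iff_eq_mul, ← mul_assoc, this, mul_inv_cancel_right]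
    rw [mul_assoc, c5, ← mul_assoc, c3, mul_assoc])
  refine ⟨x, hx, y, hy, ?_⟩
  rcases e with e | e
  · left; rw [← e]; group
  · right; rw [← e]; group

/-- (C) -/
theorem stepC_aux (h : PreWY t B Φ X W Y) {r s : L} (hr : r ∈ Φ) (hs : s ∈ Φ) (hrs : B r s = 1) {u w : G}
    (hu : u ∈ W s) (hw : w ∈ W r) {g x y : G} (hg : g ∈ X (r - s)) (hx : x ∈ X r) (hy : y ∈ X s) :
    (g * u * g⁻¹ = x * y * (u * w) → w * u * w⁻¹ * u⁻¹ ∈ X r) ∧
    (g * u * g⁻¹ = t * (x * y) * (u * w) → ∃ x ∈ X r, w * u * w⁻¹ * u⁻¹ = x * d t u) := by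
  have R := h.roots
  have ha : r - s ∈ Φ := R.sub_mem hr hs hrs
  have hsr : B s r = 1 := by rw [R.symm]; exact hrs
  have h1 : B (r - s) s = -1 := by rw [R.sub_left, hrs, R.two s hs]; norm_num
  have hduX : d t u ∈ X s := h.brk s hs u hu
  have hdwX : d t w ∈ X r := h.brk r hr w hw
  -- commuting facts
  have hXrXs : ∀ x ∈ X r, ∀ y ∈ X s, x * y = y * x := fun x hx y hy =>
    h.WX r hr s hs (by rw [hsr]; norm_num) x (h.XW r hr hx) y hy
  have cu : ∀ x ∈ X r, u * x = x * u := fun x hx => h.WX s hs r hr (by rw [hrs]; norm_num) u hu x hx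
  have cu' : ∀ x ∈ X s, u * x = x * u := fun x hx => h.WX s hs s hs (by rw [R.two s hs]; norm_num) u hu x hx
  have cw : ∀ x ∈ X r, w * x = x * w := fun x hx => h.WX r hr r hr (by rw [R.two r hr]; norm_num) w hw x hx
  have cw' : ∀ x ∈ X s, w * x = x * w := fun x hx => h.WX r hr s hs (by rw [hsr]; norm_num) w hw x hx
  have hu2 := h.Wsq s hs u hu
  have hw2 := h.Wsq r hr w hw
  -- `g u² g⁻¹ = z u²`, `z ∈ X r`
  have hz := h.neg _ ha s hs h1 g hg (u * u) hu2
  rw [sub_add_cancel] at hz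
  obtain ⟨z, hzd⟩ : ∃ z, z = g * (u * u) * g⁻¹ * (u * u)⁻¹ := ⟨_, rfl⟩
  rw [← hzd] at hz
  have hsq : (g * u * g⁻¹) * (g * u * g⁻¹) = z * (u * u) := by rw [hzd]; group
  have hxx := h.Xsq r hr x hx
  have hyy := h.Xsq s hs y hy
  -- the square of `x y u w`
  have hq : (x * y * (u * w)) * (x * y * (u * w)) = (u * w) * (u * w) := by
    have c1 : (u * w) * x = x * (u * w) := by rw [mul_assoc, cw x hx, ← mul_assoc, cu x hx, mul_assoc]
    have c2 : (u * w) * y = y * (u * w) := by rw [mul_assoc, cw' y hy, ← mul_assoc, cu' y hy, mul_assoc]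
    calc (x * y * (u * w)) * (x * y * (u * w)) = x * y * ((u * w) * x) * y * (u * w) := by group
      _ = x * (y * x) * ((u * w) * y) * (u * w) := by rw [c1]; group
      _ = x * (x * y) * (y * (u * w)) * (u * w) := by rw [c2, hXrXs x hx y hy]
      _ = (x * x) * (y * y) * ((u * w) * (u * w)) := by group
      _ = _ := by rw [hxx, hyy, one_mul, one_mul]
  have hw2' : (w * w)⁻¹ ∈ X r := inv_mem hw2
  -- from `(u w)² = k u²`, `k` commuting with `u`, `w`: `[w, u] = k (w w)⁻¹`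
  have key : ∀ k : G, k * u = u * k → (u * w) * (u * w) = k * (u * u) →
      w * u * w⁻¹ * u⁻¹ = k * (w * w)⁻¹ := by
    intro k hk e
    have e1 : w * u = k * u * w⁻¹ := by
      have e2 : u * (w * u) = u * (k * u * w⁻¹) := by
        calc u * (w * u) = (u * w) * (u * w) * w⁻¹ := by group
          _ = (k * u) * u * w⁻¹ := by rw [e]; group
          _ = (u * k) * u * w⁻¹ := by rw [hk]
          _ = u * (k * u * w⁻¹) := by group
      exact mul_left_cancel e2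
    calc w * u * w⁻¹ * u⁻¹ = k * (u * (w * w)⁻¹) * u⁻¹ := by rw [e1]; group
      _ = k * (w * w)⁻¹ := by rw [cu _ hw2']; group
  refine ⟨fun hB => ?_, fun hB => ?_⟩
  · rw [hB, hq] at hsq
    rw [key z (cu z hz).symm hsq]
    exact mul_mem hz hw2'
  · have tinv : t⁻¹ = t := inv_eq_of_mul_eq_one_left h.tt
    -- `(t x y u w)² = (t (x y u w) t) (x y u w)`
    have htx : t * x = x * t := h.tX r hr x hx
    have hty : t * y = y * t := h.tX s hs y hy
    have htu : t * u * t = u * d t u := by unfold d; group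
    have htw : t * w * t = w * d t w := by unfold d; group
    have hq2 : (t * (x * y) * (u * w)) * (t * (x * y) * (u * w)) =
        (d t u * d t w) * ((x * y * (u * w)) * (x * y * (u * w))) := by
      have e1 : t * (x * y) = (x * y) * t := by rw [← mul_assoc, htx, mul_assoc, hty, ← mul_assoc]
      have e2 : (t * (x * y) * (u * w)) * t = x * y * ((t * u * t) * (t * w * t)) := by
        calc (t * (x * y) * (u * w)) * t = x * y * (t * u * 1 * w * t) := by rw [e1]; group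
          _ = x * y * (t * u * (t * t) * w * t) := by rw [h.tt]
          _ = _ := by group
      have e3 : (t * u * t) * (t * w * t) = (d t u * d t w) * (u * w) := by
        rw [htu, htw]
        calc u * d t u * (w * d t w) = (u * d t u) * (d t w * w) := by rw [cw _ hdwX]
          _ = (d t u * u) * (d t w * w) := by rw [cu' _ hduX]
          _ = d t u * (u * d t w) * w := by group
          _ = _ := by rw [cu _ hdwX]; group
      have e4 : x * y * (d t u * d t w) = (d t u * d t w) * (x * y) := by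
        have c1 : x * d t u = d t u * x := hXrXs x hx _ hduX
        have c2 : x * d t w = d t w * x :=
          h.WX r hr r hr (by rw [R.two r hr]; norm_num) x (h.XW r hr hx) _ hdwX
        have c3 : y * d t u = d t u * y :=
          h.WX s hs s hs (by rw [R.two s hs]; norm_num) y (h.XW s hs hy) _ hduX
        have c4 : y * d t w = d t w * y := (hXrXs _ hdwX y hy).symm
        calc x * y * (d t u * d t w) = x * (y * d t u) * d t w := by group
          _ = (x * d t u) * (y * d t w) := by rw [c3]; group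
          _ = d t u * (x * d t w) * y := by rw [c1, c4]; group
          _ = _ := by rw [c2]; group
      calc (t * (x * y) * (u * w)) * (t * (x * y) * (u * w)) =
          ((t * (x * y) * (u * w)) * t) * ((x * y) * (u * w)) := by group
        _ = x * y * ((d t u * d t w) * (u * w)) * ((x * y) * (u * w)) := by rw [e2, e3]
        _ = (x * y * (d t u * d t w)) * (u * w) * ((x * y) * (u * w)) := by group
        _ = _ := by rw [e4]; group
    rw [hB, hq2, hq] at hsq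
    -- `(u w)² = (d u d w)⁻¹ z u²`
    have hzk : (d t u * d t w)⁻¹ * z * u = u * ((d t u * d t w)⁻¹ * z) := by
      have c1 : u * (d t u * d t w)⁻¹ = (d t u * d t w)⁻¹ * u := by
        rw [mul_inv_rev, ← mul_assoc, cu _ (inv_mem hdwX), mul_assoc, cu' _ (inv_mem hduX), mul_assoc]
      rw [← mul_assoc, c1, mul_assoc, ← cu z hz, mul_assoc]
    have hsq' : (u * w) * (u * w) = (d t u * d t w)⁻¹ * z * (u * u) := by
      rw [mul_assoc _ z, ← hsq]; group
    refine ⟨d t w * z * (w * w)⁻¹, mul_mem (mul_mem hdwX hz) hw2', ?_⟩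
    rw [key _ hzk hsq', mul_inv_rev, h.inv_X hr hdwX, h.inv_X hs hduX]
    have c5 := hXrXs _ (mul_mem hz hw2') _ hduX
    calc d t w * d t u * z * (w * w)⁻¹ = d t w * (d t u * (z * (w * w)⁻¹)) := by group
      _ = d t w * ((z * (w * w)⁻¹) * d t u) := by rw [c5]
      _ = _ := by group

/-- (C) -/
theorem stepC (h : PreWY t B Φ X W Y) {r s : L} (hr : r ∈ Φ) (hs : s ∈ Φ) (hrs : B r s = 1) {u w : G}
    (hu : u ∈ W s) (hw : w ∈ W r) (hdu : d t u ≠ 1) :
    w * u * w⁻¹ * u⁻¹ ∈ X r ∨ ∃ x ∈ X r, w * u * w⁻¹ * u⁻¹ = x * d t u := by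
  have R := h.roots
  have ha : r - s ∈ Φ := R.sub_mem hr hs hrs
  have h1 : B (r - s) s = -1 := by rw [R.sub_left, hrs, R.two s hs]; norm_num
  have hduX : d t u ∈ X s := h.brk s hs u hu
  have hdwX : d t w ∈ X r := h.brk r hr w hw
  obtain ⟨g, hg, e⟩ := h.sur _ ha s hs h1 (d t u) hduX hdu (d t w) (by
    rw [sub_add_cancel]; exact hdwX)
  obtain ⟨x, hx, y, hy, hB⟩ := h.stepB hr hs hrs hg hu hw e.symm
  have h2 := h.stepC_aux hr hs hrs hu hw hg hx hy
  rcases hB with hB | hB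
  · exact Or.inl (h2.1 hB)
  · exact Or.inr (h2.2 hB)

/-- `[W r, W s] = 1` -/
theorem comm60 (h : PreWY t B Φ X W Y) {r s : L} (hr : r ∈ Φ) (hs : s ∈ Φ) (hrs : B r s = 1) {u w : G}
    (hu : u ∈ W s) (hw : w ∈ W r) : w * u = u * w := by
  have R := h.roots
  have hsr : B s r = 1 := by rw [R.symm]; exact hrs
  have hXrXs : ∀ x ∈ X r, ∀ y ∈ X s, x * y = y * x := fun x hx y hy =>
    h.WX r hr s hs (by rw [hsr]; norm_num) x (h.XW r hr hx) y hy
  -- the possible values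
  have val : ∀ u ∈ W s, ∀ w ∈ W r, d t u ≠ 1 → d t w ≠ 1 →
      w * u * w⁻¹ * u⁻¹ = 1 ∨ w * u * w⁻¹ * u⁻¹ = d t w * d t u := by
    intro u hu w hw hdu hdw
    have hduX : d t u ∈ X s := h.brk s hs u hu
    have hdwX : d t w ∈ X r := h.brk r hr w hw
    have c1 := h.stepC hr hs hrs hu hw hdu
    have c2 := h.stepC hs hr hsr hw hu hdw
    have e0 : u * w * u⁻¹ * w⁻¹ = (w * u * w⁻¹ * u⁻¹)⁻¹ := by group
    rw [e0] at c2
    obtain ⟨c, hc⟩ : ∃ c, c = w * u * w⁻¹ * u⁻¹ := ⟨_, rfl⟩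
    rw [← hc] at c1 c2 ⊢
    -- the swap
    obtain ⟨n, hnt, hn1, hn2, hnr, hns⟩ := h.swap r hr s hs hrs _ hdwX _ hduX hdw hdu
    have hcc : n * c * n⁻¹ = c⁻¹ := by
      -- `n w n⁻¹ = u y`, `n u n⁻¹ = w x`
      have d1 : d t (n * w * n⁻¹) = d t u := by rw [d_conj hnt]; exact hn1
      have d2 : d t (n * u * n⁻¹) = d t w := by rw [d_conj hnt]; exact hn2
      have hy : (n * w * n⁻¹) * u⁻¹ ∈ X s :=
        h.cent s hs _ (mul_mem (hnr w hw) (inv_mem hu)) (comm_of_d h.tt d1).symm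
      have hx : (n * u * n⁻¹) * w⁻¹ ∈ X r :=
        h.cent r hr _ (mul_mem (hns u hu) (inv_mem hw)) (comm_of_d h.tt d2).symm
      obtain ⟨y, hy'⟩ : ∃ y, y = (n * w * n⁻¹) * u⁻¹ := ⟨_, rfl⟩
      obtain ⟨x, hx'⟩ : ∃ x, x = (n * u * n⁻¹) * w⁻¹ := ⟨_, rfl⟩
      rw [← hy'] at hy
      rw [← hx'] at hx
      have ew : n * w * n⁻¹ = y * u := by rw [hy']; group
      have eu : n * u * n⁻¹ = x * w := by rw [hx']; group
      have cux : u * x = x * u := h.WX s hs r hr (by rw [hrs]; norm_num) u hu x hx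
      have cwx : w * x = x * w := h.WX r hr r hr (by rw [R.two r hr]; norm_num) w hw x hx
      have cwy : w * y = y * w := h.WX r hr s hs (by rw [hsr]; norm_num) w hw y hy
      have cuy : u * y = y * u := h.WX s hs s hs (by rw [R.two s hs]; norm_num) u hu y hy
      have cxy : x * y = y * x := hXrXs x hx y hy
      calc n * c * n⁻¹ = (n * w * n⁻¹) * (n * u * n⁻¹) * (n * w * n⁻¹)⁻¹ * (n * u * n⁻¹)⁻¹ := by
            rw [hc]; group
        _ = (y * u) * (x * w) * (y * u)⁻¹ * (x * w)⁻¹ := by rw [ew, eu]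
        _ = y * (u * x) * w * (u⁻¹ * y⁻¹) * (x * w)⁻¹ := by group
        _ = y * x * u * w * u⁻¹ * y⁻¹ * (x * w)⁻¹ := by rw [cux]; group
        _ = (x * y) * u * w * u⁻¹ * y⁻¹ * (w⁻¹ * x⁻¹) := by rw [← cxy]; group
        _ = x * (y * (u * w * u⁻¹)) * y⁻¹ * w⁻¹ * x⁻¹ := by group
        _ = x * ((u * w * u⁻¹) * y) * y⁻¹ * w⁻¹ * x⁻¹ := by
          have : y * (u * w * u⁻¹) = (u * w * u⁻¹) * y := by
            calc y * (u * w * u⁻¹) = (y * u) * w * u⁻¹ := by group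
              _ = u * (y * w) * u⁻¹ := by rw [← cuy]; group
              _ = u * w * (y * u) * u⁻¹ * u⁻¹ := by rw [← cwy]; group
              _ = u * w * (u * y) * u⁻¹ * u⁻¹ := by rw [← cuy]
              _ = u * w * u * (y * (u⁻¹ * u⁻¹)) := by group
              _ = u * w * u * ((u⁻¹ * u⁻¹) * y) := by
                rw [h.WX s hs s hs (by rw [R.two s hs]; norm_num) _ (mul_mem (inv_mem hu) (inv_mem hu)) y hy]
              _ = _ := by group
          rw [this]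
        _ = (x * (u * w * u⁻¹ * w⁻¹)) * x⁻¹ := by group
        _ = ((u * w * u⁻¹ * w⁻¹) * x) * x⁻¹ := by
          have : x * (u * w * u⁻¹ * w⁻¹) = (u * w * u⁻¹ * w⁻¹) * x := by
            have c1 : x * u = u * x := cux.symm
            have c2 : x * w = w * x := cwx.symm
            have c3 : x * u⁻¹ = u⁻¹ * x :=
              (h.WX s hs r hr (by rw [hrs]; norm_num) _ (inv_mem hu) x hx).symm
            have c4 : x * w⁻¹ = w⁻¹ * x :=
              (h.WX r hr r hr (by rw [R.two r hr]; norm_num) _ (inv_mem hw) x hx).symm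
            calc x * (u * w * u⁻¹ * w⁻¹) = (x * u) * w * u⁻¹ * w⁻¹ := by group
              _ = u * (x * w) * u⁻¹ * w⁻¹ := by rw [c1]; group
              _ = u * w * (x * u⁻¹) * w⁻¹ := by rw [c2]; group
              _ = u * w * u⁻¹ * (x * w⁻¹) := by rw [c3]; group
              _ = _ := by rw [c4]; group
          rw [this]
        _ = c⁻¹ := by rw [hc]; group
    -- `c ∈ {1, x, y, xy}`
    have hcr : c ∈ X r ∨ ∃ a ∈ X r, c = a * d t u := c1
    have hcs : c ∈ X s ∨ ∃ b ∈ X s, c = b * d t w := by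
      rcases c2 with h2 | ⟨b, hb, e⟩
      · left; exact (inv_mem_iff).1 h2
      · right
        refine ⟨b⁻¹, inv_mem hb, ?_⟩
        have : c = (b * d t w)⁻¹ := by rw [← e, inv_inv]
        rw [this, mul_inv_rev, h.inv_X hr hdwX]
        exact hXrXs _ hdwX _ (inv_mem hb)
    have hcc' : ∀ v : G, v * v = 1 → c = v → n * v * n⁻¹ = v := by
      intro v hv e
      rw [← e, hcc, e]
      exact inv_eq_of_mul_eq_one_left hv
    rcases hcr with h1 | ⟨a, ha, h1⟩
    · rcases hcs with h2 | ⟨b, hb, h2⟩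
      · left; exact h.inf r hr s hs hrs c h1 h2
      · -- `c = d w`
        have hb1 : b = 1 := by
          apply h.inf r hr s hs hrs b _ hb
          have : b = c * (d t w)⁻¹ := by rw [h2]; group
          rw [this]; exact mul_mem h1 (inv_mem hdwX)
        rw [hb1, one_mul] at h2
        exfalso
        have h3 := hcc' _ (h.Xsq r hr _ hdwX) h2
        rw [hn1] at h3
        exact hdu (h.inf r hr s hs hrs _ (h3 ▸ hdwX) hduX)
    · rcases hcs with h2 | ⟨b, hb, h2⟩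
      · -- `c = d u`
        have ha1 : a = 1 := by
          apply h.inf r hr s hs hrs a ha
          have : a = c * (d t u)⁻¹ := by rw [h1]; group
          rw [this]; exact mul_mem h2 (inv_mem hduX)
        rw [ha1, one_mul] at h1
        exfalso
        have h3 := hcc' _ (h.Xsq s hs _ hduX) h1
        rw [hn2] at h3
        exact hdu (h.inf r hr s hs hrs _ (h3 ▸ hdwX) hduX)
      · right
        -- `a d u = b d w`
        have h3 : (d t w)⁻¹ * a = b * (d t u)⁻¹ := by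
          have h4 : a * d t u = b * d t w := h1.symm.trans h2
          have h5 : a = b * d t w * (d t u)⁻¹ := by rw [← h4]; group
          have h7 : (d t w)⁻¹ * b = b * (d t w)⁻¹ := hXrXs _ (inv_mem hdwX) _ hb
          calc (d t w)⁻¹ * a = ((d t w)⁻¹ * b) * (d t w * (d t u)⁻¹) := by rw [h5]; group
            _ = b * (d t u)⁻¹ := by rw [h7]; group
        have h4 : (d t w)⁻¹ * a = 1 := h.inf r hr s hs hrs _ (mul_mem (inv_mem hdwX) ha)
          (h3 ▸ mul_mem hb (inv_mem hduX))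
        rw [h1, ← inv_mul_eq_one.1 h4]
  by_cases hdu : d t u = 1
  · exact h.WX r hr s hs (by rw [hsr]; norm_num) w hw u (h.d_eq_one hs hu hdu)
  by_cases hdw : d t w = 1
  · exact (h.WX s hs r hr (by rw [hrs]; norm_num) u hu w (h.d_eq_one hr hw hdw)).symm
  have hduX : d t u ∈ X s := h.brk s hs u hu
  have hdwX : d t w ∈ X r := h.brk r hr w hw
  obtain ⟨y, hy, hy1, hyx⟩ := h.three r hr _ hdwX
  obtain ⟨w', hw', e'⟩ := h.surj r hr y hy
  have e'' : d t w' = y := e'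
  have cdu : ∀ v ∈ W r, v * d t u = d t u * v := fun v hv => h.WX r hr s hs (by rw [hsr]; norm_num) v hv _ hduX
  have cX : ∀ v ∈ W r, ∀ x ∈ X r, v * x = x * v := fun v hv x hx =>
    h.WX r hr r hr (by rw [R.two r hr]; norm_num) v hv x hx
  have hd2 : d t (w * w') = d t w * y := by
    rw [d_mul h.tt (cX w' hw' _ hdwX).symm, e'']
  have hd2' : d t (w * w') ≠ 1 := by
    rw [hd2]
    intro h1
    apply hyx
    have h2 : y = (d t w)⁻¹ := eq_inv_of_mul_eq_one_right h1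
    rw [h2, h.inv_X hr hdwX]
  have hy1' : d t w' ≠ 1 := by rw [e'']; exact hy1
  have v1 := val u hu w hw hdu hdw
  have v2 := val u hu w' hw' hdu hy1'
  have v3 := val u hu (w * w') (mul_mem hw hw') hdu hd2'
  have hc : w * (w' * u * w'⁻¹ * u⁻¹) = (w' * u * w'⁻¹ * u⁻¹) * w := by
    rcases v2 with h2 | h2
    · rw [h2, mul_one, one_mul]
    · rw [h2, e'', ← mul_assoc, cX w hw y hy, mul_assoc, cdu w hw, ← mul_assoc]
  have e3 : (w * w') * u * (w * w')⁻¹ * u⁻¹ = (w' * u * w'⁻¹ * u⁻¹) * (w * u * w⁻¹ * u⁻¹) := by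
    calc (w * w') * u * (w * w')⁻¹ * u⁻¹ = w * (w' * u * w'⁻¹ * u⁻¹) * (u * w⁻¹ * u⁻¹) := by group
      _ = _ := by rw [hc]; group
  rw [e3, hd2] at v3
  rw [e''] at v2
  have hdudu := h.Xsq s hs _ hduX
  have c12 : ∀ x ∈ X r, d t u * x = x * d t u := fun x hx => (hXrXs x hx _ hduX).symm
  suffices hh : w * u * w⁻¹ * u⁻¹ = 1 by
    calc w * u = (w * u * w⁻¹ * u⁻¹) * (u * w) := by group
      _ = u * w := by rw [hh, one_mul]
  rcases v1 with v1 | v1
  · exact v1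
  exfalso
  rcases v2 with v2 | v2
  · rw [v1, v2, one_mul] at v3
    rcases v3 with v3 | v3
    · -- `d w d u = 1`
      have h1 : d t w = (d t u)⁻¹ := eq_inv_of_mul_eq_one_left v3
      exact hdw (h.inf r hr s hs hrs _ hdwX (h1 ▸ inv_mem hduX))
    · have h1 := mul_right_cancel v3
      exact hy1 (left_eq_mul.1 h1)
  · rw [v1, v2] at v3
    have e4 : y * d t u * (d t w * d t u) = d t w * y := by
      calc y * d t u * (d t w * d t u) = y * (d t u * d t w) * d t u := by group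
        _ = y * (d t w * d t u) * d t u := by rw [c12 _ hdwX]
        _ = (y * d t w) * (d t u * d t u) := by group
        _ = y * d t w := by rw [hdudu, mul_one]
        _ = d t w * y := cX y (h.XW r hr hy) _ hdwX
    rw [e4] at v3
    rcases v3 with v3 | v3
    · exact hd2' (by rw [hd2]; exact v3)
    · exact hdu (left_eq_mul.1 v3)

/-- `W r` is abelian. -/
theorem ab (h : PreWY t B Φ X W Y) {r s : L} (hr : r ∈ Φ) (hs : s ∈ Φ) (hrs : B r s = 1) {v w : G}
    (hv : v ∈ W r) (hw : w ∈ W r) : v * w = w * v := by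
  have R := h.roots
  have hsr : B s r = 1 := by rw [R.symm]; exact hrs
  have ha : r - s ∈ Φ := R.sub_mem hr hs hrs
  have cX : ∀ v ∈ W r, ∀ x ∈ X r, v * x = x * v := fun v hv x hx =>
    h.WX r hr r hr (by rw [R.two r hr]; norm_num) v hv x hx
  have hdwX : d t w ∈ X r := h.brk r hr w hw
  by_cases hdw : d t w = 1
  · exact cX v hv w (h.d_eq_one hr hw hdw)
  -- `u ∈ W s` with `d u ≠ 1`
  obtain ⟨y, hy, hy1, -⟩ := h.three s hs 1 (one_mem _)
  obtain ⟨u, hu, e⟩ := h.surj s hs y hy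
  have e' : d t u = y := e
  have h1 : B (r - s) s = -1 := by rw [R.sub_left, hrs, R.two s hs]; norm_num
  obtain ⟨g, hg, e2⟩ := h.sur _ ha s hs h1 y hy hy1 (d t w) (by rw [sub_add_cancel]; exact hdwX)
  rw [← e'] at e2
  obtain ⟨x, hx, z, hz, hB⟩ := h.stepB hr hs hrs hg hu hw e2.symm
  have cg : v * g = g * v := h.WX r hr _ ha (by rw [R.sub_left, R.two r hr, hsr]; norm_num) v hv g hg
  have cu : v * u = u * v := h.comm60 hr hs hrs hu hv
  have cgi : v * g⁻¹ = g⁻¹ * v :=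
    h.WX r hr _ ha (by rw [R.sub_left, R.two r hr, hsr]; norm_num) v hv _ (inv_mem hg)
  have cx : v * x = x * v := cX v hv x hx
  have cz : v * z = z * v := h.WX r hr s hs (by rw [hsr]; norm_num) v hv z hz
  have c1 : v * (g * u * g⁻¹) = (g * u * g⁻¹) * v := by
    calc v * (g * u * g⁻¹) = (v * g) * u * g⁻¹ := by group
      _ = g * (v * u) * g⁻¹ := by rw [cg]; group
      _ = g * u * (v * g⁻¹) := by rw [cu]; group
      _ = _ := by rw [cgi]; group
  have cxz : v * (x * z) = (x * z) * v := by rw [← mul_assoc, cx, mul_assoc, cz, mul_assoc]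
  rcases hB with hB | hB
  · rw [hB] at c1
    have c2 : x * z * u * (v * w) = x * z * u * (w * v) := by
      calc x * z * u * (v * w) = x * z * (u * v) * w := by group
        _ = (x * z * v) * u * w := by rw [← cu]; group
        _ = v * (x * z * (u * w)) := by rw [← cxz]; group
        _ = x * z * (u * w) * v := c1
        _ = _ := by group
    exact mul_left_cancel c2
  · -- `τ = t` : impossible, square (B)
    exfalso
    have hcomm : w * u = u * w := h.comm60 hr hs hrs hu hw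
    obtain ⟨a, ha', e3⟩ := (h.stepC_aux hr hs hrs hu hw hg hx hz).2 hB
    have e4 : w * u * w⁻¹ * u⁻¹ = 1 := by rw [hcomm]; group
    rw [e4] at e3
    have h2 : a = (d t u)⁻¹ := eq_inv_of_mul_eq_one_left e3.symm
    have hduX : d t u ∈ X s := h.brk s hs u hu
    have h3 := h.inf r hr s hs hrs a ha' (h2 ▸ inv_mem hduX)
    apply hy1
    rw [← e']
    rw [h3, one_mul] at e3
    exact e3.symm

end PreWY

end Cfsg.Agent.OddHalf.D7Tw

end

-- merged: Cfsg.Agent.OddHalf.D7Tw.Long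
section

/-!
# `²E₆(q)`: the doubled long root groups (helper622)

`R : RGD cs isCartan 2 T n X` of type `F₄` in a group `G`, `D : Facts.Dat R`, `DV : YO R t rho V`: the doubled root groups
along the orbit of `ρ` (= the long roots = `Phi`, type `D₄`).

* `XL X x = X (c x)`, `YY cs X r s` : all `X a`, `⟨a, r⟩ ≥ 0`, `⟨a, s⟩ ≥ 0`, `a` long or short;
* `YW`, `Yd`, `Ym` : the hypotheses of `SL.General.PreY` on `YY`;
* `preWY` : `D7Tw.PreWY`, `wab` : the `V r` are abelian for `|X r| > 2`;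
* `preY` : `SL.General.PreY` from `H1`, `H0`, `Hm`.
-/

set_option autoImplicit false
set_option linter.unusedSectionVars false

namespace Cfsg.Agent.OddHalf.D7Tw.Long

open CoxeterSystem Cfsg.Agent.ChevalleyStructure.CoxeterGeom Cfsg.Agent.Tits.Roots Cfsg.Agent.Tits.Core
  Cfsg.Agent.Tits.RootComb Cfsg.Agent.Nodes.Reps Cfsg.Agent.Nodes.BNOf Cfsg.Agent.Nodes.Coroot
  Cfsg.Agent.Nodes.Bruhat Cfsg.Agent.Nodes.OppDec
  Cfsg.Agent.KFacts.RgdSL Cfsg.Agent.KFacts.RgdTI Cfsg.Agent.KFacts.RgdOdd Cfsg.Agent.KFacts.RgdEx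
  Cfsg.Agent.Nodes.RGDTwE6 Cfsg.Agent.KFacts.TwESix.Comb Cfsg.Agent.KFacts.TwESix.CombRho
  Cfsg.Agent.KFacts.TwESix.Facts Cfsg.Agent.OddHalf.SL.Defs
  Cfsg.Agent.OddHalf.D7Tw Cfsg.Agent.OddHalf.D7Tw.Orbit Cfsg.Agent.OddHalf.D7Tw.DFour
open scoped commutatorElement

variable {W G : Type*} [Group W] [Group G] {cs : CoxeterSystem CoxeterMatrix.F₄ W} {T : Subgroup G} {n : Fin 4 → G}
  {X : (Fin 4 → ℤ) → Subgroup G}

/-- the groups along the long roots -/
def XL (X : (Fin 4 → ℤ) → Subgroup G) (x : Fin 4 → ℤ) : Subgroup G := X (c x)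

/-- all root groups `X a` with `⟨a, r⟩ ≥ 0`, `⟨a, s⟩ ≥ 0` -/
def YY (cs : CoxeterSystem CoxeterMatrix.F₄ W) (X : (Fin 4 → ℤ) → Subgroup G) (r s : Fin 4 → ℤ) : Set G :=
  {k | ∃ a, IsRoot cs isCartan a ∧ 0 ≤ bf a (c r) ∧ 0 ≤ bf a (c s) ∧ k ∈ X a}

theorem mem_O {r : Fin 4 → ℤ} (hr : IsRoot cs isCartan r) (hl : bf r r = 4) : r ∈ O cs isCartan rho := by
  obtain ⟨w, hw⟩ := exists_rep_long cs hr hl
  obtain ⟨w', hw'⟩ := exists_rep_long cs (rho_root cs) rho_long
  refine ⟨w * w'⁻¹, ?_⟩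
  rw [rep_mul_apply, ← hw', rep_inv_apply, hw]

theorem c_mem_O {x : Fin 4 → ℤ} (hx : x ∈ Phi) : c x ∈ O cs isCartan rho := mem_O (root cs hx) (long hx)

/-- the long roots, `⟨a, b⟩ < 0` -/
theorem neg_cases : ∀ a ∈ rts, ∀ b ∈ rts, bf b b = 4 → bf a b < 0 → bf a b = -2 ∨ a = -b := by decide +kernel

theorem long_neg : ∀ a ∈ rts, ∀ b ∈ rts, bf b b = 4 → bf a a = 4 → bf a b = -2 → 2 * bf a b = - bf a a := by
  decide +kernel

variable {R : RGD cs isCartan 2 T n X}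

theorem card_ne {x y : Fin 4 → ℤ} (hx : x ∈ Phi) (hy : y ∈ Phi) (hxy : B x y = 1) : c x ≠ c y := by
  intro h
  have := c_inj h
  rw [this, roots.two y hy] at hxy
  omega

section YO

variable {t : G} {V : (Fin 4 → ℤ) → Subgroup G} (D : Dat R) (DV : YO R t rho V)

include DV

theorem V_comm {r a : Fin 4 → ℤ} (hr : r ∈ Phi) (ha : IsRoot cs isCartan a) (h0 : 0 ≤ bf a (c r)) {w k : G}
    (hw : w ∈ V (c r)) (hk : k ∈ X a) : w * k = k * w :=
  DV.WX (c r) (c_mem_O hr) a ha ((ge_iff cs (root cs hr) (long hr)).2 h0) w hw k hk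

theorem YW : ∀ r ∈ Phi, ∀ s ∈ Phi, ∀ k ∈ YY cs X r s,
    (∀ w ∈ XL V r, w * k = k * w) ∧ (∀ w ∈ XL V s, w * k = k * w) := by
  rintro r hr s hs k ⟨a, ha, har, has, hk⟩
  exact ⟨fun w hw => V_comm DV hr ha har hw hk, fun w hw => V_comm DV hs ha has hw hk⟩

theorem Ym : ∀ r ∈ Phi, ∀ s ∈ Phi, B r s = -1 → ∀ k ∈ YY cs X r s, ∀ w ∈ XL V (r + s), w * k = k * w := by
  rintro r hr s hs hrs k ⟨a, ha, har, has, hk⟩ w hw
  refine V_comm DV (roots.add r hr s hs hrs) ha ?_ hw hk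
  rw [map_add, bf_add_right]; omega

include D

theorem Yd : ∀ r ∈ Phi, ∀ s ∈ Phi, B r s = 1 → ∀ k ∈ YY cs X r s, ∀ g ∈ XL X (r - s), ∀ w ∈ XL V s,
    w * (g⁻¹ * k * g) = (g⁻¹ * k * g) * w := by
  rintro r hr s hs hrs k ⟨a, ha, har, has, hk⟩ g hg w hw
  have : Finite W := finiteW cs
  have hd : r - s ∈ Phi := roots.sub_mem hr hs hrs
  have hdr := root cs hd
  have hdl := long hd
  have hg' : g ∈ X (c (r - s)) := hg
  have hw' : w ∈ V (c s) := hw
  have e1 : bf a (c (r - s)) = bf a (c r) - bf a (c s) := by rw [map_sub, bf_sub_right]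
  have e2 : bf (c (r - s)) (c s) = -2 := by
    rw [bf_c, roots.sub_left, hrs, roots.two s hs]; norm_num
  have e3 : bf (c (r - s)) (c r) = 2 := by
    rw [bf_c, roots.sub_left, roots.two r hr, roots.symm s r, hrs]; norm_num
  by_cases h0 : 0 ≤ bf a (c (r - s))
  · have h1 : k * g = g * k := comm_long D ha hdr hdl h0 hk hg'
    have h2 : g⁻¹ * k * g = k := by rw [mul_assoc, h1]; group
    rw [h2]
    exact V_comm DV hs ha has hw' hk
  rcases neg_cases a ((mem_rts cs).1 ha) _ ((mem_rts cs).1 hdr) hdl (by omega) with h4 | h4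
  swap
  · rw [h4, bf_neg_left, e3] at har
    omega
  have h5 : 2 ≤ bf a (c s) := by omega
  -- the roots between `a` and `d`
  have key : ∀ z, Btwn cs isCartan a (c (r - s)) z → 0 ≤ bf z (c s) := by
    intro z hz
    rcases norm cs ha with hn | hn
    · have h6 : z = a + c (r - s) := btwn_a2 cs ha hdr (by rw [hn, hdl]) (by rw [h4, hn]; norm_num) hz
      rw [h6, bf_add_left, e2]; omega
    · rcases btwn_135 cs hdl hn (by rw [bf_comm]; exact h4) hz.symm with h6 | h6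
      · rw [h6, bf_add_left, e2]; omega
      · rw [h6, bf_add_left, e2, bf_smul_left]; omega
  have hne : a ≠ c (r - s) := by
    rintro h6
    rw [h6, hdl] at h4
    omega
  have hne' : a ≠ -(c (r - s)) := by
    rintro h6
    rw [h6, bf_neg_left, hdl] at h4
    omega
  have h6 := R.comm a (c (r - s)) ha hdr hne hne' k⁻¹ (inv_mem hk) g⁻¹ (inv_mem hg')
  have h7 : btw cs isCartan X a (c (r - s)) ≤ Subgroup.centralizer {w} := by
    refine iSup_le fun z => ?_
    intro y hy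
    rw [Subgroup.mem_centralizer_singleton_iff]
    exact (V_comm DV hs z.2.1 (key z.1 z.2) hw' hy).symm
  have h8 := h7 h6
  rw [Subgroup.mem_centralizer_singleton_iff, commutatorElement_def, inv_inv, inv_inv] at h8
  have h9 : w * k = k * w := V_comm DV hs ha has hw' hk
  have e : g⁻¹ * k * g = k * (k⁻¹ * g⁻¹ * k * g) := by group
  rw [e]
  calc w * (k * (k⁻¹ * g⁻¹ * k * g)) = (w * k) * (k⁻¹ * g⁻¹ * k * g) := by group
    _ = k * (w * (k⁻¹ * g⁻¹ * k * g)) := by rw [h9]; group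
    _ = k * (k⁻¹ * g⁻¹ * k * g) * w := by rw [← h8]; group

/-- the element `k` swapping `x ∈ X r` and `y ∈ X s` -/
theorem swap (tN : ∀ w k, Rp cs R.nsys w k → t * k = k * t) : ∀ r ∈ Phi, ∀ s ∈ Phi, B r s = 1 →
    ∀ x ∈ XL X r, ∀ y ∈ XL X s, x ≠ 1 → y ≠ 1 → ∃ n : G, n * t = t * n ∧
    n * x * n⁻¹ = y ∧ n * y * n⁻¹ = x ∧ (∀ w ∈ XL V r, n * w * n⁻¹ ∈ XL V s) ∧
    (∀ w ∈ XL V s, n * w * n⁻¹ ∈ XL V r) := by
  intro r hr s hs hrs x hx y hy hx1 hy1
  have : Finite W := finiteW cs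
  have hsr : B s r = 1 := by rw [roots.symm]; exact hrs
  have hA : A2 cs isCartan (c r - c s) (c s) := by
    rw [← map_sub]
    exact a2_of cs (roots.sub_mem hr hs hrs) hs (by rw [roots.sub_left, hrs, roots.two s hs]; norm_num)
  have hA' : A2 cs isCartan (c s - c r) (c r) := by
    rw [← map_sub]
    exact a2_of cs (roots.sub_mem hs hr hsr) hr (by rw [roots.sub_left, hsr, roots.two r hr]; norm_num)
  refine DV.swap (rho_root cs) tN (c_mem_O hr) (c_mem_O hs) hA hA' (fun x hx => sq R (root cs hr) hx)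
    (fun x hx => sq R (root cs hs) hx) (fun u hu v hv => ?_) (fun u hu hu' => ?_) hx hy hx1 hy1
  · exact comm_long D (root cs hr) (root cs hs) (long hs) (by rw [bf_c, hrs]; norm_num) hu hv
  · have h7 := X_inf_X R (root cs hr) (root cs hs) (card_ne hr hs hrs)
    have h8 : u ∈ X (c r) ⊓ X (c s) := ⟨hu, hu'⟩
    rwa [h7, Subgroup.mem_bot] at h8

/-- **The hypotheses of `PreWY.ab`.** -/
theorem preWY (tt : t * t = 1) (tX : ∀ a, IsRoot cs isCartan a → ∀ x ∈ X a, t * x = x * t)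
    (tN : ∀ w k, Rp cs R.nsys w k → t * k = k * t)
    (K2 : ∀ r ∈ Phi, ∀ s ∈ Phi, B r s = 1 → ∀ k, k * t = t * k → (∀ y ∈ YY cs X r s, k * y = y * k) →
      ∃ x ∈ XL X r, ∃ y ∈ XL X s, k = x * y ∨ k = t * (x * y))
    (three : ∀ r ∈ Phi, ∀ x ∈ XL X r, ∃ y ∈ XL X r, y ≠ 1 ∧ y ≠ x) :
    PreWY t B Phi (XL X) (XL V) (YY cs X) where
  roots := roots
  tt := tt
  tX := fun r hr x hx => tX _ (root cs hr) x hx
  Xsq := fun r hr x hx => sq R (root cs hr) hx
  XW := fun r hr => DV.XW _ (c_mem_O hr)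
  Wsq := fun r hr => DV.sq _ (c_mem_O hr)
  brk := fun r hr => DV.brk _ (c_mem_O hr)
  cent := fun r hr => DV.cent _ (c_mem_O hr)
  surj := fun r hr => DV.surj _ (c_mem_O hr)
  WX := fun r hr a ha h0 w hw x hx => V_comm DV hr (root cs ha) (by rw [bf_c]; omega) hw hx
  inf := fun r hr s hs hrs u hu hu' => by
    have : Finite W := finiteW cs
    have h7 := X_inf_X R (root cs hr) (root cs hs) (card_ne hr hs hrs)
    have h8 : u ∈ X (c r) ⊓ X (c s) := ⟨hu, hu'⟩
    rwa [h7, Subgroup.mem_bot] at h8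
  neg := fun r hr s hs hrs x hx y hy => by
    have : Finite W := finiteW cs
    have h := (a2_of cs hr hs hrs).comm_mem R hx hy
    rw [commutatorElement_def, ← map_add] at h
    exact h
  sur := fun a ha b hb hab y hy hy1 z hz => by
    have : Finite W := finiteW cs
    have hz' : z⁻¹ ∈ X (c b + c a) := by
      rw [add_comm, ← map_add]; exact inv_mem hz
    obtain ⟨v, hv, e⟩ := (a2_of cs ha hb hab).symm.comm_surj R hy hy1 hz'
    refine ⟨v, hv, ?_⟩
    have h1 : ⁅v, y⁆ = z := by rw [← commutatorElement_inv, e, inv_inv]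
    rw [← h1, commutatorElement_def]
  YW := fun r hr s hs _ k hk => YW DV r hr s hs k hk
  Yd := Yd D DV
  K2 := K2
  swap := swap D DV tN
  three := three

/-- **The doubled root groups are abelian.** -/
theorem wab (tt : t * t = 1) (tX : ∀ a, IsRoot cs isCartan a → ∀ x ∈ X a, t * x = x * t)
    (tN : ∀ w k, Rp cs R.nsys w k → t * k = k * t)
    (K2 : ∀ r ∈ Phi, ∀ s ∈ Phi, B r s = 1 → ∀ k, k * t = t * k → (∀ y ∈ YY cs X r s, k * y = y * k) →
      ∃ x ∈ XL X r, ∃ y ∈ XL X s, k = x * y ∨ k = t * (x * y))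
    (three : ∀ r ∈ Phi, ∀ x ∈ XL X r, ∃ y ∈ XL X r, y ≠ 1 ∧ y ≠ x) :
    ∀ r ∈ Phi, ∀ v ∈ XL V r, ∀ w ∈ XL V r, v * w = w * v := by
  intro r hr v hv w hw
  obtain ⟨s, hs, hrs⟩ := lg_one r hr
  exact (preWY D DV tt tX tN K2 three).ab hr hs hrs hv hw

/-- **`SL.General.PreY`** for the doubled long root groups. -/
theorem preY (tt : t * t = 1) (tX : ∀ a, IsRoot cs isCartan a → ∀ x ∈ X a, t * x = x * t)
    (tN : ∀ w k, Rp cs R.nsys w k → t * k = k * t) {K : Subgroup G} (htK : t ∉ K)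
    (hXK : ∀ a, IsRoot cs isCartan a → X a ≤ K)
    (three : ∀ r ∈ Phi, ∀ x ∈ XL X r, ∃ y ∈ XL X r, y ≠ 1 ∧ y ≠ x)
    (H1 : ∀ r ∈ Phi, ∀ s ∈ Phi, B r s = 1 → ∀ k, k * t = t * k → (∀ y ∈ YY cs X r s, k * y = y * k) →
      ∃ x ∈ XL X r, ∃ y ∈ XL X s, k = x * y ∨ k = t * (x * y))
    (H0 : ∀ r ∈ Phi, ∀ s ∈ Phi, B r s = 0 → ∀ k, k * t = t * k → (∀ y ∈ YY cs X r s, k * y = y * k) →
      (∀ a ∈ Phi, B a r = 1 → B a s = -1 → ∀ y ∈ XL X a, k * y = y * k) →
      (∀ a ∈ Phi, B a r = -1 → B a s = 1 → ∀ y ∈ XL X a, k * y = y * k) →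
      ∃ x ∈ XL X r, ∃ y ∈ XL X s, k = x * y ∨ k = t * (x * y))
    (Hm : ∀ r ∈ Phi, ∀ s ∈ Phi, B r s = -1 → ∀ k, k * t = t * k → (∀ y ∈ YY cs X r s, k * y = y * k) →
      (∀ y ∈ XL X r, k * y = y * k) → (∀ y ∈ XL X s, k * y = y * k) →
      ∃ x ∈ XL X r, ∃ y ∈ XL X s, ∃ m ∈ XL X (r + s), k = x * y * m ∨ k = t * (x * y * m)) :
    Cfsg.Agent.OddHalf.SL.General.PreY t B Phi (XL X) (XL V) (YY cs X) where
  roots := roots
  tt := tt
  tX := fun r hr x hx => tX _ (root cs hr) x hx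
  tK := fun h => htK ((iSup₂_le fun r hr => hXK _ (root cs hr) : (⨆ r ∈ Phi, XL X r) ≤ K) h)
  Xsq := fun r hr x hx => sq R (root cs hr) hx
  Xne := fun r hr h => by
    obtain ⟨u, hu, hu1⟩ := exists_ne_one R (root cs hr)
    have h2 : u ∈ XL X r := hu
    rw [h, Subgroup.mem_bot] at h2
    exact hu1 h2
  XW := fun r hr => DV.XW _ (c_mem_O hr)
  Wab := wab D DV tt tX tN H1 three
  brk := fun r hr => DV.brk _ (c_mem_O hr)
  cent := fun r hr => DV.cent _ (c_mem_O hr)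
  surj := fun r hr => DV.surj _ (c_mem_O hr)
  WX := fun r hr a ha h0 w hw x hx => V_comm DV hr (root cs ha) (by rw [bf_c]; omega) hw hx
  Xneg := (preWY D DV tt tX tN H1 three).neg
  Xnd := fun r hr s hs hrs x hx y hy hxy => by
    have : Finite W := finiteW cs
    by_contra hc
    push Not at hc
    exact (a2_of cs hr hs hrs).comm_ne_one R hx hc.1 hy hc.2 (commutatorElement_eq_one_iff_mul_comm.2 hxy)
  tri := fun r hr s hs hrs g hg hg1 => by
    have : Finite W := finiteW cs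
    have hd : r - s ∈ Phi := roots.sub_mem hr hs hrs
    have hsr : B s r = 1 := by rw [roots.symm]; exact hrs
    have hd' : s - r ∈ Phi := roots.sub_mem hs hr hsr
    have h1 : cpr cs isCartan (c s) (c r - c s) = -1 := by
      rw [← map_sub, cpr_cc cs s hd, roots.sub_right, hsr, roots.two s hs]; norm_num
    have h2 : 0 ≤ cpr cs isCartan (c s - c r) (c s) := by
      rw [← map_sub, cpr_cc cs (s - r) hs, roots.sub_left, hrs, roots.two s hs]; norm_num
    obtain ⟨k, hk, h3⟩ := DV.tri (c_mem_O hr) (c_mem_O hs) (by rw [← map_sub]; exact root cs hd) h1 h2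
      (g := g) (by rw [← map_sub]; exact hg) hg1
    exact ⟨k, by rw [← map_sub] at hk; exact hk, h3⟩
  YW := YW DV
  Yd := Yd D DV
  Ym := Ym DV
  H1 := H1
  H0 := H0
  Hm := Hm
  orth := lg_orth

end YO

end Cfsg.Agent.OddHalf.D7Tw.Long

end
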