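import Cfsg.Agent.KFacts.TwESix.QRho
import Cfsg.Agent.OddHalf.D7Ex.SetupOf
import Cfsg.Agent.OddHalf.D7Tw.Long
import Cfsg.Agent.OddHalf.D7Out.FrontN
import Cfsg.Agent.KFacts.TwESix.Faith
import Cfsg.Agent.OddHalf.D7Tw.Front
import Cfsg.Agent.KFacts.TwESix.Tor
import Cfsg.Agent.KFacts.TwESix.Cent

-- merged: Cfsg.Agent.OddHalf.D7Tw.ExAbs
section

/-!
# The doubled root group at one long root, any type, `q > 2` (helper622; model: helper657's `D7Ex.SetupOf`)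

* `nP_of_perf` : `n` normalises `P`: perfect subgroups of `C(t)` lie in `K`, `C_K(Z) ≤ T P`;
* `nQ_of_core` : `n` normalises `Q`;
* `KY` : the facts on `t`, `Z`, `P`, `T`; `KY.out_big` : the doubled root group from `Cent`;
* `KY.exists_out` : the doubled root group from `Loc`.
-/

set_option autoImplicit false
set_option linter.style.haveILetI false
set_option linter.unusedSectionVars false
set_option linter.unusedVariables false

namespace Cfsg.Agent.OddHalf.D7Tw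

open Subgroup Cfsg.Agent.OddHalf.D7Ex
open scoped commutatorElement

variable {G : Type*} [Group G]

/-- `T` abelian normalising `P`: `[T P, T P] ≤ P`. -/
theorem commutator_sup_le {T P : Subgroup G} (Tab : ∀ h ∈ T, ∀ k ∈ T, h * k = k * h)
    (TP : ∀ h ∈ T, ∀ p ∈ P, h * p * h⁻¹ ∈ P) : ⁅T ⊔ P, T ⊔ P⁆ ≤ P := by
  have hT : T ≤ normalizer (P : Set G) := by
    intro τ hτ
    rw [mem_normalizer_iff]
    intro p
    refine ⟨fun hp => TP τ hτ p hp, fun hp => ?_⟩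
    have h1 := TP τ⁻¹ (inv_mem hτ) _ hp
    have e : τ⁻¹ * (τ * p * τ⁻¹) * τ⁻¹⁻¹ = p := by group
    rwa [e] at h1
  rw [commutator_le]
  intro a ha b hb
  rw [← SetLike.mem_coe, coe_mul_of_left_le_normalizer_right _ _ hT] at ha hb
  obtain ⟨τ, hτ, p, hp, rfl⟩ := ha
  obtain ⟨σ, hσ, r, hr, rfl⟩ := hb
  have h1 := TP τ hτ p hp
  have h2 := TP (τ * σ) (mul_mem hτ hσ) (r * p⁻¹) (mul_mem hr (inv_mem hp))
  have h3 := TP σ hσ r⁻¹ (inv_mem hr)
  have hc := Tab τ hτ σ hσ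
  have e : ⁅τ * p, σ * r⁆ = (τ * p * τ⁻¹) * (τ * σ * (r * p⁻¹) * (τ * σ)⁻¹) * (σ * r⁻¹ * σ⁻¹) := by
    rw [commutatorElement_def]
    calc τ * p * (σ * r) * (τ * p)⁻¹ * (σ * r)⁻¹
        = (τ * p * τ⁻¹) * ((τ * σ) * (r * p⁻¹) * τ⁻¹ * (r⁻¹ * σ⁻¹)) := by group
      _ = (τ * p * τ⁻¹) * ((τ * σ) * (r * p⁻¹) * (σ * τ)⁻¹ * (σ * r⁻¹ * σ⁻¹)) := by group
      _ = _ := by rw [← hc]; group
  rw [e]
  exact mul_mem (mul_mem h1 h2) h3

/-- **`n` normalises `P`**: `P` perfect, perfect subgroups of `C(t)` lie in `K` and `C_K(Z) ≤ T P`. -/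
theorem nP_of_perf {t : G} {Z P T K : Subgroup G} (tt : t * t = 1) [Finite G]
    (hK : ∀ D : Subgroup G, (∀ x ∈ D, x * t = t * x) → ⁅D, D⁆ = D → D ≤ K)
    (hCK : ∀ c ∈ K, (∀ x ∈ Z, c * x = x * c) → c ∈ T ⊔ P)
    (Tab : ∀ h ∈ T, ∀ k ∈ T, h * k = k * h) (TP : ∀ h ∈ T, ∀ p ∈ P, h * p * h⁻¹ ∈ P)
    (hPC : P ≤ CC t Z) (hP : ⁅P, P⁆ = P) (n : G) (hX : ∀ x ∈ Z, n * x * n⁻¹ ∈ Z)
    (ht : t * (n * t * n⁻¹) ∈ Z) : ∀ p ∈ P, n * p * n⁻¹ ∈ P := by
  intro p hp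
  let R : Subgroup G := P.map (MulAut.conj n).toMonoidHom
  have hR : R ≤ CC t Z := by
    rintro _ ⟨p, hp, rfl⟩
    exact conj_CC tt hX ht (hPC hp)
  have hRp : ⁅R, R⁆ = R := by
    rw [← map_commutator, hP]
  have hRK : R ≤ K := hK R (fun x hx => (mem_CC.1 (hR hx)).1) hRp
  have hRT : R ≤ T ⊔ P := fun x hx => hCK x (hRK hx) (mem_CC.1 (hR hx)).2
  have hRP : R ≤ P := by
    rw [← hRp]
    exact (commutator_mono hRT hRT).trans (commutator_sup_le Tab TP)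
  exact hRP ⟨p, hp, rfl⟩

/-- **`n` normalises `Q`**: `Q` is the largest normal `2`-subgroup of `P`. -/
theorem nQ_of_core {t : G} {Z Q P : Subgroup G} (tt : t * t = 1) [Finite G] (hQ2 : IsPGroup 2 Q) (QP : Q ≤ P)
    (PQ : ∀ p ∈ P, ∀ q ∈ Q, p * q * p⁻¹ ∈ Q)
    (o2 : ∀ R : Subgroup G, R ≤ P → IsPGroup 2 R → (∀ p ∈ P, ∀ x ∈ R, p * x * p⁻¹ ∈ R) → R ≤ Q)
    (nP0 : ∀ n : G, (∀ x ∈ Z, n * x * n⁻¹ ∈ Z) → t * (n * t * n⁻¹) ∈ Z → ∀ p ∈ P, n * p * n⁻¹ ∈ P)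
    (n : G) (hX : ∀ x ∈ Z, n * x * n⁻¹ ∈ Z) (ht : t * (n * t * n⁻¹) ∈ Z) : ∀ q ∈ Q, n * q * n⁻¹ ∈ Q := by
  obtain ⟨hX', ht'⟩ := inv_normX tt hX ht
  let R : Subgroup G := Q.map (MulAut.conj n).toMonoidHom
  have hR : R ≤ Q := by
    apply o2 R
    · rintro _ ⟨q, hq, rfl⟩
      exact nP0 n hX ht _ (QP hq)
    · exact hQ2.map _
    · rintro p hp _ ⟨q, hq, rfl⟩
      have h1 := nP0 n⁻¹ hX' ht' p hp
      refine ⟨_, PQ _ h1 q hq, ?_⟩
      show n * (n⁻¹ * p * n⁻¹⁻¹ * q * (n⁻¹ * p * n⁻¹⁻¹)⁻¹) * n⁻¹ = p * (n * q * n⁻¹) * p⁻¹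
      group
  exact fun q hq => hR ⟨q, hq, rfl⟩

/-! ### The facts -/

/-- The facts on `t`, `Z`, `P` and the torus `T`. -/
structure KY (t : G) (Z P T : Subgroup G) : Prop where
  tt : t * t = 1
  tZ : t ∉ Z
  Z2 : ∀ x ∈ Z, x * x = 1
  ZP : Z ≤ P
  tP : ∀ p ∈ P, t * p = p * t
  cen : ∀ x ∈ Z, ∀ p ∈ P, x * p = p * x
  tT : ∀ h ∈ T, t * h = h * t
  TZ : ∀ h ∈ T, ∀ x ∈ Z, h * x * h⁻¹ ∈ Z
  TP : ∀ h ∈ T, ∀ p ∈ P, h * p * h⁻¹ ∈ P
  Tab : ∀ h ∈ T, ∀ k ∈ T, h * k = k * h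
  cP : ∀ c, t * c = c * t → (∀ p ∈ P, c * p = p * c) → c ∈ Z ∨ t * c ∈ Z

namespace KY

variable {t : G} {Z P T : Subgroup G}

theorem PC (K : KY t Z P T) : P ≤ CC t Z := fun p hp => by
  rw [mem_CC]
  exact ⟨(K.tP p hp).symm, fun x hx => (K.cen x hx p hp).symm⟩

/-- The hypotheses of `Cent`. -/
theorem cent (K : KY t Z P T) (hex : ∀ x ∈ Z, ∃ b : G, (∀ p ∈ P, b * p = p * b) ∧ b * t * b⁻¹ = t * x) :
    Cent t Z P where
  tt := K.tt
  tX := K.tZ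
  X2 := K.Z2
  XP := K.ZP
  tP := K.tP
  Xc := K.cen
  cP := K.cP
  ex := hex

theorem nice (K : KY t Z P T) {h k : G} (hh : h ∈ T) (hk : k ∈ T) : Nice t Z P h k where
  kt := (K.tT k hk).symm
  kX := by
    intro x
    refine ⟨K.TZ k hk x, fun hx => ?_⟩
    have := K.TZ k⁻¹ (inv_mem hk) _ hx
    have e : k⁻¹ * (k * x * k⁻¹) * k⁻¹⁻¹ = x := by group
    rwa [e] at this
  kP := by
    intro p
    refine ⟨K.TP k hk p, fun hp => ?_⟩
    have := K.TP k⁻¹ (inv_mem hk) _ hp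
    have e : k⁻¹ * (k * p * k⁻¹) * k⁻¹⁻¹ = p := by group
    rwa [e] at this
  kh := by
    have e : k * h * k⁻¹ * h⁻¹ = 1 := by rw [K.Tab k hk h hh]; group
    rw [e]; exact one_mem _

/-- `h` is fixed point free on `Z`. -/
theorem fpf (K : KY t Z P T) (Htr : ∀ x ∈ Z, ∀ y ∈ Z, x ≠ 1 → y ≠ 1 → ∃ h ∈ T, h * x * h⁻¹ = y)
    {h : G} (hh : h ∈ T) (hne : ∃ x ∈ Z, h * x * h⁻¹ ≠ x) : ∀ x ∈ Z, h * x * h⁻¹ = x → x = 1 := by
  obtain ⟨x0, hx0, hne⟩ := hne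
  have hx01 : x0 ≠ 1 := by
    rintro rfl
    apply hne; group
  intro x hx e
  by_contra hx1
  apply hne
  obtain ⟨k, hk, ek⟩ := Htr x hx x0 hx0 hx1 hx01
  have hc := K.Tab h hh k hk
  calc h * x0 * h⁻¹ = (h * k) * x * (h * k)⁻¹ := by rw [← ek]; group
    _ = k * (h * x * h⁻¹) * k⁻¹ := by rw [hc]; group
    _ = x0 := by rw [e, ek]

/-- **The doubled root group from `Cent`, `q > 2`.** -/
theorem out_big (K : KY t Z P T) [Finite G] (C : Cent t Z P)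
    (Htr : ∀ x ∈ Z, ∀ y ∈ Z, x ≠ 1 → y ≠ 1 → ∃ h ∈ T, h * x * h⁻¹ = y)
    {h : G} (hh : h ∈ T) {m : ℕ} (hm : Odd m) (hm1 : h ^ m = 1) (hne : ∃ x ∈ Z, h * x * h⁻¹ ≠ x) :
    ∃ W, KR.Out t Z P T W := by
  have hf := K.fpf Htr hh hne
  have hN := K.nice hh hh
  refine ⟨C.Wbig hN m, C.isDbl_big hN hm1 hm hf, fun w hw => ?_, ?_⟩
  · obtain ⟨h1, -⟩ := (C.mem_Wbig hN m).1 hw
    exact C.sq_mem h1
  · intro k hk
    have hle : T ⊔ P ≤
        { carrier := {k | (∀ w ∈ C.Wbig hN m, k * w * k⁻¹ ∈ C.Wbig hN m) ∧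
            ∀ w ∈ C.Wbig hN m, k⁻¹ * w * k ∈ C.Wbig hN m}
          one_mem' := ⟨fun w hw => by simpa using hw, fun w hw => by simpa using hw⟩
          mul_mem' := by
            rintro a b ⟨ha, ha'⟩ ⟨hb, hb'⟩
            refine ⟨fun w hw => ?_, fun w hw => ?_⟩
            · have := ha _ (hb w hw)
              have e : a * b * w * (a * b)⁻¹ = a * (b * w * b⁻¹) * a⁻¹ := by group
              rwa [e]
            · have := hb' _ (ha' w hw)
              have e : (a * b)⁻¹ * w * (a * b) = b⁻¹ * (a⁻¹ * w * a) * b := by group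
              rwa [e]
          inv_mem' := by
            rintro a ⟨ha, ha'⟩
            exact ⟨fun w hw => by simpa using ha' w hw, fun w hw => by simpa using ha w hw⟩ : Subgroup G } := by
      refine sup_le (fun k hk => ⟨fun w hw => C.nice_big hN m (K.nice hh hk) hw, fun w hw => ?_⟩)
        fun k hk => ⟨fun w hw => ?_, fun w hw => ?_⟩
      · have := C.nice_big hN m (K.nice hh (inv_mem hk)) hw
        rwa [inv_inv] at this
      · rw [← (C.isDbl_big hN hm1 hm hf).WP w hw k hk, mul_inv_cancel_right]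
        exact hw
      · rw [mul_assoc, (C.isDbl_big hN hm1 hm hf).WP w hw k hk, inv_mul_cancel_left]
        exact hw
    exact (hle hk).1

/-- **The doubled root group at one root, `q > 2`.** -/
theorem exists_out {ι : Type*} [Finite ι] [Finite G] {X : ι → Subgroup G} {op : ι → ι} {g : Set ι}
    (K : KY t Z P T) (L : Loc X Z P op g) (hP : ⁅P, P⁆ = P)
    (nP0 : ∀ n : G, (∀ x ∈ Z, n * x * n⁻¹ ∈ Z) → t * (n * t * n⁻¹) ∈ Z → ∀ p ∈ P, n * p * n⁻¹ ∈ P)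
    (hQ2 : IsPGroup 2 (QS X Z Set.univ))
    (o2 : ∀ R : Subgroup G, R ≤ P → IsPGroup 2 R → (∀ p ∈ P, ∀ x ∈ R, p * x * p⁻¹ ∈ R) → R ≤ QS X Z Set.univ)
    (Htr : ∀ x ∈ Z, ∀ y ∈ Z, x ≠ 1 → y ≠ 1 → ∃ h ∈ T, h * x * h⁻¹ = y)
    {h : G} (hh : h ∈ T) (hPQ : ∀ p ∈ P, h * p * h⁻¹ * p⁻¹ ∈ QS X Z Set.univ) {m : ℕ} (hm : Odd m)
    (hm1 : h ^ m = 1) (hne : ∃ x ∈ Z, h * x * h⁻¹ ≠ x)
    {n : G} (hX : ∀ x ∈ Z, n * x * n⁻¹ ∈ Z) (ht : t * (n * t * n⁻¹) ∈ Z) (hnt : n * t * n⁻¹ ≠ t) :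
    ∃ W, KR.Out t Z P T W := by
  have S : Setup t Z (QS X Z Set.univ) P T := L.setup K.tt K.tZ K.tP K.tT K.TZ hP fun n hX ht =>
    ⟨nP0 n hX ht, nQ_of_core K.tt hQ2 (L.QS_le_P _) (fun p hp q hq => L.PQ hp hq) o2 nP0 n hX ht⟩
  have hn : n ∈ S.N := by
    refine ⟨hX, fun x hx => ?_, ht⟩
    have := (inv_normX K.tt hX ht).1 x hx
    rwa [inv_inv] at this
  refine K.out_big (K.cent fun x hx => S.exists_cent_of_big ?_ Htr ⟨h, hh, hPQ, hne⟩ hn hnt hx) Htr hh hm hm1 hne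
  exact fun n h2 hQ hX hP q hq => L.lin h2 hQ hX hP hq

end KY

end Cfsg.Agent.OddHalf.D7Tw

end

-- merged: Cfsg.Agent.OddHalf.D7Tw.ExRho
section

/-!
# `²E₆(q)`, `q > 2`: the doubled long root groups (helper622)

`KX R t K`: the facts on `K = GG` (root group datum in `G`), `t` and `K`.

* `KX.ky` : `D7Tw.KY` at `ρ`; `KX.exists_out` : the doubled root group at `ρ` from one element `n`;
* `KX.exists_yo` : `∃ V, YO R t rho V`; `KX.three` : `|X r| > 2`;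
* `KX.swap_Z` : the element `n` of the front normalises `X ρ`; `KX.exists_yo_of_swap`.
-/

set_option autoImplicit false
set_option linter.unusedSectionVars false

namespace Cfsg.Agent.OddHalf.D7Tw.ExRho

open CoxeterSystem Cfsg.Agent.ChevalleyStructure.CoxeterGeom Cfsg.Agent.Tits.Roots Cfsg.Agent.Tits.Core
  Cfsg.Agent.Tits.RootComb Cfsg.Agent.Tits.Exchange Cfsg.Agent.Nodes.Reps Cfsg.Agent.Nodes.BNOf
  Cfsg.Agent.Nodes.Coroot Cfsg.Agent.Nodes.StabComb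
  Cfsg.Agent.Nodes.LeviDec Cfsg.Agent.Nodes.Bruhat Cfsg.Agent.Nodes.OppDec
  Cfsg.Agent.KFacts.RgdPar Cfsg.Agent.KFacts.RgdCent
  Cfsg.Agent.KFacts.RgdSL Cfsg.Agent.KFacts.RgdTI Cfsg.Agent.KFacts.RgdOdd Cfsg.Agent.KFacts.RgdEx
  Cfsg.Agent.Nodes.RGDTwE6 Cfsg.Agent.KFacts.TwESix.Comb Cfsg.Agent.KFacts.TwESix.CombRho
  Cfsg.Agent.KFacts.TwESix.Facts Cfsg.Agent.KFacts.TwESix.QRho Cfsg.Agent.KFacts.TwESix.Faith
  Cfsg.Agent.OddHalf.SL.Defs Cfsg.Agent.OddHalf.D7Ex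
  Cfsg.Agent.OddHalf.D7Tw Cfsg.Agent.OddHalf.D7Tw.Orbit Cfsg.Agent.OddHalf.D7Tw.DFour
  Cfsg.Agent.OddHalf.D7Tw.Long
open scoped commutatorElement

variable {W G : Type*} [Group W] [Group G] {cs : CoxeterSystem CoxeterMatrix.F₄ W} {T : Subgroup G} {n : Fin 4 → G}
  {X : (Fin 4 → ℤ) → Subgroup G}

/-- The facts on `K = GG`, `t` and `G`. -/
structure KX (R : RGD cs isCartan 2 T n X) (t : G) (K : Subgroup G) : Prop where
  dat : Dat R
  gg : GG cs isCartan T X = K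
  Tab : ∀ a ∈ T, ∀ b ∈ T, a * b = b * a
  tt : t * t = 1
  tK : t ∉ K
  Kt : ∀ x ∈ K, t * x = x * t
  /-- perfect subgroups of `C(t)` lie in `K` -/
  perf : ∀ E : Subgroup G, (∀ x ∈ E, x * t = t * x) → ⁅E, E⁆ = E → E ≤ K
  /-- `C(t) ∩ C(P) = ⟨t⟩ × X ρ` -/
  cP : ∀ c, t * c = c * t → (∀ p ∈ PP cs X, c * p = p * c) → c ∈ X rho ∨ t * c ∈ X rho
  /-- `q > 2` -/
  hrho : ∃ k ∈ T ⊓ (X rho ⊔ X (-rho)), ∃ x ∈ X rho, k * x * k⁻¹ ≠ x

theorem TP (R : RGD cs isCartan 2 T n X) : ∀ k ∈ T, ∀ p ∈ PP cs X, k * p * k⁻¹ ∈ PP cs X := by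
  intro k hk p hp
  have hTn : T ≤ Subgroup.normalizer (PP cs X : Set G) := R.T_le_normalizer fun x hx => hx.1
  exact (Subgroup.mem_normalizer_iff.1 (hTn hk) p).1 hp

namespace KX

variable {R : RGD cs isCartan 2 T n X} {t : G} {K : Subgroup G} (E : KX R t K)

include E

theorem TK : T ≤ K := by
  rw [← E.gg]
  exact le_trans (T_le_PS (X := X) (Ω := {b | IsRoot cs isCartan b})) (PS_le_GG fun x hx => hx)

theorem XK {a : Fin 4 → ℤ} (ha : IsRoot cs isCartan a) : X a ≤ K := by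
  rw [← E.gg]
  exact le_trans (X_le_PS (T := T) (Ω := {b | IsRoot cs isCartan b}) ha) (PS_le_GG fun x hx => hx)

theorem PK : PP cs X ≤ K := PP_le fun _ hb _ => E.XK hb

theorem NK {w : W} {k : G} (hk : Rp cs R.nsys w k) : k ∈ K := by
  rw [← E.gg]
  have : Finite W := finiteW cs
  exact NN_le_GG R ⟨_, hk⟩

theorem tX {a : Fin 4 → ℤ} (ha : IsRoot cs isCartan a) {x : G} (hx : x ∈ X a) : t * x = x * t := E.Kt x (E.XK ha hx)

/-- **`KY` at `ρ`.** -/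
theorem ky : KY t (X rho) (PP cs X) T where
  tt := E.tt
  tZ := fun h => E.tK (E.XK (rho_root cs) h)
  Z2 := fun x hx => sq R (rho_root cs) hx
  ZP := le_PP (rho_root cs) (by decide)
  tP := fun p hp => E.Kt p (E.PK hp)
  cen := fun x hx p hp => cen_PP E.dat hx hp
  tT := fun h hh => E.Kt h (E.TK hh)
  TZ := fun h hh x hx => tor_mem R (rho_root cs) hh hx
  TP := TP R
  Tab := E.Tab
  cP := E.cP

/-- an element centralising `X ρ` lies in `T P` -/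
theorem mem_TP {c : G} (hc : c ∈ K) (hcX : ∀ x ∈ X rho, c * x = x * c) : c ∈ T ⊔ PP cs X := by
  obtain ⟨z, hz, hz1⟩ := exists_ne_one R (rho_root cs)
  obtain ⟨τ, hτ, -, p, hp, rfl⟩ := cent_z E.dat (by rw [E.gg]; exact hc) hz hz1 (hcX z hz)
  exact mul_mem (Subgroup.mem_sup_left hτ) (Subgroup.mem_sup_right hp)

/-- an element normalising `X ρ` lies in `T P` -/
theorem mem_TP_of_norm {w : W} {k : G} (hk : Rp cs R.nsys w k) (hw : rep cs isCartan w rho = rho) :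
    k ∈ T ⊔ PP cs X := by
  have : Finite W := finiteW cs
  have L := E.dat.lr rho (rho_root cs) rho_long
  have h1 := (L.mem_normalizer_iff hk).2 hw
  have h2 : k ∈ PS T X (Ge cs isCartan rho) := by
    rw [← L.normalizer]
    exact ⟨h1, by rw [E.gg]; exact E.NK hk⟩
  exact h2

/-- **The doubled root group at `ρ`.** -/
theorem exists_out [Finite G] {m : G} (hX : ∀ x ∈ X rho, m * x * m⁻¹ ∈ X rho) (ht : t * (m * t * m⁻¹) ∈ X rho)
    (hnt : m * t * m⁻¹ ≠ t) : ∃ V₀, KR.Out t (X rho) (PP cs X) T V₀ := by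
  have hPC : PP cs X ≤ CC t (X rho) := E.ky.PC
  obtain ⟨k, hk, x, hx, hne⟩ := E.hrho
  have hkT := (Subgroup.mem_inf.1 hk).1
  have hodd : Odd (Nat.card T) := by
    rw [← Nat.coprime_two_right]; exact R.tcop
  have hg1 : k ^ Nat.card T = 1 := congrArg Subtype.val (pow_card_eq_one' (G := T) (x := ⟨k, hkT⟩))
  have hQS : QS (fun b : Ix => X b.1) (X rho) Set.univ = QQ cs X := QS_eq (cs := cs)
  -- `k` centralises the root groups orthogonal to `ρ`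
  have h0 : ∀ b, IsRoot cs isCartan b → b 0 = 0 → ∀ y ∈ X b, k * y = y * k := by
    intro b hb hb0 y hy
    have h1 : X rho ⊔ X (-rho) ≤ Subgroup.centralizer {y} := by
      refine sup_le (fun u hu => ?_) (fun u hu => ?_)
      · rw [Subgroup.mem_centralizer_singleton_iff]
        exact (comm_long E.dat hb (rho_root cs) rho_long (by rw [bf_rho, hb0]; norm_num) hy hu).symm
      · rw [Subgroup.mem_centralizer_singleton_iff]
        exact (comm_long E.dat hb (rho_root cs).neg (by rw [bf_neg_left, bf_neg_right, rho_long]; norm_num)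
          (by rw [bf_neg_right, bf_rho, hb0]; norm_num) hy hu).symm
    exact Subgroup.mem_centralizer_singleton_iff.1 (h1 (Subgroup.mem_inf.1 hk).2)
  have hPQ : ∀ p ∈ PP cs X, k * p * k⁻¹ * p⁻¹ ∈ QQ cs X := by
    have hN : ∀ p ∈ PP cs X, ∀ q ∈ QQ cs X, p * q * p⁻¹ ∈ QQ cs X := fun p hp q hq =>
      (Subgroup.mem_normalizer_iff.1 (PP_normalizer R hp) q).1 hq
    let S : Subgroup G :=
      { carrier := {p | p ∈ PP cs X ∧ k * p * k⁻¹ * p⁻¹ ∈ QQ cs X}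
        one_mem' := ⟨one_mem _, by rw [mul_one, mul_inv_cancel, inv_one, mul_one]; exact one_mem _⟩
        mul_mem' := by
          rintro a b ⟨ha, ha'⟩ ⟨hb, hb'⟩
          refine ⟨mul_mem ha hb, ?_⟩
          have e : k * (a * b) * k⁻¹ * (a * b)⁻¹ = (k * a * k⁻¹ * a⁻¹) * (a * (k * b * k⁻¹ * b⁻¹) * a⁻¹) := by group
          rw [e]
          exact mul_mem ha' (hN a ha _ hb')
        inv_mem' := by
          rintro a ⟨ha, ha'⟩
          refine ⟨inv_mem ha, ?_⟩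
          have e2 : k * a⁻¹ * k⁻¹ * a⁻¹⁻¹ = a⁻¹ * (k * a * k⁻¹ * a⁻¹)⁻¹ * a⁻¹⁻¹ := by group
          rw [e2]
          exact hN a⁻¹ (inv_mem ha) _ (inv_mem ha') }
    have hle : PP cs X ≤ S := by
      refine PP_le fun b hb hb0 y hy => ⟨le_PP hb hb0 hy, ?_⟩
      by_cases h1 : b 0 = 0
      · rw [h0 b hb h1 y hy]
        have : y * k * k⁻¹ * y⁻¹ = 1 := by group
        rw [this]; exact one_mem _
      · exact mul_mem (le_QQ hb (by omega) (tor_mem R hb hkT hy)) (inv_mem (le_QQ hb (by omega) hy))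
    exact fun p hp => (hle hp).2
  refine E.ky.exists_out (loc E.dat) (perfect E.dat) (nP_of_perf E.tt E.perf (fun c hc hcX => E.mem_TP hc hcX) E.Tab
    (TP R) hPC (perfect E.dat)) ?_ ?_ (fun x hx y hy hx1 hy1 => exists_tor R (rho_root cs) hx hx1 hy hy1) hkT ?_
    hodd hg1 ⟨x, hx, hne⟩ hX ht hnt
  · rw [hQS]; exact isPGroup_QQ R
  · intro S hS h2 hn
    rw [hQS]; exact core R hS h2 hn
  · rw [hQS]; exact hPQ

/-- **The doubled long root groups.** -/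
theorem exists_yo [Finite G] {m : G} (hX : ∀ x ∈ X rho, m * x * m⁻¹ ∈ X rho) (ht : t * (m * t * m⁻¹) ∈ X rho)
    (hnt : m * t * m⁻¹ ≠ t) : ∃ V, YO R t rho V := by
  have : Finite W := finiteW cs
  obtain ⟨V₀, O⟩ := E.exists_out hX ht hnt
  have B : BaseO R t rho V₀ := by
    refine ⟨rho_root cs, O.dbl.XW, O.sq, O.dbl.brk, O.dbl.cent, O.dbl.surj, ?_, fun w k hk hwr v hv => ?_,
      fun w k hk => E.Kt k (E.NK hk)⟩
    · intro a ha h0 w hw x hx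
      rw [cpr_rho] at h0
      exact O.dbl.WP w hw x (le_PP ha h0 hx)
    · exact O.nrm k (E.mem_TP_of_norm hk hwr) v hv
  exact ⟨_, B.yO⟩

/-- `|X r| > 2` -/
theorem three : ∀ r ∈ Phi, ∀ x ∈ XL X r, ∃ y ∈ XL X r, y ≠ 1 ∧ y ≠ x := by
  intro r hr x _
  have : Finite W := finiteW cs
  obtain ⟨k, hk, x0, hx0, hne⟩ := E.hrho
  have hkT := (Subgroup.mem_inf.1 hk).1
  obtain ⟨w, hw⟩ := c_mem_O (cs := cs) hr
  obtain ⟨l, hl⟩ := exists_rp cs R.nsys w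
  have hconj : ∀ y ∈ X rho, l * y * l⁻¹ ∈ XL X r := by
    intro y hy
    have := R.conj_mem hl (rho_root cs) hy
    rwa [hw] at this
  have hx01 : x0 ≠ 1 := by
    rintro rfl
    apply hne; group
  have hy01 : k * x0 * k⁻¹ ≠ 1 := by
    intro h
    apply hx01
    have e : x0 = k⁻¹ * (k * x0 * k⁻¹) * k := by group
    rw [e, h]; group
  have hinj : ∀ {a b : G}, l * a * l⁻¹ = l * b * l⁻¹ → a = b := fun h => mul_left_cancel (mul_right_cancel h)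
  by_cases h : l * x0 * l⁻¹ = x
  · refine ⟨_, hconj _ (tor_mem R (rho_root cs) hkT hx0), fun h1 => hy01 ?_, fun h1 => hne ?_⟩
    · refine hinj (h1.trans ?_); group
    · exact hinj (h1.trans h.symm)
  · refine ⟨_, hconj _ hx0, fun h1 => hx01 ?_, h⟩
    refine hinj (h1.trans ?_); group

/-- The element `m` of the front normalises `X ρ`. -/
theorem swap_Z [Finite G] {S : Subgroup G} {m z : G} (F : D7Out.FrontN.Swap t (X rho) S m z) :
    ∀ x ∈ X rho, m * x * m⁻¹ ∈ X rho := by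
  have hz := F.zZ
  have h1 : ∀ p, m * p * m⁻¹ ∈ PP cs X ↔ p ∈ PP cs X :=
    F.conj_P (perfect E.dat) (fun p hp => (E.Kt p (E.PK hp)).symm) (fun p hp => (cen_PP E.dat hz hp).symm)
      fun L hL hLt hLz => perfect_le E.dat E.Tab hz F.z1 hL (by rw [E.gg]; exact E.perf L hLt hL) hLz
  refine D7Out.FrontN.Swap.conj_Z h1 (le_PP (rho_root cs) (by decide))
    (fun x hx p hp => (cen_PP E.dat hx hp).symm) fun g hg hgP => ?_
  rcases E.cP g (E.Kt g (E.PK hg)) (fun p hp => (hgP p hp).symm) with h | h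
  · exact h
  · exfalso
    apply E.tK
    have e : t = (t * g) * g⁻¹ := by group
    rw [e]
    exact mul_mem (E.XK (rho_root cs) h) (inv_mem (E.PK hg))

/-- **The doubled long root groups**, from the element of the front. -/
theorem exists_yo_of_swap [Finite G] {S : Subgroup G} {m z : G} (F : D7Out.FrontN.Swap t (X rho) S m z) :
    ∃ V, YO R t rho V := by
  refine E.exists_yo (E.swap_Z F) ?_ ?_
  · rw [F.nt, ← mul_assoc, E.tt, one_mul]; exact F.zZ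
  · rw [F.nt]
    intro h
    exact F.z1 (mul_left_cancel (h.trans (mul_one t).symm))

end KX

end Cfsg.Agent.OddHalf.D7Tw.ExRho

end

-- merged: Cfsg.Agent.OddHalf.D7Tw.Inst
section

/-!
# `K ≅ ²E₆(q)` in `G`, `q > 2` even: the root group datum in `G` and the doubled long root groups (helper622)

* `rgdG R e` : the root group datum of `K` in `G`, `XG e X x = (X x).map (emb e)`; `sup_map`, `PP_map`, `QQ_map`,
  `gg_map`, `noCent_map`;
* `kx` : `ExRho.KX` in `G`;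
* **`exists_all`** : in `Ctx G`, `Std G K`, `Cyc K`, `K ≅ ²E₆(q)`: `t`, the output of the front, `KX`, `NoCent` and
  `∃ V, Orbit.YO (rgdG _ e) t rho V`.
-/

set_option autoImplicit false
set_option linter.unusedSectionVars false

namespace Cfsg.Agent.OddHalf.D7Tw.Inst

open CoxeterSystem Cfsg.Agent.ChevalleyStructure.CoxeterGeom Cfsg.Agent.Tits.Roots Cfsg.Agent.Tits.Core
  Cfsg.Agent.Tits.RootComb Cfsg.Agent.Tits.Exchange Cfsg.Agent.Nodes.Reps Cfsg.Agent.Nodes.BNOf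
  Cfsg.Agent.Nodes.Coroot Cfsg.Agent.Nodes.StabComb
  Cfsg.Agent.Nodes.LeviDec Cfsg.Agent.Nodes.Bruhat Cfsg.Agent.Nodes.OppDec
  Cfsg.Agent.KFacts.RgdPar Cfsg.Agent.KFacts.RgdCent
  Cfsg.Agent.KFacts.RgdSL Cfsg.Agent.KFacts.RgdTI Cfsg.Agent.KFacts.RgdOdd Cfsg.Agent.KFacts.RgdEx
  Cfsg.Agent.Nodes.RGDTwE6 Cfsg.Agent.KFacts.TwESix.Comb Cfsg.Agent.KFacts.TwESix.CombRho
  Cfsg.Agent.KFacts.TwESix.Facts Cfsg.Agent.KFacts.TwESix.QRho Cfsg.Agent.KFacts.TwESix.Faith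
  Cfsg.Agent.OddHalf.SL.Defs
  Cfsg.Agent.OddHalf.D7Tw Cfsg.Agent.OddHalf.D7Tw.Orbit Cfsg.Agent.OddHalf.D7Tw.ExRho
  Cfsg.Agent.OddHalf.D7Tw.Front
open scoped commutatorElement

section Over

open Cfsg.Agent.OddHalf.D7Out

variable {G : Type*} [Group G] {K : Subgroup G} {t : G}
variable {W Y : Type*} [Group W] [Group Y] {cs : CoxeterSystem CoxeterMatrix.F₄ W} {T₀ : Subgroup Y} {n : Fin 4 → Y}
  {X : (Fin 4 → ℤ) → Subgroup Y}

/-- the root groups in `G` -/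
abbrev XG (e : Y ≃* ↥K) (X : (Fin 4 → ℤ) → Subgroup Y) : (Fin 4 → ℤ) → Subgroup G := fun x => (X x).map (emb e)

/-- the root group datum in `G` -/
theorem rgdG (R : RGD cs isCartan 2 T₀ n X) (e : Y ≃* ↥K) :
    RGD cs isCartan 2 (T₀.map (emb e)) (fun i => emb e (n i)) (XG e X) :=
  Cfsg.Agent.Nodes.RGDLib.rgd_map_of_injective R (emb e) (emb_injective e)

theorem sup_map (e : Y ≃* ↥K) (S : Set (Fin 4 → ℤ)) : RGD.Sup (XG e X) S = (RGD.Sup X S).map (emb e) := by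
  unfold RGD.Sup
  rw [Subgroup.map_iSup]

theorem PP_map (e : Y ≃* ↥K) : PP cs (XG e X) = (PP cs X).map (emb e) := sup_map e _

theorem QQ_map (e : Y ≃* ↥K) : QQ cs (XG e X) = (QQ cs X).map (emb e) := sup_map e _

theorem map_top (e : Y ≃* ↥K) : (⊤ : Subgroup Y).map (emb e) = K := by
  ext x
  constructor
  · rintro ⟨y, -, rfl⟩
    exact emb_mem e y
  · intro hx
    obtain ⟨y, rfl⟩ := exists_emb e hx
    exact ⟨y, Subgroup.mem_top y, rfl⟩

theorem sup_eq (e : Y ≃* ↥K) (hG1 : RGD.Sup X {x | IsRoot cs isCartan x} = ⊤) :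
    RGD.Sup (XG e X) {x | IsRoot cs isCartan x} = K := by
  rw [sup_map, hG1, map_top]

theorem gg_eq (e : Y ≃* ↥K) (hG1 : RGD.Sup X {x | IsRoot cs isCartan x} = ⊤) :
    GG cs isCartan (T₀.map (emb e)) (XG e X) = K := by
  unfold GG
  rw [sup_eq e hG1]
  refine sup_eq_right.2 ?_
  rintro _ ⟨y, -, rfl⟩
  exact emb_mem e y

theorem noCent_map (e : Y ≃* ↥K) (h : NoCent cs isCartan T₀ X) :
    NoCent cs isCartan (T₀.map (emb e)) (XG e X) := by
  rintro _ ⟨s, hs, rfl⟩ hc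
  rw [h s hs, map_one]
  intro b hb v hv
  apply emb_injective e
  rw [map_mul, map_mul]
  exact hc b hb _ ⟨v, hv, rfl⟩

/-- conjugation by `c ∈ N(K)`, on `Y` -/
def aut (e : Y ≃* ↥K) {c : G} (hc : c ∈ Subgroup.normalizer (K : Set G)) : MulAut Y :=
  MulAut.congr e.symm (Subgroup.normalizerMonoidHom K ⟨c, hc⟩)

theorem emb_aut (e : Y ≃* ↥K) {c : G} (hc : c ∈ Subgroup.normalizer (K : Set G)) (y : Y) :
    emb e (aut e hc y) = c * emb e y * c⁻¹ := by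
  show ((e (e.symm (Subgroup.normalizerMonoidHom K ⟨c, hc⟩ (e y))) : ↥K) : G) = _
  rw [e.apply_symm_apply]
  rfl

/-- `C(t) ∩ C(Q_r) = ⟨t⟩ X r`, and so on: an element inducing an inner automorphism of `K` -/
theorem eq_or_of_aut (e : Y ≃* ↥K) {c : G} (hc : c ∈ Subgroup.normalizer (K : Set G)) (hct : c * t = t * c)
    (hKt : ∀ k ∈ K, t * k = k * t)
    (hcK : ∀ x : G, x * t = t * x → (∀ k ∈ K, x * k = k * x) → x = 1 ∨ x = t) {z : Y}
    (hz : aut e hc = MulAut.conj z) : c = emb e z ∨ c = t * emb e z := by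
  refine Cfsg.Agent.KFacts.TwESix.Cent.eq_or_of_conj hc hct hKt hcK (z := e z) ?_
  ext k
  obtain ⟨y, rfl⟩ := e.surjective k
  have h1 := emb_aut e hc y
  rw [hz, MulAut.conj_apply, map_mul, map_mul, map_inv] at h1
  show c * (e y : G) * c⁻¹ = (e z : G) * (e y : G) * (e z : G)⁻¹
  exact h1.symm

theorem centK (S : Cfsg.Agent.OddHalf.Front.FE.Start K t t) :
    ∀ x : G, x * t = t * x → (∀ k ∈ K, x * k = k * x) → x = 1 ∨ x = t := by
  intro x hx h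
  obtain ⟨i, rfl⟩ := Subgroup.mem_zpowers_iff.1 (S.cK x hx fun k hk => (h k hk).symm)
  have h2 : t ^ (2 : ℤ) = 1 := by
    rw [zpow_ofNat, pow_two]; exact S.tt
  rcases Int.even_or_odd' i with ⟨j, hj | hj⟩
  · left
    rw [hj, zpow_mul, h2, one_zpow]
  · right
    rw [hj, zpow_add, zpow_mul, h2, one_zpow, one_mul, zpow_one]

/-- **`KX` in `G`.** -/
theorem kx [Finite G] {R : RGD cs isCartan 2 T₀ n X} (D : Dat R) (e : Y ≃* ↥K)
    (S : Cfsg.Agent.OddHalf.Front.FE.Start K t t)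
    (hs : Cfsg.Agent.Schreier.Basic.Sch ↥K) (hG1 : RGD.Sup X {x | IsRoot cs isCartan x} = ⊤)
    (hab : ∀ s ∈ T₀, ∀ s' ∈ T₀, s * s' = s' * s) (hNC : NoCent cs isCartan T₀ X)
    (hrho : ∃ k ∈ T₀ ⊓ (X rho ⊔ X (-rho)), ∃ x ∈ X rho, k * x * k⁻¹ ≠ x) : KX (rgdG R e) t K where
  dat := Cfsg.Agent.KFacts.TwESix.Tor.map D (emb e) (emb_injective e)
  gg := gg_eq e hG1
  Tab := by
    rintro _ ⟨a, ha, rfl⟩ _ ⟨b, hb, rfl⟩
    rw [← map_mul, ← map_mul, hab a ha b hb]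
  tt := S.tt
  tK := fun h => S.t1 (S.cen t h fun y hy => S.Kt y hy)
  Kt := fun x hx => (S.Kt x hx).symm
  perf := fun L hLt hL => FrGen.perf_le S.toStart0 hs hLt hL
  cP := by
    intro c hct hcP
    have hc : c ∈ Subgroup.normalizer (K : Set G) := S.nK c hct.symm
    obtain ⟨z, hz, h1⟩ := Cfsg.Agent.KFacts.TwESix.Cent.aut_k1 D (rho_root cs) rho_long hNC hG1 (α := aut e hc) (by
      intro a ha ha0 v hv
      rw [cpr_rho] at ha0
      apply emb_injective e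
      rw [emb_aut]
      have h2 : emb e v ∈ PP cs (XG e X) := le_PP (X := XG e X) ha ha0.le ⟨v, hv, rfl⟩
      rw [hcP _ h2, mul_inv_cancel_right])
    rcases eq_or_of_aut e hc hct.symm (fun k hk => (S.Kt k hk).symm) (centK S) h1 with h2 | h2
    · left
      rw [h2]
      exact ⟨z, hz, rfl⟩
    · right
      rw [h2, ← mul_assoc, S.tt, one_mul]
      exact ⟨z, hz, rfl⟩
  hrho := by
    obtain ⟨k, hk, x, hx, hne⟩ := hrho
    refine ⟨emb e k, Subgroup.mem_inf.2 ⟨⟨k, (Subgroup.mem_inf.1 hk).1, rfl⟩, ?_⟩, emb e x, ⟨x, hx, rfl⟩, fun h => hne ?_⟩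
    · rw [← Subgroup.map_sup]
      exact ⟨k, (Subgroup.mem_inf.1 hk).2, rfl⟩
    · apply emb_injective e
      rw [map_mul, map_mul, map_inv]
      exact h

end Over

/-! ### The instance `²E₆(q)` -/

section Inst

open Cfsg.Lie Cfsg.Agent.OddHalf.D7Out Cfsg.Agent.OddHalf.Iface

universe u

variable {F : Type u} [Field F] [Fintype F] {q : ℕ} {φ : F →+* F}

/-- the output for `K ≅ ²E₆(q)` -/
structure All {G : Type*} [Group G] {K : Subgroup G} {W : Type*} [Group W] (cs : CoxeterSystem CoxeterMatrix.F₄ W)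
    (hφ : ∀ x, φ x = x ^ q) (hqq : ∀ t : F, (t ^ q) ^ q = t) (e : ↥(twistedE6 F q) ≃* ↥K) [CharP F 2] (t : G)
    (T : Subgroup G) (m z : G) (V : (Fin 4 → ℤ) → Subgroup G) : Prop where
  start : Cfsg.Agent.OddHalf.Front.FE.Start K t t
  out : Front.Out t K (PP cs (XG e (X φ q))) (RGD.Sup (XG e (X φ q)) (RGD.Pos cs isCartan)) (XG e (X φ q) rho) T m z
  kx : KX (rgdG (rgd cs hφ hqq 2) e) t K
  nc : NoCent cs isCartan ((Cfsg.Agent.Nodes.RGDTwE6.T F q).map (emb e)) (XG e (X φ q))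
  sup : RGD.Sup (XG e (X φ q)) {x | IsRoot cs isCartan x} = K
  yo : YO (rgdG (rgd cs hφ hqq 2) e) t rho V

/-- **The doubled long root groups for `K ≅ ²E₆(q)`, `q > 2` even.** -/
theorem exists_all {G : Type*} [Group G] (C : Ctx G) {K : Subgroup G} (S : Std G K) (hcyc : Cyc K)
    {W : Type*} [Group W] (cs : CoxeterSystem CoxeterMatrix.F₄ W) [CharP F 2]
    (hφ : ∀ x, φ x = x ^ q) (hqq : ∀ t : F, (t ^ q) ^ q = t) (hq : IsPrimePow q) (hq2 : 2 < q)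
    (hF : Fintype.card F = q ^ 2) (e : ↥(twistedE6 F q) ≃* ↥K) :
    ∃ (t : G) (T : Subgroup G) (m z : G) (V : (Fin 4 → ℤ) → Subgroup G), All cs hφ hqq e t T m z V := by
  have := C.fin
  have : Finite W := finiteW cs
  obtain ⟨h1, h2⟩ := Cfsg.Agent.S1070.result (K := F) hq hF
  have hNC : NoCent cs isCartan (Cfsg.Agent.Nodes.RGDTwE6.T F q) (X φ q) :=
    noCent_of_center (rgd cs hφ hqq 2) (G1_eq_top cs hφ hqq) (center_eq_bot h1 h2)
  have hD : Dat (rgd cs hφ hqq 2) := Cfsg.Agent.KFacts.TwESix.Dat.dat cs hφ hqq hF hq.one_lt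
  have hk1 : K1 cs (X φ q) := by
    intro g hg
    refine Cfsg.Agent.KFacts.TwESix.Cent.k1 hD (rho_root cs) rho_long hNC ?_ fun a ha ha0 v hv => ?_
    · rw [Cfsg.Agent.KFacts.RgdRigid.GG_eq_top (G1_eq_top cs hφ hqq)]
      exact Subgroup.mem_top g
    · rw [cpr_rho] at ha0
      exact hg a ha ha0 v hv
  obtain ⟨t, T, m, z, hst, hO⟩ := Front.front C S hcyc cs hφ hqq hq hF e hk1
  have hkx : KX (rgdG (rgd cs hφ hqq 2) e) t K := by
    refine kx hD e hst ((Cfsg.Agent.Schreier.TwESix.sch hq hF).of_equiv e) (G1_eq_top cs hφ hqq) Front.T_comm hNC ?_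
    obtain ⟨k, hk, h⟩ := Cfsg.Agent.KFacts.TwESix.Tor.hne cs hφ hqq hF hq2 (rho_root cs) rho_long
    obtain ⟨x, hx, hx1⟩ := exists_ne_one (rgd cs hφ hqq 2) (rho_root cs)
    exact ⟨k, hk, x, hx, h x hx hx1⟩
  have hO' : Front.Out t K (PP cs (XG e (X φ q))) (RGD.Sup (XG e (X φ q)) (RGD.Pos cs isCartan))
      (XG e (X φ q) rho) T m z := by
    rw [PP_map, sup_map]
    exact hO
  obtain ⟨V, hV⟩ := hkx.exists_yo_of_swap hO'.sw
  exact ⟨t, T, m, z, V, hst, hO', hkx, noCent_map e hNC, sup_eq e (G1_eq_top cs hφ hqq), hV⟩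

end Inst

end Cfsg.Agent.OddHalf.D7Tw.Inst

end
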