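import Mathlib
import Cfsg.Agent.Lib.ThompsonPQ
import Cfsg.Agent.OddOrderLocal.SylIn
import Cfsg.Agent.OddHalf.D7Tw.BaseOf
import Cfsg.Agent.OddHalf.D7Out.CzComp
import Cfsg.Agent.OddHalf.CaseM.End
import Cfsg.Agent.OddHalf.D8.MainE
import Cfsg.Agent.OddHalf.CaseM.Sign
import Cfsg.Agent.OddHalf.D4.Cut
import Cfsg.Agent.OddHalf.D7Out.RingOut
import Cfsg.Agent.KFacts.TwESix.Tor

-- merged: Cfsg.Agent.OddHalf.D7Out.CzTwo
section

/-!
# Node D7 of S1765, THEOREM H of helper875, parts (5) and (6)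

`H` (= `C_G(z)`) is of characteristic 2: `F0 = O_2(H)` contains its centralizer. `t ∈ H` is an involution whose
centralizer in `H` is known: it contains the perfect group `P`, and `O_2(C_H(t)) ≤ ⟨t⟩ × Q`. Then `t ∉ F0` and
`C_{F0}(t) = Q`. If `Qs` is a doubling of `Q` contained in the normal closure of `Q`, then `F0 = Qs`.
-/

set_option autoImplicit false

namespace Cfsg.Agent.OddHalf.D7Out.CzTwo

open Subgroup
open scoped commutatorElement

variable {G : Type*} [Group G]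

/-- A perfect group `P` normalising `D` whose elements of odd order lie in `D` is contained in `D`. -/
theorem le_of_odd [Finite G] {P D : Subgroup G} (hP : ⁅P, P⁆ = P)
    (hn : ∀ p ∈ P, ∀ d ∈ D, p * d * p⁻¹ ∈ D) (ho : ∀ p ∈ P, Odd (orderOf p) → p ∈ D) : P ≤ D := by
  classical
  have hN : (D.subgroupOf P).Normal := by
    constructor
    rintro ⟨d, hd⟩ hdD ⟨p, hp⟩
    rw [mem_subgroupOf] at hdD ⊢
    exact hn p hp d hdD
  have h2 : IsPGroup 2 (↥P ⧸ D.subgroupOf P) := by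
    intro g
    obtain ⟨x, rfl⟩ := QuotientGroup.mk_surjective g
    have hx0 : orderOf x ≠ 0 := (orderOf_pos x).ne'
    refine ⟨(orderOf x).factorization 2, ?_⟩
    rw [← QuotientGroup.mk_pow, QuotientGroup.eq_one_iff, mem_subgroupOf]
    apply ho
    · exact SetLike.coe_mem _
    · have e1 : orderOf ((x ^ 2 ^ (orderOf x).factorization 2 : ↥P) : G) =
          orderOf (x ^ 2 ^ (orderOf x).factorization 2) := Subgroup.orderOf_coe _
      rw [e1, orderOf_pow]
      have hd : 2 ^ (orderOf x).factorization 2 ∣ orderOf x := Nat.ordProj_dvd _ _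
      rw [Nat.gcd_eq_right hd]
      have := Nat.not_dvd_ordCompl (n := orderOf x) Nat.prime_two hx0
      rw [← Nat.not_even_iff_odd]
      intro he
      exact this he.two_dvd
  by_contra hc
  have hnt : Nontrivial (↥P ⧸ D.subgroupOf P) := by
    rw [← not_subsingleton_iff_nontrivial]
    intro hs
    apply hc
    have h1 : D.subgroupOf P = ⊤ := by
      rw [eq_top_iff]
      intro x _
      rw [← QuotientGroup.eq_one_iff]
      exact Subsingleton.elim _ _
    rwa [subgroupOf_eq_top] at h1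
  have hnil : Group.IsNilpotent (↥P ⧸ D.subgroupOf P) := h2.isNilpotent
  have hlt := Group.IsSolvable.commutator_lt_top_of_nontrivial (↥P ⧸ D.subgroupOf P)
  apply hlt.ne
  have hcP : commutator ↥P = ⊤ := by
    rw [eq_top_iff]
    have h3 : (commutator ↥P).map P.subtype = P := by
      rw [_root_.commutator_def, map_commutator, ← MonoidHom.range_eq_map, range_subtype, hP]
    intro x _
    have hx : (x : G) ∈ (commutator ↥P).map P.subtype := by rw [h3]; exact x.2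
    obtain ⟨y, hy, hyx⟩ := hx
    have : y = x := Subtype.ext hyx
    rw [← this]; exact hy
  have h4 : (commutator ↥P).map (QuotientGroup.mk' (D.subgroupOf P)) =
      commutator (↥P ⧸ D.subgroupOf P) := by
    rw [_root_.commutator_def, _root_.commutator_def, map_commutator, ← MonoidHom.range_eq_map,
      MonoidHom.range_eq_top.2 (QuotientGroup.mk'_surjective _)]
  rw [← h4, hcP, ← MonoidHom.range_eq_map]
  exact MonoidHom.range_eq_top.2 (QuotientGroup.mk'_surjective _)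

/-- A perfect group `P` which commutes with the 2-element `t`, normalises the 2-group `F` and centralises
`C_F(t)` centralises `F`. -/
theorem le_centralizer [Finite G] {P F : Subgroup G} {t : G} (hP : ⁅P, P⁆ = P) (hF : IsPGroup 2 F)
    (tt : t * t = 1) (htP : ∀ p ∈ P, p * t = t * p) (htF : ∀ x ∈ F, t * x * t ∈ F)
    (hPF : ∀ p ∈ P, ∀ x ∈ F, p * x * p⁻¹ ∈ F)
    (hc : ∀ x ∈ F, x * t = t * x → ∀ p ∈ P, p * x = x * p) : P ≤ centralizer (F : Set G) := by
  have tinv : t⁻¹ = t := inv_eq_of_mul_eq_one_left tt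
  have hinv : ∀ p ∈ P, ∀ x ∈ F, p⁻¹ * x * p ∈ F := by
    intro p hp x hx
    simpa using hPF p⁻¹ (inv_mem hp) x hx
  apply le_of_odd hP
  · intro p hp d hd
    rw [mem_centralizer_iff] at hd ⊢
    intro x hx
    have h1 := hd (p⁻¹ * x * p) (hinv p hp x hx)
    calc x * (p * d * p⁻¹) = p * (p⁻¹ * x * p * d) * p⁻¹ := by group
      _ = p * (d * (p⁻¹ * x * p)) * p⁻¹ := by rw [h1]
      _ = p * d * p⁻¹ * x := by group
  · intro p hp hodd
    have h2t : IsPGroup 2 (zpowers t) := by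
      rw [IsPGroup.iff_card]
      rw [Nat.card_zpowers]
      have : orderOf t ∣ 2 ^ 1 := orderOf_dvd_of_pow_eq_one (by rw [pow_one, pow_two, tt])
      obtain ⟨k, -, hk⟩ := (Nat.dvd_prime_pow Nat.prime_two).1 this
      exact ⟨k, hk⟩
    have key := Cfsg.Agent.Lib.ThompsonPQ.thompson_p_times_q 2 (zpowers t) (zpowers p) F h2t
      (by rw [Nat.card_zpowers]; exact hodd.coprime_two_right) hF
      (by
        rw [zpowers_le, mem_centralizer_iff]
        rintro _ ⟨k, rfl⟩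
        exact ((Commute.zpow_left (htP p hp) k).eq))
      (by
        rw [zpowers_le, mem_normalizer_iff]
        intro x
        constructor
        · intro hx; rw [tinv]; exact htF x hx
        · intro hx
          have := htF _ hx
          rw [tinv] at this
          have e : t * (t * x * t) * t = x := by
            calc t * (t * x * t) * t = (t * t) * x * (t * t) := by group
              _ = x := by rw [tt]; group
          rwa [e] at this)
      (by
        rw [zpowers_le, mem_normalizer_iff]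
        intro x
        constructor
        · intro hx; exact hPF p hp x hx
        · intro hx
          have := hinv p hp _ hx
          have e : p⁻¹ * (p * x * p⁻¹) * p = x := by group
          rwa [e] at this)
      (by
        intro x hx'
        obtain ⟨hx, hxt⟩ := mem_inf.1 hx'
        rw [mem_centralizer_iff] at hxt
        rw [mem_centralizer_iff]
        rintro _ ⟨k, rfl⟩
        have h1 := hxt t (mem_zpowers t)
        have h2 : Commute p x := hc x hx h1.symm p hp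
        exact (h2.zpow_left k).eq)
    exact key (mem_zpowers p)

/-- The subgroup `A⟨t⟩` for an involution `t` normalising `A`. -/
def ext (A : Subgroup G) (t : G) (tt : t * t = 1) (ht : ∀ x ∈ A, t * x * t ∈ A) : Subgroup G where
  carrier := {x | x ∈ A ∨ t * x ∈ A}
  one_mem' := Or.inl (one_mem A)
  mul_mem' := by
    rintro x y (hx | hx) (hy | hy)
    · exact Or.inl (mul_mem hx hy)
    · right
      have h := mul_mem (ht x hx) hy
      have e : t * x * t * (t * y) = t * (x * y) := by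
        calc t * x * t * (t * y) = t * x * (t * t) * y := by group
          _ = t * (x * y) := by rw [tt]; group
      rwa [e] at h
    · right
      have h := mul_mem hx hy
      rwa [mul_assoc] at h
    · left
      have h := mul_mem (ht _ hx) hy
      have e : t * (t * x) * t * (t * y) = x * y := by
        calc t * (t * x) * t * (t * y) = (t * t) * x * (t * t) * y := by group
          _ = x * y := by rw [tt]; group
      rwa [e] at h
  inv_mem' := by
    rintro x (hx | hx)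
    · exact Or.inl (inv_mem hx)
    · right
      have h := ht _ (inv_mem hx)
      have e : t * (t * x)⁻¹ * t = t * x⁻¹ := by
        have tinv : t⁻¹ = t := inv_eq_of_mul_eq_one_left tt
        rw [mul_inv_rev, tinv]
        calc t * (x⁻¹ * t) * t = t * x⁻¹ * (t * t) := by group
          _ = t * x⁻¹ := by rw [tt, mul_one]
      rwa [e] at h

theorem mem_ext {A : Subgroup G} {t : G} {tt : t * t = 1} {ht : ∀ x ∈ A, t * x * t ∈ A} {x : G} :
    x ∈ ext A t tt ht ↔ x ∈ A ∨ t * x ∈ A := Iff.rfl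

theorem ext_two {A : Subgroup G} {t : G} {tt : t * t = 1} {ht : ∀ x ∈ A, t * x * t ∈ A}
    (hA : IsPGroup 2 A) : IsPGroup 2 (ext A t tt ht) := by
  rintro ⟨x, hx⟩
  have h2 : x * x ∈ A := by
    rcases mem_ext.1 hx with h | h
    · exact mul_mem h h
    · have h1 := mul_mem (ht _ h) h
      have e : t * (t * x) * t * (t * x) = x * x := by
        calc t * (t * x) * t * (t * x) = (t * t) * x * (t * t) * x := by group
          _ = x * x := by rw [tt]; group
      rwa [e] at h1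
  obtain ⟨k, hk⟩ := hA ⟨x * x, h2⟩
  refine ⟨k + 1, ?_⟩
  ext
  have hk' : (x * x) ^ 2 ^ k = 1 := by
    have := congrArg Subtype.val hk
    simpa using this
  push_cast
  rw [pow_succ', pow_mul, pow_two, hk']

/-- Let the involution `t` act on the 2-group `F`, and let `D` be a `t`-invariant subgroup which contains `C_F(t)`,
such that all involutions of `t D` are conjugate to `t` under `D`. Then `F = D`. -/
theorem eq_of_free [Finite G] {F D : Subgroup G} {t : G} (hF2 : IsPGroup 2 F) (tt : t * t = 1)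
    (htF : t ∉ F) (htn : ∀ x ∈ F, t * x * t ∈ F) (hle : D ≤ F) (ht : ∀ x ∈ D, t * x * t ∈ D)
    (hconj : ∀ x ∈ D, t * x * (t * x) = 1 → ∃ y ∈ D, y * t * y⁻¹ = t * x)
    (hfix : ∀ x ∈ F, x * t = t * x → x ∈ D) : F = D := by
  by_contra hne
  have hlt : D < F := lt_of_le_of_ne hle (Ne.symm hne)
  have hS2 : IsPGroup 2 (ext F t tt htn) := ext_two hF2
  have hlt' : ext D t tt ht < ext F t tt htn := by
    rw [SetLike.lt_iff_le_and_exists]
    constructor
    · rintro x (hx | hx)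
      · exact Or.inl (hle hx)
      · exact Or.inr (hle hx)
    · obtain ⟨x, hx, hx'⟩ := SetLike.exists_of_lt hlt
      refine ⟨x, Or.inl hx, ?_⟩
      rintro (h | h)
      · exact hx' h
      · apply htF
        have e : t = t * x * x⁻¹ := by group
        rw [e]
        exact mul_mem (hle h) (inv_mem hx)
  have hgt := Cfsg.Agent.OddOrderLocal.SylIn.exists_normalizing_gt hS2 hlt'
  obtain ⟨s, hs, hs'⟩ := SetLike.exists_of_lt hgt
  obtain ⟨hsS, hsN⟩ := mem_inf.1 hs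
  have htE : t ∈ ext D t tt ht := Or.inr (by rw [tt]; exact one_mem _)
  -- a representative in `F`
  obtain ⟨f, hf, hfN, hfE⟩ : ∃ f ∈ F, f ∈ normalizer ((ext D t tt ht : Subgroup G) : Set G) ∧
      f ∉ ext D t tt ht := by
    rcases mem_ext.1 hsS with h | h
    · exact ⟨s, h, hsN, hs'⟩
    · refine ⟨t * s, h, mul_mem (le_normalizer htE) hsN, ?_⟩
      intro hc
      apply hs'
      have := mul_mem htE hc
      rwa [← mul_assoc, tt, one_mul] at this
  have h1 : f * t * f⁻¹ ∈ ext D t tt ht := (mem_normalizer_iff.1 hfN t).1 htE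
  have h2 : t * (f * t * f⁻¹) ∈ D := by
    rcases mem_ext.1 h1 with h | h
    · exfalso
      apply htF
      have h3 : f⁻¹ * (f * t * f⁻¹) * f ∈ F := mul_mem (mul_mem (inv_mem hf) (hle h)) hf
      have e : f⁻¹ * (f * t * f⁻¹) * f = t := by group
      rwa [e] at h3
    · exact h
  obtain ⟨y, hy, hyt⟩ := hconj _ h2 (by
    calc t * (t * (f * t * f⁻¹)) * (t * (t * (f * t * f⁻¹)))
        = (t * t) * (f * t * f⁻¹) * (t * t) * (f * t * f⁻¹) := by group
      _ = (f * t * f⁻¹) * (f * t * f⁻¹) := by rw [tt, one_mul, mul_one]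
      _ = f * (t * t) * f⁻¹ := by group
      _ = 1 := by rw [tt]; group)
  have h3 : y * t * y⁻¹ = f * t * f⁻¹ := by
    rw [hyt, ← mul_assoc, tt, one_mul]
  have h4 : (y⁻¹ * f) * t = t * (y⁻¹ * f) := by
    calc (y⁻¹ * f) * t = y⁻¹ * (f * t * f⁻¹) * f := by group
      _ = y⁻¹ * (y * t * y⁻¹) * f := by rw [h3]
      _ = t * (y⁻¹ * f) := by group
  have h5 : y⁻¹ * f ∈ D := hfix _ (mul_mem (inv_mem (hle hy)) hf) h4
  apply hfE
  left
  have e : f = y * (y⁻¹ * f) := by group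
  rw [e]
  exact mul_mem hy h5

/-- The hypotheses of (5). -/
structure Env (H F0 P Q Z : Subgroup G) (t : G) : Prop where
  F_le : F0 ≤ H
  F_conj : ∀ h ∈ H, ∀ x ∈ F0, h * x * h⁻¹ ∈ F0
  F_two : IsPGroup 2 F0
  F_cent : ∀ h ∈ H, (∀ x ∈ F0, h * x = x * h) → h ∈ F0
  t_mem : t ∈ H
  tt : t * t = 1
  P_le : P ≤ H
  P_t : ∀ p ∈ P, p * t = t * p
  P_perf : ⁅P, P⁆ = P
  P_ne : P ≠ ⊥
  Q_le : Q ≤ H
  Q_t : ∀ x ∈ Q, x * t = t * x
  Q_conj : ∀ h ∈ H, h * t = t * h → ∀ x ∈ Q, h * x * h⁻¹ ∈ Q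
  Z_le : Z ≤ Q
  Z_P : ∀ z ∈ Z, ∀ p ∈ P, p * z = z * p
  Z_comm : ∀ a ∈ Z, ∀ b ∈ Z, a * b = b * a
  /-- (H2) -/
  h2 : ∀ x ∈ H, x * t = t * x → (∀ p ∈ P, p * x = x * p) → x ∈ Z ∨ t * x ∈ Z
  /-- (H3) -/
  h3 : ∀ N : Subgroup G, N ≤ H → (∀ x ∈ N, x * t = t * x) → IsPGroup 2 N →
    (∀ h ∈ H, h * t = t * h → ∀ x ∈ N, h * x * h⁻¹ ∈ N) → ∀ x ∈ N, x ∈ Q ∨ t * x ∈ Q
  /-- (H4) -/
  h4 : ∀ N : Subgroup G, N ≤ Q → (∀ h ∈ H, h * t = t * h → ∀ x ∈ N, h * x * h⁻¹ ∈ N) → N ≤ Z ∨ N = Q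
  /-- the y-trick -/
  y : ∃ w ∈ H, ∃ u, t * (w * t * w⁻¹) = u ∧ u * t = t * u ∧ u ∉ Q ∧ t * u ∉ Q

namespace Env

variable {H F0 P Q Z : Subgroup G} {t : G}

theorem tinv (E : Env H F0 P Q Z t) : t⁻¹ = t := inv_eq_of_mul_eq_one_left E.tt

/-- `C_{F0}(t)`. -/
def N (F0 : Subgroup G) (t : G) : Subgroup G := F0 ⊓ centralizer ({t} : Set G)

theorem mem_N {x : G} : x ∈ N F0 t ↔ x ∈ F0 ∧ x * t = t * x := by
  unfold N
  rw [mem_inf, mem_centralizer_singleton_iff]

theorem N_conj (E : Env H F0 P Q Z t) : ∀ h ∈ H, h * t = t * h → ∀ x ∈ N F0 t, h * x * h⁻¹ ∈ N F0 t := by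
  intro h hh ht x hx
  rw [mem_N] at hx ⊢
  refine ⟨E.F_conj h hh x hx.1, ?_⟩
  have h1 : Commute h t := ht
  have h2 : Commute x t := hx.2
  exact ((h1.mul_left h2).mul_left h1.inv_left).eq

theorem N_sub (E : Env H F0 P Q Z t) : ∀ x ∈ N F0 t, x ∈ Q ∨ t * x ∈ Q := by
  apply E.h3
  · intro x hx; exact E.F_le (mem_N.1 hx).1
  · intro x hx; exact (mem_N.1 hx).2
  · exact E.F_two.to_le (fun x hx => (mem_N.1 hx).1)
  · exact E.N_conj

theorem not_mem (E : Env H F0 P Q Z t) : t ∉ F0 := by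
  intro ht
  obtain ⟨w, hw, u, hu, hut, huQ, htu⟩ := E.y
  have h1 : u ∈ F0 := by
    rw [← hu]
    exact mul_mem ht (E.F_conj w hw t ht)
  rcases E.N_sub u (mem_N.2 ⟨h1, hut⟩) with h | h
  · exact huQ h
  · exact htu h

theorem not_all [Finite G] (E : Env H F0 P Q Z t) : ¬ ∀ x ∈ N F0 t, x ∈ Z ∨ t * x ∈ Z := by
  intro hall
  have h1 : P ≤ centralizer (F0 : Set G) := by
    apply le_centralizer E.P_perf E.F_two E.tt E.P_t
    · intro x hx
      have := E.F_conj t E.t_mem x hx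
      rwa [E.tinv] at this
    · intro p hp x hx; exact E.F_conj p (E.P_le hp) x hx
    · intro x hx hxt p hp
      rcases hall x (mem_N.2 ⟨hx, hxt⟩) with h | h
      · exact E.Z_P x h p hp
      · have h2 := E.Z_P _ h p hp
        have h3 := E.P_t p hp
        have e : x = t * (t * x) := by rw [← mul_assoc, E.tt, one_mul]
        calc p * x = p * t * (t * x) := by rw [mul_assoc, ← e]
          _ = t * (p * (t * x)) := by rw [h3, mul_assoc]
          _ = t * (t * x * p) := by rw [h2]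
          _ = x * p := by rw [← mul_assoc, ← e]
  have h2 : P ≤ F0 := by
    intro p hp
    apply E.F_cent p (E.P_le hp)
    intro x hx
    exact ((mem_centralizer_iff.1 (h1 hp)) x hx).symm
  apply E.P_ne
  have h3 : IsPGroup 2 P := E.F_two.to_le h2
  rw [← le_bot_iff]
  apply le_of_odd E.P_perf
  · intro p _ d hd
    rw [mem_bot] at hd ⊢
    rw [hd]; group
  · intro p hp ho
    rw [mem_bot]
    obtain ⟨k, hk⟩ := h3 ⟨p, hp⟩
    have hk' : p ^ 2 ^ k = 1 := by
      have := congrArg Subtype.val hk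
      simpa using this
    have hd := orderOf_dvd_of_pow_eq_one hk'
    obtain ⟨m, -, hm⟩ := (Nat.dvd_prime_pow Nat.prime_two).1 hd
    have hm0 : m = 0 := by
      by_contra h0
      rw [hm] at ho
      exact (Nat.not_odd_iff_even.2 (Nat.even_pow.2 ⟨even_two, h0⟩)) ho
    rw [hm0, pow_zero] at hm
    exact orderOf_eq_one_iff.1 hm

theorem Q_le_N [Finite G] (E : Env H F0 P Q Z t) : Q ≤ N F0 t := by
  have hc : ∀ h ∈ H, h * t = t * h → ∀ x ∈ N F0 t ⊓ Q, h * x * h⁻¹ ∈ N F0 t ⊓ Q := by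
    rintro h hh ht x ⟨hx1, hx2⟩
    exact ⟨E.N_conj h hh ht x hx1, E.Q_conj h hh ht x hx2⟩
  rcases E.h4 (N F0 t ⊓ Q) inf_le_right hc with h | h
  swap
  · rw [← h]; exact inf_le_left
  exfalso
  apply E.not_all
  intro x hx
  rcases E.N_sub x hx with h1 | h1
  · exact Or.inl (h ⟨hx, h1⟩)
  -- `x = t q`: the map `p ↦ [x, p]` is a homomorphism from `P` to `Z`
  apply E.h2 x (E.F_le (mem_N.1 hx).1) (mem_N.1 hx).2
  have hxt := (mem_N.1 hx).2
  have hz : ∀ p ∈ P, p * x * p⁻¹ * x⁻¹ ∈ Z := by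
    intro p hp
    apply h
    rw [mem_inf]
    refine ⟨mul_mem (E.N_conj p (E.P_le hp) (E.P_t p hp) x hx) (inv_mem hx), ?_⟩
    have e : p * x * p⁻¹ * x⁻¹ = (p * (t * x) * p⁻¹) * (t * x)⁻¹ := by
      have c1 : Commute t p := (E.P_t p hp).symm
      have c2 : Commute t x := hxt.symm
      have c3 : Commute t (p * x * p⁻¹ * x⁻¹) :=
        ((c1.mul_right c2).mul_right c1.inv_right).mul_right c2.inv_right
      have h5 : (p * (t * x) * p⁻¹) * (t * x)⁻¹ = (p * t) * x * p⁻¹ * x⁻¹ * t⁻¹ := by group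
      rw [h5, ← c1.eq]
      calc p * x * p⁻¹ * x⁻¹ = (p * x * p⁻¹ * x⁻¹ * t) * t⁻¹ := by group
        _ = (t * (p * x * p⁻¹ * x⁻¹)) * t⁻¹ := by rw [c3.eq]
        _ = t * p * x * p⁻¹ * x⁻¹ * t⁻¹ := by group
    rw [e]
    exact mul_mem (E.Q_conj p (E.P_le hp) (E.P_t p hp) _ h1) (inv_mem h1)
  have hf : ∀ p ∈ P, ∀ q ∈ P, (p * q) * x * (p * q)⁻¹ = (q * p) * x * (q * p)⁻¹ := by
    intro p hp q hq
    have key : ∀ a ∈ P, ∀ b ∈ P, (a * b) * x * (a * b)⁻¹ * x⁻¹ =
        (b * x * b⁻¹ * x⁻¹) * (a * x * a⁻¹ * x⁻¹) := by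
      intro a ha b hb
      have h5 := E.Z_P _ (hz b hb) a ha
      calc (a * b) * x * (a * b)⁻¹ * x⁻¹
          = (a * (b * x * b⁻¹ * x⁻¹)) * (x * a⁻¹ * x⁻¹) := by group
        _ = ((b * x * b⁻¹ * x⁻¹) * a) * (x * a⁻¹ * x⁻¹) := by rw [h5]
        _ = (b * x * b⁻¹ * x⁻¹) * (a * x * a⁻¹ * x⁻¹) := by group
    have h6 := key p hp q hq
    rw [E.Z_comm _ (hz q hq) _ (hz p hp), ← key q hq p hp] at h6
    exact mul_right_cancel h6
  have h7 : ⁅P, P⁆ ≤ centralizer ({x} : Set G) := by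
    rw [commutator_le]
    intro p hp q hq
    rw [mem_centralizer_singleton_iff, commutatorElement_def]
    have h8 := hf p⁻¹ (inv_mem hp) q⁻¹ (inv_mem hq)
    calc p * q * p⁻¹ * q⁻¹ * x
        = (p * q) * ((p⁻¹ * q⁻¹) * x * (p⁻¹ * q⁻¹)⁻¹) * (p⁻¹ * q⁻¹) := by group
      _ = (p * q) * ((q⁻¹ * p⁻¹) * x * (q⁻¹ * p⁻¹)⁻¹) * (p⁻¹ * q⁻¹) := by rw [h8]
      _ = x * (p * q * p⁻¹ * q⁻¹) := by group
  rw [E.P_perf] at h7
  intro p hp
  exact mem_centralizer_singleton_iff.1 (h7 hp)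

/-- `C_{F0}(t) = Q`. -/
theorem fix_iff [Finite G] (E : Env H F0 P Q Z t) (x : G) : x ∈ F0 ∧ x * t = t * x ↔ x ∈ Q := by
  constructor
  · intro hx
    rcases E.N_sub x (mem_N.2 hx) with h | h
    · exact h
    · exfalso
      apply E.not_mem
      have h1 : t * x ∈ F0 := (mem_N.1 (E.Q_le_N h)).1
      have e : t = t * x * x⁻¹ := by group
      rw [e]
      exact mul_mem h1 (inv_mem hx.1)
  · intro hx
    exact mem_N.1 (E.Q_le_N hx)

/-- (6) `F0 = Qs`. -/
theorem eq_of [Finite G] (E : Env H F0 P Q Z t) {Qs : Subgroup G}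
    (hgen : ∀ F : Subgroup G, Q ≤ F → (∀ h ∈ H, ∀ x ∈ F, h * x * h⁻¹ ∈ F) → Qs ≤ F)
    (hQ : Q ≤ Qs) (ht : ∀ x ∈ Qs, t * x * t ∈ Qs)
    (hconj : ∀ x ∈ Qs, t * x * (t * x) = 1 → ∃ y ∈ Qs, y * t * y⁻¹ = t * x) : F0 = Qs := by
  have hle : Qs ≤ F0 := hgen F0 (fun x hx => (mem_N.1 (E.Q_le_N hx)).1) E.F_conj
  have htn : ∀ x ∈ F0, t * x * t ∈ F0 := by
    intro x hx
    have := E.F_conj t E.t_mem x hx
    rwa [E.tinv] at this
  exact eq_of_free E.F_two E.tt E.not_mem htn hle ht hconj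
    (fun x hx hxt => hQ ((E.fix_iff x).1 ⟨hx, hxt⟩))

end Env

/-- The doubled long root groups of `Q` (helper53, #9297): `A i ≤ Q` (all the long root groups in `Q`, or enough of
them), `WA i` the double of `A i`, `W` the double of `Z`. -/
structure Fam (H Q Z W : Subgroup G) (t : G) {ι : Type*} (A WA : ι → Subgroup G) : Prop where
  /-- every `H`-invariant subgroup containing `Q` contains `W` and the `WA i` -/
  gen : ∀ F : Subgroup G, Q ≤ F → (∀ h ∈ H, ∀ x ∈ F, h * x * h⁻¹ ∈ F) → W ≤ F ∧ ∀ i, WA i ≤ F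
  A_le : ∀ i, A i ≤ WA i
  Q_le : Q ≤ Z ⊔ ⨆ i, A i
  brk : ∀ i, ∀ w ∈ WA i, w⁻¹ * (t * w * t) ∈ A i
  onto : ∀ i, ∀ a ∈ A i, ∃ w ∈ WA i, w⁻¹ * (t * w * t) = a
  comm : ∀ i j, ∀ x ∈ WA i, ∀ y ∈ WA j, ⁅x, y⁆ ∈ W
  sq : ∀ i, ∀ x ∈ WA i, x * x ∈ W
  Z_le : Z ≤ W
  W_t : ∀ w ∈ W, t * w * t ∈ W
  W_fix : ∀ w ∈ W, w * t = t * w → w ∈ Z
  W_onto : ∀ z ∈ Z, ∃ w ∈ W, w⁻¹ * (t * w * t) = z
  W_comm : ∀ w ∈ W, ∀ x ∈ W, w * x = x * w
  W_sq : ∀ w ∈ W, w * w = 1
  W_cent : ∀ w ∈ W, ∀ i, ∀ x ∈ WA i, w * x = x * w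

namespace Fam

variable {H Q Z W : Subgroup G} {t : G} {ι : Type*} {A WA : ι → Subgroup G}

/-- The doubled group `Q**`. -/
def D (W : Subgroup G) (WA : ι → Subgroup G) : Subgroup G := W ⊔ ⨆ i, WA i

theorem W_le : W ≤ D W WA := le_sup_left

theorem WA_le (i : ι) : WA i ≤ D W WA := (le_iSup WA i).trans le_sup_right

theorem W_central (S : Fam H Q Z W t A WA) : ∀ w ∈ W, ∀ x ∈ D W WA, w * x = x * w := by
  intro w hw
  have h : D W WA ≤ centralizer ({w} : Set G) := by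
    apply sup_le
    · intro x hx
      rw [mem_centralizer_singleton_iff]
      exact S.W_comm x hx w hw
    · apply iSup_le
      intro i x hx
      rw [mem_centralizer_singleton_iff]
      exact (S.W_cent w hw i x hx).symm
  intro x hx
  exact (mem_centralizer_singleton_iff.1 (h hx)).symm

/-- For `x ∈ D` the elements `y ∈ D` with `⁅x, y⁆ ∈ W` form a subgroup. -/
theorem comm_aux (S : Fam H Q Z W t A WA) (x : G) (hx : x ∈ D W WA)
    (h : ∀ i, ∀ y ∈ WA i, ⁅x, y⁆ ∈ W) : ∀ y ∈ D W WA, ⁅x, y⁆ ∈ W := by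
  have key : D W WA ≤ D W WA ⊓ (D W WA) := le_inf le_rfl le_rfl
  let M : Subgroup G :=
    { carrier := {y | y ∈ D W WA ∧ ⁅x, y⁆ ∈ W}
      one_mem' := ⟨one_mem _, by rw [commutatorElement_one_right]; exact one_mem _⟩
      mul_mem' := by
        rintro a b ⟨ha, ha'⟩ ⟨hb, hb'⟩
        refine ⟨mul_mem ha hb, ?_⟩
        have e : ⁅x, a * b⁆ = ⁅x, a⁆ * (a * ⁅x, b⁆ * a⁻¹) := by
          simp only [commutatorElement_def]; group
        have e2 : a * ⁅x, b⁆ * a⁻¹ = ⁅x, b⁆ := by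
          rw [← S.W_central _ hb' a ha]; group
        rw [e, e2]
        exact mul_mem ha' hb'
      inv_mem' := by
        rintro a ⟨ha, ha'⟩
        refine ⟨inv_mem ha, ?_⟩
        have e : ⁅x, a⁻¹⁆ = a⁻¹ * ⁅x, a⁆⁻¹ * a := by
          simp only [commutatorElement_def]; group
        have e2 : a⁻¹ * ⁅x, a⁆⁻¹ * a = ⁅x, a⁆⁻¹ := by
          have := S.W_central _ (inv_mem ha') a ha
          rw [mul_assoc, this]; group
        rw [e, e2]
        exact inv_mem ha' }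
  have hM : D W WA ≤ M := by
    apply sup_le
    · intro w hw
      refine ⟨W_le hw, ?_⟩
      have : ⁅x, w⁆ = 1 := by
        rw [commutatorElement_eq_one_iff_mul_comm]
        exact (S.W_central w hw x hx).symm
      rw [this]; exact one_mem _
    · apply iSup_le
      intro i y hy
      exact ⟨WA_le i hy, h i y hy⟩
  intro y hy
  exact (hM hy).2

theorem comm_mem (S : Fam H Q Z W t A WA) : ∀ x ∈ D W WA, ∀ y ∈ D W WA, ⁅x, y⁆ ∈ W := by
  have h1 : ∀ i, ∀ x ∈ WA i, ∀ y ∈ D W WA, ⁅x, y⁆ ∈ W := fun i x hx =>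
    S.comm_aux x (WA_le i hx) (fun j y hy => S.comm i j x hx y hy)
  intro x hx
  apply S.comm_aux x hx
  intro i y hy
  have h2 := h1 i y hy x hx
  rw [← commutatorElement_inv]
  exact inv_mem h2

theorem sq_mem (S : Fam H Q Z W t A WA) : ∀ x ∈ D W WA, x * x ∈ W := by
  let M : Subgroup G :=
    { carrier := {y | y ∈ D W WA ∧ y * y ∈ W}
      one_mem' := ⟨one_mem _, by rw [one_mul]; exact one_mem _⟩
      mul_mem' := by
        rintro a b ⟨ha, ha'⟩ ⟨hb, hb'⟩
        refine ⟨mul_mem ha hb, ?_⟩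
        have e : a * b * (a * b) = (a * a) * (a⁻¹ * (b * a * b⁻¹)) * (b * b) := by group
        have e2 : a⁻¹ * (b * a * b⁻¹) = ⁅a⁻¹, b⁆ := by
          simp only [commutatorElement_def]; group
        rw [e, e2]
        exact mul_mem (mul_mem ha' (S.comm_mem _ (inv_mem ha) _ hb)) hb'
      inv_mem' := by
        rintro a ⟨ha, ha'⟩
        refine ⟨inv_mem ha, ?_⟩
        have e : a⁻¹ * a⁻¹ = (a * a)⁻¹ := by group
        rw [e]; exact inv_mem ha' }
  have hM : D W WA ≤ M := by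
    apply sup_le
    · intro w hw
      exact ⟨W_le hw, by rw [S.W_sq w hw]; exact one_mem _⟩
    · apply iSup_le
      intro i y hy
      exact ⟨WA_le i hy, S.sq i y hy⟩
  intro x hx
  exact (hM hx).2

theorem D_t (S : Fam H Q Z W t A WA) (tt : t * t = 1) : ∀ x ∈ D W WA, t * x * t ∈ D W WA := by
  let M : Subgroup G :=
    { carrier := {y | t * y * t ∈ D W WA}
      one_mem' := by
        show t * 1 * t ∈ D W WA
        rw [mul_one, tt]; exact one_mem _
      mul_mem' := by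
        intro a b ha hb
        show t * (a * b) * t ∈ D W WA
        have e : t * (a * b) * t = (t * a * t) * (t * b * t) := by
          calc t * (a * b) * t = t * a * 1 * b * t := by group
            _ = t * a * (t * t) * b * t := by rw [tt]
            _ = (t * a * t) * (t * b * t) := by group
        rw [e]; exact mul_mem ha hb
      inv_mem' := by
        intro a ha
        show t * a⁻¹ * t ∈ D W WA
        have tinv : t⁻¹ = t := inv_eq_of_mul_eq_one_left tt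
        have e : t * a⁻¹ * t = (t * a * t)⁻¹ := by
          rw [mul_inv_rev, mul_inv_rev, tinv, mul_assoc]
        rw [e]; exact inv_mem ha }
  have hM : D W WA ≤ M := by
    apply sup_le
    · intro w hw
      exact W_le (S.W_t w hw)
    · apply iSup_le
      intro i y hy
      show t * y * t ∈ D W WA
      have h1 := S.A_le i (S.brk i y hy)
      have e : t * y * t = y * (y⁻¹ * (t * y * t)) := by group
      rw [e]
      exact WA_le i (mul_mem hy h1)
  intro x hx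
  exact hM hx

theorem Q_le_D (S : Fam H Q Z W t A WA) : Q ≤ D W WA :=
  S.Q_le.trans (sup_le (S.Z_le.trans W_le) (iSup_le fun i => (S.A_le i).trans (WA_le i)))

/-- every element of `Q` is a commutator `[d, t]` modulo `W`. -/
theorem onto_D (S : Fam H Q Z W t A WA) (tt : t * t = 1) :
    ∀ x ∈ Q, ∃ d ∈ D W WA, ∃ w ∈ W, d⁻¹ * (t * d * t) = x * w := by
  have tinv : t⁻¹ = t := inv_eq_of_mul_eq_one_left tt
  have hδ : ∀ a ∈ D W WA, a⁻¹ * (t * a * t) ∈ D W WA := fun a ha =>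
    mul_mem (inv_mem ha) (S.D_t tt a ha)
  let M : Subgroup G :=
    { carrier := {x | x ∈ D W WA ∧ ∃ d ∈ D W WA, ∃ w ∈ W, d⁻¹ * (t * d * t) = x * w}
      one_mem' := ⟨one_mem _, 1, one_mem _, 1, one_mem _, by rw [mul_one t, tt]; group⟩
      mul_mem' := by
        rintro a b ⟨ha, d, hd, w, hw, hdw⟩ ⟨hb, e, he, v, hv, hev⟩
        refine ⟨mul_mem ha hb, d * e, mul_mem hd he, ?_⟩
        have h1 : (d * e)⁻¹ * (t * (d * e) * t) =
            (e⁻¹ * (d⁻¹ * (t * d * t)) * e) * (e⁻¹ * (t * e * t)) := by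
          calc (d * e)⁻¹ * (t * (d * e) * t) = e⁻¹ * d⁻¹ * t * d * 1 * e * t := by group
            _ = e⁻¹ * d⁻¹ * t * d * (t * t) * e * t := by rw [tt]
            _ = (e⁻¹ * (d⁻¹ * (t * d * t)) * e) * (e⁻¹ * (t * e * t)) := by group
        have h2 : e⁻¹ * (a * w) * e = a * (⁅a⁻¹, e⁻¹⁆ * w) := by
          have hc := S.W_central w hw e he
          calc e⁻¹ * (a * w) * e = e⁻¹ * a * (w * e) := by group
            _ = e⁻¹ * a * (e * w) := by rw [hc]
            _ = a * (⁅a⁻¹, e⁻¹⁆ * w) := by simp only [commutatorElement_def]; group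
        have h3 : ⁅a⁻¹, e⁻¹⁆ * w ∈ W := mul_mem (S.comm_mem _ (inv_mem ha) _ (inv_mem he)) hw
        refine ⟨⁅a⁻¹, e⁻¹⁆ * w * v, mul_mem h3 hv, ?_⟩
        rw [h1, hdw, hev, h2]
        have hc := S.W_central _ h3 b hb
        calc a * (⁅a⁻¹, e⁻¹⁆ * w) * (b * v) = a * ((⁅a⁻¹, e⁻¹⁆ * w) * b) * v := by group
          _ = a * (b * (⁅a⁻¹, e⁻¹⁆ * w)) * v := by rw [hc]
          _ = a * b * (⁅a⁻¹, e⁻¹⁆ * w * v) := by group
      inv_mem' := by
        rintro a ⟨ha, d, hd, w, hw, hdw⟩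
        refine ⟨inv_mem ha, d⁻¹, inv_mem hd, ?_⟩
        -- `δ(d⁻¹) = d (t d⁻¹ t) = d (d δ(d))⁻¹ = d δ(d)⁻¹ d⁻¹`
        have h1 : d⁻¹⁻¹ * (t * d⁻¹ * t) = d * (d⁻¹ * (t * d * t))⁻¹ * d⁻¹ := by
          have e : t * d⁻¹ * t = (t * d * t)⁻¹ := by
            rw [mul_inv_rev, mul_inv_rev, tinv, mul_assoc]
          rw [e]; group
        have hwi := S.W_central _ (inv_mem hw) _ (inv_mem ha)
        refine ⟨⁅a, d⁆ * w⁻¹, mul_mem (S.comm_mem _ ha _ hd) (inv_mem hw), ?_⟩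
        rw [h1, hdw]
        have hc := S.W_central _ (inv_mem hw) d hd
        calc d * (a * w)⁻¹ * d⁻¹ = d * (w⁻¹ * a⁻¹) * d⁻¹ := by rw [mul_inv_rev]
          _ = d * (a⁻¹ * w⁻¹) * d⁻¹ := by rw [hwi]
          _ = d * a⁻¹ * (w⁻¹ * d⁻¹) := by group
          _ = d * a⁻¹ * (d⁻¹ * w⁻¹) := by
              rw [S.W_central _ (inv_mem hw) _ (inv_mem hd)]
          _ = a⁻¹ * (⁅a, d⁆ * w⁻¹) := by simp only [commutatorElement_def]; group }
  have hQM : Q ≤ M := by
    refine S.Q_le.trans (sup_le ?_ (iSup_le ?_))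
    · intro z hz
      refine ⟨W_le (S.Z_le hz), 1, one_mem _, z⁻¹, inv_mem (S.Z_le hz), ?_⟩
      rw [mul_one t, tt]; group
    · intro i a ha
      obtain ⟨w, hw, hwa⟩ := S.onto i a ha
      exact ⟨WA_le i (S.A_le i ha), w, WA_le i hw, 1, one_mem _, by rw [hwa, mul_one]⟩
  intro x hx
  exact (hQM hx).2

/-- all involutions of `t W` are conjugate to `t` under `W`. -/
theorem conj_W (S : Fam H Q Z W t A WA) (tt : t * t = 1) :
    ∀ w ∈ W, t * w * (t * w) = 1 → ∃ y ∈ W, y * t * y⁻¹ = t * w := by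
  intro w hw h
  have tinv : t⁻¹ = t := inv_eq_of_mul_eq_one_left tt
  have winv : w⁻¹ = w := inv_eq_of_mul_eq_one_left (S.W_sq w hw)
  have h1 : w * t = t * w := by
    have : t * w = (t * w)⁻¹ := eq_inv_of_mul_eq_one_left h
    rw [mul_inv_rev, tinv, winv] at this
    exact this.symm
  obtain ⟨v, hv, hvw⟩ := S.W_onto w (S.W_fix w hw h1)
  refine ⟨v⁻¹, inv_mem hv, ?_⟩
  calc v⁻¹ * t * v⁻¹⁻¹ = v⁻¹ * (t * v * t) * t⁻¹ := by group
    _ = w * t := by rw [hvw, tinv]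
    _ = t * w := h1

/-- all involutions of `t D` are conjugate to `t` under `D`. -/
theorem conj_D (S : Fam H Q Z W t A WA) (tt : t * t = 1)
    (hfix : ∀ x ∈ D W WA, x * t = t * x → x ∈ Q) :
    ∀ x ∈ D W WA, t * x * (t * x) = 1 → ∃ y ∈ D W WA, y * t * y⁻¹ = t * x := by
  intro f hf h
  have tinv : t⁻¹ = t := inv_eq_of_mul_eq_one_left tt
  -- `[f, t] = f⁻¹ f^t = f⁻² ∈ W`
  have h1 : t * f * t = f⁻¹ := by
    have : t * f * t * f = 1 := by rw [← h]; group
    exact eq_inv_of_mul_eq_one_left this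
  -- `f ∈ Q W`
  have h2 : f⁻¹ * (t * f * t) ∈ W := by
    rw [h1]
    have e : f⁻¹ * f⁻¹ = (f * f)⁻¹ := by group
    rw [e]; exact inv_mem (S.sq_mem f hf)
  have h3 : (f⁻¹ * (t * f * t)) * t = t * (f⁻¹ * (t * f * t)) := by
    have hw := S.W_sq _ h2
    have h4 : t * (f⁻¹ * (t * f * t)) * t = (f⁻¹ * (t * f * t))⁻¹ := by
      have e : t * f⁻¹ * t = (t * f * t)⁻¹ := by
        rw [mul_inv_rev, mul_inv_rev, tinv, mul_assoc]
      calc t * (f⁻¹ * (t * f * t)) * t = (t * f⁻¹ * t) * f * (t * t) := by group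
        _ = (t * f * t)⁻¹ * f := by rw [e, tt, mul_one]
        _ = (f⁻¹ * (t * f * t))⁻¹ := by group
    have h5 : (f⁻¹ * (t * f * t))⁻¹ = f⁻¹ * (t * f * t) := inv_eq_of_mul_eq_one_left hw
    rw [h5] at h4
    calc (f⁻¹ * (t * f * t)) * t = (t * (f⁻¹ * (t * f * t)) * t) * t := by rw [h4]
      _ = t * (f⁻¹ * (t * f * t)) * (t * t) := by group
      _ = t * (f⁻¹ * (t * f * t)) := by rw [tt, mul_one]
  obtain ⟨v, hv, hvw⟩ := S.W_onto _ (S.W_fix _ h2 h3)
  -- `f v⁻¹ ∈ C(t)`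
  have h6 : (f * v⁻¹) * t = t * (f * v⁻¹) := by
    have e : t * v⁻¹ * t = (t * v * t)⁻¹ := by
      rw [mul_inv_rev, mul_inv_rev, tinv, mul_assoc]
    have hcomm : v * (f⁻¹ * (t * f * t)) = (f⁻¹ * (t * f * t)) * v := S.W_comm _ hv _ h2
    have e2 : t * (f * v⁻¹) * t = f * v⁻¹ := by
      have e3 : t * v * t = v * (f⁻¹ * (t * f * t)) := by rw [← hvw]; group
      calc t * (f * v⁻¹) * t = t * f * 1 * v⁻¹ * t := by group
        _ = t * f * (t * t) * v⁻¹ * t := by rw [tt]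
        _ = (t * f * t) * (t * v⁻¹ * t) := by group
        _ = (t * f * t) * (v * (f⁻¹ * (t * f * t)))⁻¹ := by rw [e, e3]
        _ = (t * f * t) * ((f⁻¹ * (t * f * t)) * v)⁻¹ := by rw [hcomm]
        _ = (t * f * t) * v⁻¹ * (t * f * t)⁻¹ * f := by group
        _ = f * v⁻¹ := by
            -- `v` is central in `D`
            have c1 := S.W_central _ (inv_mem hv) _ (S.D_t tt f hf)
            have c2 := S.W_central _ (inv_mem hv) f hf
            rw [← c1]
            calc v⁻¹ * (t * f * t) * (t * f * t)⁻¹ * f = v⁻¹ * f := by group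
              _ = f * v⁻¹ := c2
    calc (f * v⁻¹) * t = (t * (f * v⁻¹) * t) * t := by rw [e2]
      _ = t * (f * v⁻¹) * (t * t) := by group
      _ = t * (f * v⁻¹) := by rw [tt, mul_one]
  have h7 : f * v⁻¹ ∈ Q := hfix _ (mul_mem hf (inv_mem (W_le hv))) h6
  obtain ⟨d, hd, w, hw, hdw⟩ := S.onto_D tt _ h7
  have h8 : d⁻¹ * t * d = f * (v⁻¹ * w) * t := by
    calc d⁻¹ * t * d = d⁻¹ * (t * d * t) * t⁻¹ := by group
      _ = f * (v⁻¹ * w) * t := by rw [hdw, tinv, mul_assoc f]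
  -- `t f = (d⁻¹ t d) c`
  have hc3 : (v⁻¹ * w)⁻¹ * (f * f)⁻¹ ∈ W :=
    mul_mem (inv_mem (mul_mem (inv_mem hv) hw)) (inv_mem (S.sq_mem f hf))
  have hc : t * ((v⁻¹ * w)⁻¹ * (f * f)⁻¹) * t ∈ W := S.W_t _ hc3
  have h9 : t * f = (d⁻¹ * t * d) * (t * ((v⁻¹ * w)⁻¹ * (f * f)⁻¹) * t) := by
    rw [h8]
    calc t * f = (t * f * t) * t⁻¹ := by group
      _ = f⁻¹ * t := by rw [h1, tinv]
      _ = f * (f * f)⁻¹ * t := by group
      _ = f * ((v⁻¹ * w) * ((v⁻¹ * w)⁻¹ * (f * f)⁻¹)) * t := by group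
      _ = f * (v⁻¹ * w) * (t * t) * ((v⁻¹ * w)⁻¹ * (f * f)⁻¹) * t := by rw [tt]; group
      _ = f * (v⁻¹ * w) * t * (t * ((v⁻¹ * w)⁻¹ * (f * f)⁻¹) * t) := by group
  set c := t * ((v⁻¹ * w)⁻¹ * (f * f)⁻¹) * t with hcdef
  have h10 : t * c = d * (t * f) * d⁻¹ := by
    rw [h9]
    calc t * c = t * (c * (d * d⁻¹)) := by group
      _ = t * ((c * d) * d⁻¹) := by group
      _ = t * ((d * c) * d⁻¹) := by rw [S.W_central c hc d hd]
      _ = d * (d⁻¹ * t * d * c) * d⁻¹ := by group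
  have h11 : t * c * (t * c) = 1 := by
    rw [h10]
    calc d * (t * f) * d⁻¹ * (d * (t * f) * d⁻¹) = d * (t * f * (t * f)) * d⁻¹ := by group
      _ = 1 := by rw [h]; group
  obtain ⟨y, hy, hyt⟩ := S.conj_W tt c hc h11
  refine ⟨d⁻¹ * y, mul_mem (inv_mem hd) (W_le hy), ?_⟩
  calc d⁻¹ * y * t * (d⁻¹ * y)⁻¹ = d⁻¹ * (y * t * y⁻¹) * d := by group
    _ = d⁻¹ * (d * (t * f) * d⁻¹) * d := by rw [hyt, h10]
    _ = t * f := by group

end Fam

namespace Env

variable {H F0 P Q Z : Subgroup G} {t : G}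

/-- (6') of helper53: `O_2(H) = Q**` from the doubled long root groups only. -/
theorem eq_D [Finite G] (E : Env H F0 P Q Z t) {ι : Type*} {W : Subgroup G} {A WA : ι → Subgroup G}
    (S : Fam H Q Z W t A WA) : F0 = Fam.D W WA := by
  have hQF : Q ≤ F0 := fun x hx => (mem_N.1 (E.Q_le_N hx)).1
  have hDF : Fam.D W WA ≤ F0 := by
    obtain ⟨h1, h2⟩ := S.gen F0 hQF E.F_conj
    exact sup_le h1 (iSup_le h2)
  apply E.eq_of (Qs := Fam.D W WA)
  · intro F hF hFc
    obtain ⟨h1, h2⟩ := S.gen F hF hFc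
    exact sup_le h1 (iSup_le h2)
  · exact S.Q_le_D
  · exact S.D_t E.tt
  · exact S.conj_D E.tt (fun x hx hxt => (E.fix_iff x).1 ⟨hDF hx, hxt⟩)

/-- `Z(O_2(H)) = W`. -/
theorem center_iff [Finite G] (E : Env H F0 P Q Z t) {ι : Type*} {W : Subgroup G}
    {A WA : ι → Subgroup G} (S : Fam H Q Z W t A WA)
    (ZQ : ∀ x ∈ Q, (∀ y ∈ Q, x * y = y * x) → x ∈ Z) (x : G) :
    x ∈ F0 ∧ (∀ y ∈ F0, x * y = y * x) ↔ x ∈ W := by
  have hF := E.eq_D S
  have hWF : W ≤ F0 := by rw [hF]; exact Fam.W_le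
  have hQF : Q ≤ F0 := fun x hx => (mem_N.1 (E.Q_le_N hx)).1
  constructor
  swap
  · intro hx
    refine ⟨hWF hx, ?_⟩
    intro y hy
    rw [hF] at hy
    exact S.W_central x hx y hy
  · intro hx
    have key : F0 ⊓ centralizer (F0 : Set G) = W := by
      apply eq_of_free (t := t) (E.F_two.to_le inf_le_left) E.tt (fun h => E.not_mem h.1)
      · intro y hy'
        obtain ⟨hy, hyc⟩ := mem_inf.1 hy'
        have htn : ∀ x ∈ F0, t * x * t ∈ F0 := by
          intro x hx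
          have := E.F_conj t E.t_mem x hx
          rwa [E.tinv] at this
        refine mem_inf.2 ⟨htn y hy, ?_⟩
        rw [mem_centralizer_iff] at hyc ⊢
        intro u hu
        have h1 := hyc _ (htn u hu)
        calc u * (t * y * t) = (t * t) * u * t * y * t := by rw [E.tt, one_mul]; group
          _ = t * ((t * u * t) * y) * t := by group
          _ = t * (y * (t * u * t)) * t := by rw [h1]
          _ = t * y * t * u * (t * t) := by group
          _ = t * y * t * u := by rw [E.tt, mul_one]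
      · intro w hw
        refine mem_inf.2 ⟨hWF hw, ?_⟩
        rw [mem_centralizer_iff]
        intro u hu
        rw [SetLike.mem_coe, hF] at hu
        exact (S.W_central w hw u hu).symm
      · exact S.W_t
      · exact S.conj_W E.tt
      · intro y hy' hyt
        obtain ⟨hy, hyc⟩ := mem_inf.1 hy'
        rw [mem_centralizer_iff] at hyc
        have h1 : y ∈ Q := (E.fix_iff y).1 ⟨hy, hyt⟩
        exact S.Z_le (ZQ y h1 (fun u hu => (hyc u (hQF hu)).symm))
    rw [← key]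
    exact ⟨hx.1, mem_centralizer_iff.2 (fun y hy => (hx.2 y hy).symm)⟩

/-- `H` normalises `W`. -/
theorem W_conj [Finite G] (E : Env H F0 P Q Z t) {ι : Type*} {W : Subgroup G}
    {A WA : ι → Subgroup G} (S : Fam H Q Z W t A WA)
    (ZQ : ∀ x ∈ Q, (∀ y ∈ Q, x * y = y * x) → x ∈ Z) : ∀ h ∈ H, ∀ w ∈ W, h * w * h⁻¹ ∈ W := by
  intro h hh w hw
  rw [← E.center_iff S ZQ] at hw ⊢
  refine ⟨E.F_conj h hh w hw.1, ?_⟩
  intro y hy
  have h1 : h⁻¹ * y * h ∈ F0 := by
    have := E.F_conj h⁻¹ (inv_mem hh) y hy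
    rwa [inv_inv] at this
  have h2 := hw.2 _ h1
  calc h * w * h⁻¹ * y = h * (w * (h⁻¹ * y * h)) * h⁻¹ := by group
    _ = h * ((h⁻¹ * y * h) * w) * h⁻¹ := by rw [h2]
    _ = y * (h * w * h⁻¹) := by group

end Env

end Cfsg.Agent.OddHalf.D7Out.CzTwo

end

-- merged: Cfsg.Agent.OddHalf.D7Tw.FamOf
section

/-!
# THEOREM H for `K = ²E₆(q)`: the family of the doubled long root groups in `Q` (helper756)

* `Base.lift`: `W (r + s) ≤ [W r, y] X (r + s)` for `1 ≠ y ∈ X s`, `(r, s) = -1`.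
* `Base.fam`: helper76's `CzTwo.Fam` for `H = C_G(z)`, `z ∈ X ρ`.
-/

set_option autoImplicit false

namespace Cfsg.Agent.OddHalf.D7Tw

open Subgroup
open scoped commutatorElement

variable {L : Type*} [AddCommGroup L] {G : Type*} [Group G]

theorem Cj.le {k : G} {A A' : Subgroup G} (h : Cj k A A') {x : G} (hx : x ∈ A) : k * x * k⁻¹ ∈ A' := (h x).1 hx

theorem Cj.inv {k : G} {A A' : Subgroup G} (h : Cj k A A') : Cj k⁻¹ A' A := by
  intro x
  rw [h]
  have e : k * (k⁻¹ * x * k⁻¹⁻¹) * k⁻¹ = x := by group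
  rw [e]

theorem Cj.mul {k l : G} {A A' A'' : Subgroup G} (h : Cj k A A') (h' : Cj l A' A'') : Cj (l * k) A A'' := by
  intro x
  rw [h, h']
  have e : l * (k * x * k⁻¹) * l⁻¹ = l * k * x * (l * k)⁻¹ := by group
  rw [e]

/-- a conjugation into a group of the same order is onto -/
theorem Cj.of_le [Finite G] {k : G} {A A' : Subgroup G} (h : ∀ x ∈ A, k * x * k⁻¹ ∈ A')
    (hc : Nat.card A' ≤ Nat.card A) : Cj k A A' := by
  have h1 : A.map (MulAut.conj k).toMonoidHom ≤ A' := by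
    rintro _ ⟨x, hx, rfl⟩
    exact h x hx
  have h2 : Nat.card (A.map (MulAut.conj k).toMonoidHom) = Nat.card A :=
    (Nat.card_congr (A.equivMapOfInjective (MulAut.conj k).toMonoidHom (MulAut.conj k).injective).toEquiv).symm
  have h3 : A.map (MulAut.conj k).toMonoidHom = A' := Subgroup.eq_of_le_of_card_ge h1 (by rw [h2]; exact hc)
  intro x
  constructor
  · exact h x
  · intro hx
    rw [← h3] at hx
    obtain ⟨y, hy, hyx⟩ := hx
    have : y = x := (MulAut.conj k).injective hyx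
    rw [← this]
    exact hy

variable {t : G} {K : Subgroup G} {B : L → L → ℤ} {Φ : Set L} {X W : L → Subgroup G} {ρ : L} {P Q : Subgroup G}

namespace Base

theorem tt (D : Base t K B Φ X W ρ P Q) : t * t = 1 := D.dbl.tt

theorem tinv (D : Base t K B Φ X W ρ P Q) : t⁻¹ = t := inv_eq_of_mul_eq_one_left D.tt

theorem t1 (D : Base t K B Φ X W ρ P Q) : t ≠ 1 := fun h => D.tK (h ▸ one_mem K)

theorem Pt (D : Base t K B Φ X W ρ P Q) {p : G} (hp : p ∈ P) : p * t = t * p := D.Kt p (D.PK hp)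

theorem conj_t (D : Base t K B Φ X W ρ P Q) {p : G} (hp : p ∈ P) : t * p * t = p := by
  have := D.Pt hp
  calc t * p * t = t * (p * t) := by group
    _ = t * (t * p) := by rw [this]
    _ = (t * t) * p := by group
    _ = p := by rw [D.tt, one_mul]

theorem Xt (D : Base t K B Φ X W ρ P Q) {r : L} (hr : r ∈ Φ) {x : G} (hx : x ∈ X r) : x * t = t * x :=
  D.Kt x (D.XK r hr hx)

theorem W_comm (D : Base t K B Φ X W ρ P Q) {r : L} (hr : r ∈ Φ) {v w : G} (hv : v ∈ W r) (hw : w ∈ W r) :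
    v * w = w * v := D.dbl.pos r hr r hr (by rw [D.roots.two r hr]; norm_num) v hv w hw

theorem ZX (D : Base t K B Φ X W ρ P Q) : X ρ ≤ Q := D.XQ ρ D.hρ (by rw [D.roots.two ρ D.hρ]; norm_num)

theorem inv_mem_eq (D : Base t K B Φ X W ρ P Q) {r : L} (hr : r ∈ Φ) {w : G} (hw : w ∈ W r) : w⁻¹ = w :=
  inv_eq_of_mul_eq_one_left (D.dbl.sq r hr w hw)

/-- `W (r + s) ≤ [W r, y] X (r + s)` -/
theorem lift (D : Base t K B Φ X W ρ P Q) {r s : L} (hr : r ∈ Φ) (hs : s ∈ Φ) (hrs : B r s = -1) {y : G}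
    (hy : y ∈ X s) (hy1 : y ≠ 1) {w : G} (hw : w ∈ W (r + s)) :
    ∃ v ∈ W r, ∃ x ∈ X (r + s), w = x * (v * y * v⁻¹ * y⁻¹) := by
  have hm : r + s ∈ Φ := D.roots.add r hr s hs hrs
  have hti := D.tinv
  obtain ⟨u, hu, huc⟩ := D.Xsurj r hr s hs hrs y hy hy1 _ (D.dbl.brk _ hm w hw)
  obtain ⟨v, hv, hvu⟩ := D.dbl.surj r hr u hu
  have hyW : y ∈ W s := D.dbl.XW s hs hy
  have hyt := D.Xt hs hy
  have hc : v * y * v⁻¹ * y⁻¹ ∈ W (r + s) := D.dbl.neg r hr s hs hrs v hv y hyW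
  set c := w⁻¹ * (t * w * t) with hcdef
  have hcX : c ∈ X (r + s) := D.dbl.brk _ hm w hw
  have hcv : v * c = c * v := by
    refine D.dbl.pos r hr _ hm ?_ v hv c (D.dbl.XW _ hm hcX)
    rw [D.roots.add_right, D.roots.two r hr, hrs]; norm_num
  have hvt : t * v * t = v * u := by rw [← hvu]; group
  have hyt' : t * y * t = y := by
    calc t * y * t = t * (y * t) := by group
      _ = t * (t * y) := by rw [hyt]
      _ = (t * t) * y := by group
      _ = y := by rw [D.tt, one_mul]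
  have hvit : t * v⁻¹ * t = u⁻¹ * v⁻¹ := by
    calc t * v⁻¹ * t = (t⁻¹ * v * t⁻¹)⁻¹ := by group
      _ = (t * v * t)⁻¹ := by rw [hti]
      _ = u⁻¹ * v⁻¹ := by rw [hvt, mul_inv_rev]
  have hyit : t * y⁻¹ * t = y⁻¹ := by
    calc t * y⁻¹ * t = (t⁻¹ * y * t⁻¹)⁻¹ := by group
      _ = y⁻¹ := by rw [hti, hyt']
  have key : t * (v * y * v⁻¹ * y⁻¹) * t = c * (v * y * v⁻¹ * y⁻¹) := by
    calc t * (v * y * v⁻¹ * y⁻¹) * t
        = t * v * 1 * y * 1 * v⁻¹ * 1 * y⁻¹ * t := by group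
      _ = t * v * (t * t) * y * (t * t) * v⁻¹ * (t * t) * y⁻¹ * t := by rw [D.tt]
      _ = (t * v * t) * (t * y * t) * (t * v⁻¹ * t) * (t * y⁻¹ * t) := by group
      _ = v * (u * y * u⁻¹ * y⁻¹) * y * v⁻¹ * y⁻¹ := by rw [hvt, hyt', hvit, hyit]; group
      _ = (v * c) * y * v⁻¹ * y⁻¹ := by rw [huc]
      _ = c * (v * y * v⁻¹ * y⁻¹) := by rw [hcv]; group
  refine ⟨v, hv, w * (v * y * v⁻¹ * y⁻¹)⁻¹, ?_, by group⟩
  refine (D.dbl.cent _ hm _ (mul_mem hw (inv_mem hc))).1 ?_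
  set d := v * y * v⁻¹ * y⁻¹ with hd
  have hwt : t * w * t = w * c := by rw [hcdef]; group
  have hdi : t * d⁻¹ * t = d⁻¹ * c⁻¹ := by
    calc t * d⁻¹ * t = (t⁻¹ * d * t⁻¹)⁻¹ := by group
      _ = (t * d * t)⁻¹ := by rw [hti]
      _ = d⁻¹ * c⁻¹ := by rw [key, mul_inv_rev]
  have hcd : c * d⁻¹ = d⁻¹ * c := D.W_comm hm (D.dbl.XW _ hm hcX) (inv_mem hc)
  have h1 : t * (w * d⁻¹) * t = w * d⁻¹ := by
    calc t * (w * d⁻¹) * t = t * w * 1 * d⁻¹ * t := by group
      _ = t * w * (t * t) * d⁻¹ * t := by rw [D.tt]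
      _ = (t * w * t) * (t * d⁻¹ * t) := by group
      _ = w * (c * d⁻¹) * c⁻¹ := by rw [hwt, hdi]; group
      _ = w * d⁻¹ := by rw [hcd]; group
  calc t * (w * d⁻¹) = t * (w * d⁻¹) * (t * t) := by rw [D.tt, mul_one]
    _ = (t * (w * d⁻¹) * t) * t := by group
    _ = w * d⁻¹ * t := by rw [h1]

/-- the doubled root groups `W s`, `(s, ρ) ≥ 0`, centralise `X ρ` -/
theorem W_z (D : Base t K B Φ X W ρ P Q) {s : L} (hs : s ∈ Φ) (h : 0 ≤ B s ρ) {w z : G} (hw : w ∈ W s)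
    (hz : z ∈ X ρ) : w * z = z * w := D.dbl.pos s hs ρ D.hρ h w hw z (D.dbl.XW ρ D.hρ hz)

theorem P_z (D : Base t K B Φ X W ρ P Q) {p z : G} (hp : p ∈ P) (hz : z ∈ X ρ) : p * z = z * p :=
  (D.WP z (D.dbl.XW ρ D.hρ hz) p hp).symm

theorem exists_ne (D : Base t K B Φ X W ρ P Q) {r : L} (hr : r ∈ Φ) : ∃ x ∈ X r, x ≠ 1 := by
  by_contra hcon
  push Not at hcon
  exact D.Xne r hr ((eq_bot_iff_forall _).2 hcon)

/-- every subgroup containing `Q` which is invariant under `C_G(z)` contains `W ρ` and the `W s`, `(s, ρ) = 1` -/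
theorem W_le_of (D : Base t K B Φ X W ρ P Q) {z : G} (hz : z ∈ X ρ) {F : Subgroup G} (hQ : Q ≤ F)
    (hF : ∀ h ∈ centralizer ({z} : Set G), ∀ x ∈ F, h * x * h⁻¹ ∈ F) :
    W ρ ≤ F ∧ ∀ s ∈ Φ, B s ρ = 1 → W s ≤ F := by
  have key : ∀ r ∈ Φ, ∀ s ∈ Φ, B r s = -1 → 0 ≤ B r ρ → X s ≤ F → X (r + s) ≤ F → W (r + s) ≤ F := by
    intro r hr s hs hrs hrρ hXs hXrs w hw
    obtain ⟨y, hy, hy1⟩ := D.exists_ne hs
    obtain ⟨v, hv, x, hx, rfl⟩ := D.lift hr hs hrs hy hy1 hw
    refine mul_mem (hXrs hx) (mul_mem (hF v ?_ y (hXs hy)) (inv_mem (hXs hy)))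
    exact mem_centralizer_singleton_iff.2 (D.W_z hr hrρ hv hz)
  have h1 : ∀ s ∈ Φ, B s ρ = 1 → W s ≤ F := by
    intro s hs hsρ
    obtain ⟨s', hs', h0, h1⟩ := D.ex01 s hs hsρ
    have ha : s - s' ∈ Φ := D.roots.sub_mem hs hs' h1
    have hB : B s' (s - s') = -1 := by
      rw [D.roots.sub_right, D.roots.symm s' s, h1, D.roots.two s' hs']; norm_num
    have haρ : B (s - s') ρ = 1 := by rw [D.roots.sub_left, hsρ, h0]; norm_num
    have e : s' + (s - s') = s := by abel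
    have := key s' hs' _ ha hB h0.ge ((D.XQ _ ha haρ.ge).trans hQ)
    rw [e] at this
    exact this ((D.XQ s hs hsρ.ge).trans hQ)
  refine ⟨?_, h1⟩
  obtain ⟨s, hs, hsρ⟩ := D.ex1
  have ha : ρ - s ∈ Φ := D.roots.sub_mem D.hρ hs (by rw [D.roots.symm]; exact hsρ)
  have hB : B s (ρ - s) = -1 := by
    rw [D.roots.sub_right, hsρ, D.roots.two s hs]; norm_num
  have haρ : B (ρ - s) ρ = 1 := by rw [D.roots.sub_left, hsρ, D.roots.two ρ D.hρ]; norm_num
  have e : s + (ρ - s) = ρ := by abel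
  have := key s hs _ ha hB (by rw [hsρ]; norm_num) ((D.XQ _ ha haρ.ge).trans hQ)
  rw [e] at this
  exact this (D.ZX.trans hQ)

/-- the index set of the long root groups in `Q` -/
def Ind (B : L → L → ℤ) (Φ : Set L) (ρ : L) (P : Subgroup G) : Type _ :=
  {i : G × L // i.1 ∈ P ∧ i.2 ∈ Φ ∧ B i.2 ρ = 1}

/-- the long root group -/
def AA (X : L → Subgroup G) (i : Ind (G := G) B Φ ρ P) : Subgroup G :=
  (X i.1.2).map (MulAut.conj i.1.1).toMonoidHom

/-- **the family of the doubled long root groups in `Q`** -/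
theorem fam [Finite G] (D : Base t K B Φ X W ρ P Q) {z : G} (hz : z ∈ X ρ) :
    D7Out.CzTwo.Fam (centralizer ({z} : Set G)) Q (X ρ) (W ρ) t
      (fun i : Ind (G := G) B Φ ρ P => AA X i) (fun i => AA W i) where
  gen := by
    intro F hQ hF
    obtain ⟨h1, h2⟩ := D.W_le_of hz hQ hF
    refine ⟨h1, ?_⟩
    rintro ⟨⟨p, s⟩, hp, hs, hsρ⟩ _ ⟨w, hw, rfl⟩
    exact hF p (mem_centralizer_singleton_iff.2 (D.P_z hp hz)) w (h2 s hs hsρ hw)
  A_le := by
    rintro ⟨⟨p, s⟩, hp, hs, hsρ⟩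
    exact map_mono (D.dbl.XW s hs)
  Q_le := by
    refine D.Qgen.trans (sup_le le_sup_left ?_)
    rw [closure_le]
    rintro _ ⟨p, hp, s, hs, hsρ, x, hx, rfl⟩
    refine (le_sup_right : _ ≤ X ρ ⊔ _) ?_
    exact (le_iSup (fun i : Ind (G := G) B Φ ρ P => AA X i) ⟨(p, s), hp, hs, hsρ⟩) ⟨x, hx, rfl⟩
  brk := by
    rintro ⟨⟨p, s⟩, hp, hs, hsρ⟩ _ ⟨w, hw, rfl⟩
    refine ⟨w⁻¹ * (t * w * t), D.dbl.brk s hs w hw, ?_⟩
    have hpt : p * t = t * p := D.Pt hp
    have hpit : p⁻¹ * t = t * p⁻¹ := by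
      rw [inv_mul_eq_iff_eq_mul, ← mul_assoc, hpt, mul_assoc, mul_inv_cancel, mul_one]
    show p * (w⁻¹ * (t * w * t)) * p⁻¹ = (p * w * p⁻¹)⁻¹ * (t * (p * w * p⁻¹) * t)
    calc p * (w⁻¹ * (t * w * t)) * p⁻¹ = p * w⁻¹ * p⁻¹ * ((p * t) * w * (t * p⁻¹)) := by group
      _ = p * w⁻¹ * p⁻¹ * ((t * p) * w * (p⁻¹ * t)) := by rw [hpt, hpit]
      _ = _ := by group
  onto := by
    rintro ⟨⟨p, s⟩, hp, hs, hsρ⟩ _ ⟨x, hx, rfl⟩
    obtain ⟨w, hw, hwx⟩ := D.dbl.surj s hs x hx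
    refine ⟨p * w * p⁻¹, ⟨w, hw, rfl⟩, ?_⟩
    have hpt : p * t = t * p := D.Pt hp
    have hpit : p⁻¹ * t = t * p⁻¹ := by
      rw [inv_mul_eq_iff_eq_mul, ← mul_assoc, hpt, mul_assoc, mul_inv_cancel, mul_one]
    show (p * w * p⁻¹)⁻¹ * (t * (p * w * p⁻¹) * t) = p * x * p⁻¹
    rw [← hwx]
    calc (p * w * p⁻¹)⁻¹ * (t * (p * w * p⁻¹) * t) = p * w⁻¹ * p⁻¹ * ((t * p) * w * (p⁻¹ * t)) := by group
      _ = p * w⁻¹ * p⁻¹ * ((p * t) * w * (t * p⁻¹)) := by rw [hpt, hpit]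
      _ = _ := by group
  comm := by
    rintro ⟨⟨p₁, s₁⟩, hp₁, hs₁, hsρ₁⟩ ⟨⟨p₂, s₂⟩, hp₂, hs₂, hsρ₂⟩ _ ⟨w₁, hw₁, rfl⟩ _ ⟨w₂, hw₂, rfl⟩
    obtain ⟨k, hk, r₁, hr₁, r₂, hr₂, hB, c₁, c₂⟩ := D.pair p₁ hp₁ p₂ hp₂ s₁ hs₁ s₂ hs₂ hsρ₁ hsρ₂
    have d₁ := D.Wcan s₁ hs₁ r₁ hr₁ (k * p₁) (mul_mem hk (D.PK hp₁)) c₁
    have d₂ := D.Wcan s₂ hs₂ r₂ hr₂ (k * p₂) (mul_mem hk (D.PK hp₂)) c₂
    have e₁ := d₁.le hw₁
    have e₂ := d₂.le hw₂
    set v₁ := k * p₁ * w₁ * (k * p₁)⁻¹ with hv₁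
    set v₂ := k * p₂ * w₂ * (k * p₂)⁻¹ with hv₂
    show ⁅p₁ * w₁ * p₁⁻¹, p₂ * w₂ * p₂⁻¹⁆ ∈ W ρ
    have hc : ⁅p₁ * w₁ * p₁⁻¹, p₂ * w₂ * p₂⁻¹⁆ = k⁻¹ * (v₁ * v₂ * v₁⁻¹ * v₂⁻¹) * k := by
      rw [hv₁, hv₂, commutatorElement_def]; group
    rw [hc]
    by_cases h0 : 0 ≤ B r₁ r₂
    · have := D.dbl.pos r₁ hr₁ r₂ hr₂ h0 v₁ e₁ v₂ e₂
      have e : v₁ * v₂ * v₁⁻¹ * v₂⁻¹ = 1 := by rw [this]; group
      rw [e]
      have e' : k⁻¹ * 1 * k = 1 := by group
      rw [e']
      exact one_mem _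
    · have hB1 : B r₁ r₂ = -1 := by omega
      have hm : r₁ + r₂ ∈ Φ := D.roots.add r₁ hr₁ r₂ hr₂ hB1
      obtain ⟨y, hy, hy1⟩ := D.exists_ne hr₂
      have h1 : Cj k⁻¹ (X (r₁ + r₂)) (X ρ) := by
        refine Cj.of_le ?_ (D.card _ hm).ge
        intro c hc'
        obtain ⟨u, hu, rfl⟩ := D.Xsurj r₁ hr₁ r₂ hr₂ hB1 y hy hy1 c hc'
        have f₁ := c₁.inv.le hu
        have f₂ := c₂.inv.le hy
        have g₁ : (p₁ * ((k * p₁)⁻¹ * u * (k * p₁)⁻¹⁻¹) * p₁⁻¹) ∈ Q := by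
          have hq := D.XQ s₁ hs₁ hsρ₁.ge f₁
          exact D.Qn _ hp₁ _ hq
        have g₂ : (p₂ * ((k * p₂)⁻¹ * y * (k * p₂)⁻¹⁻¹) * p₂⁻¹) ∈ Q := by
          have hq := D.XQ s₂ hs₂ hsρ₂.ge f₂
          exact D.Qn _ hp₂ _ hq
        have := D.QQ (commutator_mem_commutator g₁ g₂)
        rw [commutatorElement_def] at this
        have e : p₁ * ((k * p₁)⁻¹ * u * (k * p₁)⁻¹⁻¹) * p₁⁻¹ * (p₂ * ((k * p₂)⁻¹ * y * (k * p₂)⁻¹⁻¹) * p₂⁻¹) *
            (p₁ * ((k * p₁)⁻¹ * u * (k * p₁)⁻¹⁻¹) * p₁⁻¹)⁻¹ *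
            (p₂ * ((k * p₂)⁻¹ * y * (k * p₂)⁻¹⁻¹) * p₂⁻¹)⁻¹ = k⁻¹ * (u * y * u⁻¹ * y⁻¹) * k⁻¹⁻¹ := by group
        rwa [e] at this
      have h2 := D.Wcan _ hm ρ D.hρ k⁻¹ (inv_mem hk) h1
      have h3 := h2.le (D.dbl.neg r₁ hr₁ r₂ hr₂ hB1 v₁ e₁ v₂ e₂)
      rwa [inv_inv] at h3
  sq := by
    rintro ⟨⟨p, s⟩, hp, hs, hsρ⟩ _ ⟨w, hw, rfl⟩
    show p * w * p⁻¹ * (p * w * p⁻¹) ∈ W ρ
    have e : p * w * p⁻¹ * (p * w * p⁻¹) = p * (w * w) * p⁻¹ := by group
    rw [e, D.dbl.sq s hs w hw]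
    have e' : p * 1 * p⁻¹ = 1 := by group
    rw [e']
    exact one_mem _
  Z_le := D.dbl.XW ρ D.hρ
  W_t := D.dbl.conj_t ρ D.hρ
  W_fix := fun w hw h => (D.dbl.cent ρ D.hρ w hw).1 h.symm
  W_onto := D.dbl.surj ρ D.hρ
  W_comm := fun w hw x hx => D.W_comm D.hρ hw hx
  W_sq := D.dbl.sq ρ D.hρ
  W_cent := by
    rintro w hw ⟨⟨p, s⟩, hp, hs, hsρ⟩ _ ⟨x, hx, rfl⟩
    show w * (p * x * p⁻¹) = p * x * p⁻¹ * w
    have h1 : w * x = x * w := (D.dbl.pos s hs ρ D.hρ (by rw [hsρ]; norm_num) x hx w hw).symm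
    have h2 : w * p = p * w := D.WP w hw p hp
    have h3 : w * p⁻¹ = p⁻¹ * w := D.WP w hw p⁻¹ (inv_mem hp)
    calc w * (p * x * p⁻¹) = (w * p) * x * p⁻¹ := by group
      _ = p * (w * x) * p⁻¹ := by rw [h2]; group
      _ = p * x * (w * p⁻¹) := by rw [h1]; group
      _ = p * x * p⁻¹ * w := by rw [h3]; group

end Base

end Cfsg.Agent.OddHalf.D7Tw

end

-- merged: Cfsg.Agent.OddHalf.D7Tw.Comp
section

/-!
# THEOREM H for `K = ²E₆(q)`: the components of `C_G(z)` (helper756)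

* `Base.czData`: the data of `D7Out/CzComp` for `H = C_G(z)`, `1 ≠ z ∈ X ρ`.
* `Base.component`: a component `M` of `C_G(z)` is normal, unique, contains `P` and `W ρ`, and
  `C_G(M) ≤ M ∩ W ρ`.
-/

set_option autoImplicit false

namespace Cfsg.Agent.OddHalf.D7Tw

open Subgroup Cfsg
open Cfsg.Agent.OddHalf.Iface
open Cfsg.Agent.SignalizersComponents.Components
open scoped commutatorElement

universe u

variable {L : Type*} [AddCommGroup L] {G : Type u} [Group G]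
variable {t : G} {K : Subgroup G} {B : L → L → ℤ} {Φ : Set L} {X W : L → Subgroup G} {ρ : L} {P Q : Subgroup G}

theorem mem_cent {z x : G} : x ∈ centralizer ({z} : Set G) ↔ x * z = z * x := mem_centralizer_singleton_iff

/-- a perfect subgroup of a larger group -/
theorem perf_subgroupOf {P H : Subgroup G} (hPH : P ≤ H) (hP : ⁅P, P⁆ = P) :
    ⁅P.subgroupOf H, P.subgroupOf H⁆ = P.subgroupOf H := by
  apply map_injective H.subtype_injective
  rw [map_commutator, subgroupOf_map_subtype, inf_eq_left.2 hPH, hP]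

theorem perf_map {H : Subgroup G} {D : Subgroup ↥H} (hD : ⁅D, D⁆ = D) :
    ⁅D.map H.subtype, D.map H.subtype⁆ = D.map H.subtype := by
  rw [← map_commutator, hD]

/-- elements of `E C(E)` induce inner automorphisms on `E` -/
theorem inner_of_sup {H : Type*} [Group H] {E : Subgroup H} {p : H} (h : p ∈ E ⊔ centralizer (E : Set H)) :
    ∃ e ∈ E, ∀ x ∈ E, p * x * p⁻¹ = e * x * e⁻¹ := by
  let S : Subgroup H :=
    { carrier := {p | ∃ e ∈ E, ∀ x ∈ E, p * x * p⁻¹ = e * x * e⁻¹}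
      one_mem' := ⟨1, one_mem _, fun x _ => rfl⟩
      mul_mem' := by
        rintro p q ⟨e, he, h1⟩ ⟨f, hf, h2⟩
        refine ⟨e * f, mul_mem he hf, fun x hx => ?_⟩
        calc p * q * x * (p * q)⁻¹ = p * (q * x * q⁻¹) * p⁻¹ := by group
          _ = p * (f * x * f⁻¹) * p⁻¹ := by rw [h2 x hx]
          _ = e * (f * x * f⁻¹) * e⁻¹ := h1 _ (mul_mem (mul_mem hf hx) (inv_mem hf))
          _ = e * f * x * (e * f)⁻¹ := by group
      inv_mem' := by
        rintro p ⟨e, he, h1⟩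
        refine ⟨e⁻¹, inv_mem he, fun x hx => ?_⟩
        have h2 := h1 (e⁻¹ * x * e) (mul_mem (mul_mem (inv_mem he) hx) he)
        have h3 : p * (e⁻¹ * x * e) * p⁻¹ = x := by rw [h2]; group
        calc p⁻¹ * x * p⁻¹⁻¹ = p⁻¹ * (p * (e⁻¹ * x * e) * p⁻¹) * p := by rw [h3]; group
          _ = e⁻¹ * x * e⁻¹⁻¹ := by group }
  have h1 : E ⊔ centralizer (E : Set H) ≤ S := by
    refine sup_le (fun e he => ⟨e, he, fun x _ => rfl⟩) fun y hy => ⟨1, one_mem _, fun x hx => ?_⟩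
    have h2 : x * y = y * x := mem_centralizer_iff.1 hy x hx
    rw [← h2]; group
  exact h1 h

namespace Base

theorem P_le (D : Base t K B Φ X W ρ P Q) {z : G} (hz : z ∈ X ρ) : P ≤ centralizer ({z} : Set G) :=
  fun _ hp => mem_cent.2 (D.P_z hp hz)

theorem V_le (D : Base t K B Φ X W ρ P Q) {z : G} (hz : z ∈ X ρ) : W ρ ≤ centralizer ({z} : Set G) := by
  intro w hw
  exact mem_cent.2 (D.W_comm D.hρ hw (D.dbl.XW ρ D.hρ hz))

theorem Q_le (D : Base t K B Φ X W ρ P Q) {z : G} (hz : z ∈ X ρ) : Q ≤ centralizer ({z} : Set G) :=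
  D.QP.trans (D.P_le hz)

theorem z_t (D : Base t K B Φ X W ρ P Q) {z : G} (hz : z ∈ X ρ) : z * t = t * z := D.Xt D.hρ hz

/-- the root `ρ - s` -/
theorem sub_mem' (D : Base t K B Φ X W ρ P Q) {s : L} (hs : s ∈ Φ) (h : B s ρ = 1) :
    ρ - s ∈ Φ ∧ B s (ρ - s) = -1 ∧ B (ρ - s) ρ = 1 ∧ s + (ρ - s) = ρ := by
  refine ⟨D.roots.sub_mem D.hρ hs (by rw [D.roots.symm]; exact h), ?_, ?_, by abel⟩
  · rw [D.roots.sub_right, h, D.roots.two s hs]; norm_num
  · rw [D.roots.sub_left, h, D.roots.two ρ D.hρ]; norm_num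

/-- **the data of `D7Out/CzComp`** -/
theorem czData [Finite G] (D : Base t K B Φ X W ρ P Q) {z : G} (hz : z ∈ X ρ) (hz1 : z ≠ 1)
    (c : Cen t z (X ρ) P Q) (hcore : pPrimeCore 2 ↥(centralizer ({z} : Set G)) = ⊥)
    (hsch : ∀ E : Subgroup ↥(centralizer ({z} : Set G)), IsComponent E →
      (∀ p ∈ P.subgroupOf (centralizer ({z} : Set G)), ∀ e ∈ E, p * e * p⁻¹ ∈ E) →
      ∀ p ∈ P.subgroupOf (centralizer ({z} : Set G)), ∃ e ∈ E, ∀ x ∈ E, p * x * p⁻¹ = e * x * e⁻¹) :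
    D7Out.Cz.Data (⟨t, mem_cent.2 (D.z_t hz).symm⟩ : ↥(centralizer ({z} : Set G)))
      (⟨z, mem_cent.2 rfl⟩ : ↥(centralizer ({z} : Set G)))
      (P.subgroupOf (centralizer ({z} : Set G))) (Q.subgroupOf (centralizer ({z} : Set G)))
      ((X ρ).subgroupOf (centralizer ({z} : Set G))) ((W ρ).subgroupOf (centralizer ({z} : Set G))) where
  tt := Subtype.ext D.tt
  z1 := fun h => hz1 (congrArg Subtype.val h)
  zZ := hz
  core := hcore
  perf := perf_subgroupOf (D.P_le hz) D.perf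
  Pt := fun p hp => Subtype.ext (D.Pt hp)
  top := by
    intro E hE hEt
    have h1 : E.map (centralizer ({z} : Set G)).subtype ≤ P := by
      refine c.top _ (perf_map hE) ?_ ?_
      · rintro _ ⟨d, hd, rfl⟩
        exact congrArg Subtype.val (hEt d hd)
      · rintro _ ⟨d, hd, rfl⟩
        exact mem_cent.1 d.2
    intro d hd
    exact h1 ⟨d, hd, rfl⟩
  tP := fun h => D.tK (D.PK h)
  QP := comap_mono D.QP
  Q2 := by
    have h1 := D.Q2
    exact h1.comap_of_injective _ (centralizer ({z} : Set G)).subtype_injective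
  norQ := fun x hx y hy => c.norQ x (congrArg Subtype.val hx) (mem_cent.1 x.2) y hy
  cenQ := by
    intro x hx h
    exact c.cenQ x (congrArg Subtype.val hx) (mem_cent.1 x.2) fun y hy =>
      congrArg Subtype.val (h ⟨y, D.Q_le hz hy⟩ hy)
  ZQ := comap_mono D.ZX
  nrm := by
    intro N hN hNp hN1 hNn
    have h1 : Q ≤ N.map (centralizer ({z} : Set G)).subtype := by
      refine D.nrm _ ?_ (perf_map hNp) ?_ ?_
      · rintro _ ⟨n, hn, rfl⟩
        exact hN hn
      · intro h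
        exact hN1 ((Subgroup.map_eq_bot_iff_of_injective _ (centralizer ({z} : Set G)).subtype_injective).1 h)
      · rintro p hp _ ⟨n, hn, rfl⟩
        exact ⟨_, hNn ⟨p, D.P_le hz hp⟩ hp n hn, rfl⟩
    intro y hy
    obtain ⟨n, hn, hny⟩ := h1 hy
    have : n = y := Subtype.ext hny
    rwa [← this]
  gen := by
    set H := centralizer ({z} : Set G) with hH
    intro p hp
    have h1 : P ≤ (closure {c | ∃ w : ↥H, c = w * (⟨t, mem_cent.2 (D.z_t hz).symm⟩ : ↥H) * w⁻¹ *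
        (⟨t, mem_cent.2 (D.z_t hz).symm⟩ : ↥H)⁻¹}).map H.subtype := by
      refine D.Pgen.trans ?_
      rw [closure_le]
      rintro _ ⟨g, hg, s, hs, hsρ, x, hx, rfl⟩
      obtain ⟨w, hw, hwx⟩ := D.dbl.surj s hs x hx
      have hwH : g * w⁻¹ * g⁻¹ ∈ H :=
        mul_mem (mul_mem (D.P_le hz hg) (inv_mem (mem_cent.2 (D.W_z hs hsρ hw hz)))) (inv_mem (D.P_le hz hg))
      refine ⟨_, subset_closure ⟨⟨g * w⁻¹ * g⁻¹, hwH⟩, rfl⟩, ?_⟩
      have hgt : g * t = t * g := D.Pt hg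
      have hgit : g⁻¹ * t = t * g⁻¹ := by
        rw [inv_mul_eq_iff_eq_mul, ← mul_assoc, hgt, mul_assoc, mul_inv_cancel, mul_one]
      show g * w⁻¹ * g⁻¹ * t * (g * w⁻¹ * g⁻¹)⁻¹ * t⁻¹ = g * x * g⁻¹
      rw [← hwx, D.tinv]
      calc g * w⁻¹ * g⁻¹ * t * (g * w⁻¹ * g⁻¹)⁻¹ * t
          = g * w⁻¹ * (g⁻¹ * t) * g * w * (g⁻¹ * t) := by group
        _ = g * w⁻¹ * (t * g⁻¹) * g * w * (t * g⁻¹) := by rw [hgit]
        _ = g * (w⁻¹ * (t * w * t)) * g⁻¹ := by group
    obtain ⟨y, hy, hyp⟩ := h1 hp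
    have : y = p := Subtype.ext hyp
    rwa [← this]
  V2 := fun w hw => Subtype.ext (D.dbl.sq ρ D.hρ w hw)
  ZV := comap_mono (D.dbl.XW ρ D.hρ)
  VP := fun w hw p hp => Subtype.ext (D.WP w hw p hp)
  Vt := fun w hw => by
    show t * w * t⁻¹ ∈ W ρ
    rw [D.tinv]
    exact D.dbl.conj_t ρ D.hρ w hw
  Vfix := fun w hw h => (D.dbl.cent ρ D.hρ w hw).1 (congrArg Subtype.val h).symm
  Vsurj := by
    intro x hx
    obtain ⟨w, hw, hwx⟩ := D.dbl.surj ρ D.hρ x hx
    refine ⟨⟨w⁻¹, inv_mem (D.V_le hz hw)⟩, inv_mem hw, Subtype.ext ?_⟩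
    show w⁻¹ * t * w⁻¹⁻¹ * t⁻¹ = x
    rw [← hwx, D.tinv]
    group
  Vgen := by
    set H := centralizer ({z} : Set G) with hH
    intro v hv
    obtain ⟨s, hs, hsρ⟩ := D.ex1
    obtain ⟨ha, hB, haρ, hsum⟩ := D.sub_mem' hs hsρ
    obtain ⟨y, hy, hy1⟩ := D.exists_ne ha
    obtain ⟨x, hx, hxz⟩ := D.Xsurj s hs _ ha hB y hy hy1 z (by rw [hsum]; exact hz)
    have hv' : (v : G) ∈ W (s + (ρ - s)) := by rw [hsum]; exact hv
    obtain ⟨w, hw, x0, hx0, hvw⟩ := D.lift hs ha hB hy hy1 hv'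
    have hxP : x ∈ P := D.XP s hs (by rw [hsρ]; norm_num) hx
    have hyP : y ∈ P := D.XP _ ha (by rw [haρ]; norm_num) hy
    have hx0P : x0 ∈ P := by
      rw [hsum] at hx0
      exact D.QP (D.ZX hx0)
    have hwH : w ∈ H := mem_cent.2 (D.W_z hs (by rw [hsρ]; norm_num) hw hz)
    have e : v = (⟨x0, D.P_le hz hx0P⟩ : ↥H) * (⟨w, hwH⟩ * ⟨y, D.P_le hz hyP⟩ * (⟨w, hwH⟩ : ↥H)⁻¹ *
        (⟨y, D.P_le hz hyP⟩ : ↥H)⁻¹) := Subtype.ext hvw
    rw [e]
    refine mul_mem (subset_closure (Or.inr hx0P)) (subset_closure (Or.inl ?_))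
    refine ⟨⟨w, hwH⟩, ⟨x, D.P_le hz hxP⟩, ⟨y, D.P_le hz hyP⟩, hxP, Subtype.ext ?_, ⟨⟨y, D.P_le hz hyP⟩, hyP, ?_⟩,
      hyP, rfl⟩
    · exact D.W_comm hs hw (D.dbl.XW s hs hx)
    · intro h
      have h1 : x * y = y * x := congrArg Subtype.val h
      apply hz1
      rw [← hxz, h1]
      group
  sch := hsch

/-- **the components of `C_G(z)`** -/
theorem component [Finite G] (D : Base t K B Φ X W ρ P Q) (C : Ctx G)
    (hSch : Cfsg.Agent.Schreier.Cases.SchFor.{u} @IsKnownSimple') {z : G} (hz : z ∈ X ρ) (hz1 : z ≠ 1)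
    (c : Cen t z (X ρ) P Q) {M : Subgroup ↥(centralizer ({z} : Set G))} (hM : IsComponent M) :
    P ≤ M.map (centralizer ({z} : Set G)).subtype ∧ W ρ ≤ M.map (centralizer ({z} : Set G)).subtype ∧
      (∀ M' : Subgroup ↥(centralizer ({z} : Set G)), IsComponent M' → M' = M) ∧ M.Normal ∧
      centralizer (M : Set ↥(centralizer ({z} : Set G))) ≤ M ∧
      pCore 2 ↥(centralizer ({z} : Set G)) ≤ (W ρ).subgroupOf (centralizer ({z} : Set G)) ∧
      IsPGroup 2 (centralizer (M : Set ↥(centralizer ({z} : Set G)))) := by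
  have hzz : z * z = 1 := D.dbl.sq ρ D.hρ z (D.dbl.XW ρ D.hρ hz)
  have ho : orderOf z = 2 := orderOf_eq_prime (by rw [pow_two]; exact hzz) hz1
  have hd := D.czData hz hz1 c (D8.MainE.core_eq_bot C ho) (by
    intro E hE hn p hp
    have hle : P.subgroupOf (centralizer ({z} : Set G)) ≤
        E ⊔ centralizer (E : Set ↥(centralizer ({z} : Set G))) := by
      have hcomp := CaseM.compOf_map hE
      have hSchM : Cfsg.Agent.Schreier.Basic.Sch (↥E ⧸ center ↥E) := by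
        have e : ↥(E.map (centralizer ({z} : Set G)).subtype) ≃* ↥E :=
          (E.equivMapOfInjective _ (centralizer ({z} : Set G)).subtype_injective).symm
        exact Cfsg.Agent.Schreier.Balance.sch_center_quotient e (CaseM.sch_of_comp C hSch ho hcomp)
      refine CaseM.le_sup_centralizer hE.2.1 hSchM (perf_subgroupOf (D.P_le hz) D.perf) ?_
      intro p hp
      ext x
      rw [Cfsg.Agent.Cit.mem_cj]
      constructor
      · intro hx
        have h1 := hn p hp _ hx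
        have e : p * (p⁻¹ * x * p) * p⁻¹ = x := by group
        rwa [e] at h1
      · intro hx
        have h1 := hn p⁻¹ (inv_mem hp) _ hx
        rwa [inv_inv] at h1
    exact inner_of_sup (hle hp))
  obtain ⟨h1, h2, h3, h4, h5, h6, h7⟩ := hd.component hM
  refine ⟨?_, ?_, h3, h4, h5, h6, h7⟩
  · intro p hp
    exact ⟨⟨p, D.P_le hz hp⟩, h1 hp, rfl⟩
  · intro w hw
    exact ⟨⟨w, D.V_le hz hw⟩, h2 hw, rfl⟩

end Base

end Cfsg.Agent.OddHalf.D7Tw

end

-- merged: Cfsg.Agent.OddHalf.D7Tw.Exit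
section

/-!
# THEOREM H: the exit (helper756), K-free

`Z ≤ V` are 2-groups, `V` elementary abelian, `Z = C_V(t)`; for every `x ∈ Z#` a component `M` of `C_G(x)` is unique,
normal, contains `V`, and `C(M) ≤ M ∩ V`. Then `C_G(z)` has no component at all (`exit_false`), given

* `Iface.Intr`: no standard subgroup `M` with `C(M) = ⟨z⟩ ≤ M`,
* `IntrNon`: no standard subgroup with noncyclic centre (`intrNon_of`: from the rows of D4 with `Z(K) ≠ 1`),
* `MultV`: an elementary abelian centre of a known quasisimple group has order at most 4 (`multV_of`),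
* `CaseM.NI`,
* the `T`-formula: `t` lies in the commutator subgroup of `C_G(z)`.
-/

set_option autoImplicit false

namespace Cfsg.Agent.OddHalf.D7Tw

open Subgroup Cfsg
open Cfsg.Agent.OddHalf.Iface
open Cfsg.Agent.SignalizersComponents.Components
open scoped commutatorElement

universe u

/-! ### The named hypotheses -/

/-- no standard subgroup with noncyclic centre -/
def IntrNon : Prop :=
  ∀ (G : Type u) [Group G], Ctx G → ∀ K : Subgroup G, Std0 G K → ¬ IsCyclic ↥(center ↥K) → False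

/-- elementary abelian centres of known quasisimple groups have order at most 4 -/
def MultV : Prop :=
  ∀ (K : Type u) [Group K], Finite K → IsQuasisimple K → IsPGroup 2 ↥(center K) → ¬ PRankLE 2 1 K →
    IsKnownSimple' (K ⧸ center K) → ¬ LieOdd (K ⧸ center K) → (∀ x ∈ center K, x * x = 1) →
    Nat.card ↥(center K) ≤ 4

/-- a cyclic group of exponent 2 -/
theorem card_le_two_of_cyclic {A : Type*} [Group A] [Finite A] (h : IsCyclic A) (h2 : ∀ x : A, x * x = 1) :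
    Nat.card A ≤ 2 := by
  obtain ⟨g, hg⟩ := h.exists_generator
  have h1 : orderOf g = Nat.card A := orderOf_eq_card_of_forall_mem_zpowers hg
  rw [← h1]
  exact orderOf_le_of_pow_eq_one (by norm_num) (by rw [pow_two]; exact h2 g)

theorem three_le {A : Type*} [Group A] [Finite A] {a b : A} (ha : a ≠ 1) (hb : b ≠ 1) (hab : a ≠ b) :
    3 ≤ Nat.card A := by
  classical
  haveI := Fintype.ofFinite A
  have h1 : ({1, a, b} : Finset A).card = 3 := Finset.card_eq_three.2 ⟨1, a, b, ha.symm, hb.symm, hab, rfl⟩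
  rw [← h1, Nat.card_eq_fintype_card]
  exact Finset.card_le_univ _

theorem five_le {A : Type*} [Group A] [Finite A] {a b c d : A} (ha : a ≠ 1) (hb : b ≠ 1) (hc : c ≠ 1)
    (hd : d ≠ 1) (hab : a ≠ b) (hac : a ≠ c) (had : a ≠ d) (hbc : b ≠ c) (hbd : b ≠ d) (hcd : c ≠ d) :
    5 ≤ Nat.card A := by
  classical
  haveI := Fintype.ofFinite A
  have h1 : ({1, a, b, c, d} : Finset A).card = 5 := by
    rw [Finset.card_insert_of_notMem, Finset.card_insert_of_notMem, Finset.card_insert_of_notMem,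
      Finset.card_insert_of_notMem, Finset.card_singleton]
    · simpa using hcd
    · simp only [Finset.mem_insert, Finset.mem_singleton, not_or]
      exact ⟨hbc, hbd⟩
    · simp only [Finset.mem_insert, Finset.mem_singleton, not_or]
      exact ⟨hab, hac, had⟩
    · simp only [Finset.mem_insert, Finset.mem_singleton, not_or]
      exact ⟨ha.symm, hb.symm, hc.symm, hd.symm⟩
  rw [← h1, Nat.card_eq_fintype_card]
  exact Finset.card_le_univ _

/-- **`MultV`** from the multiplier facts of D4 -/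
theorem multV_of (d5cover : D5cover.{u}) (M4 : D4.Cut.MultD4.{u}) : MultV.{u} := by
  intro K _ hfin hq h2 hr hk ho hsq
  by_cases hc : IsCyclic ↥(center K)
  · have := card_le_two_of_cyclic hc fun x => Subtype.ext (hsq x x.2)
    omega
  have hQ : D4.Cut.QsNon K := ⟨hfin, hq, h2, hc⟩
  have hna : ¬ IsMulCommutative (K ⧸ center K) := Soft.quo_na hq
  have hz : center K ≠ ⊥ := by
    intro h
    apply hc
    rw [h]
    infer_instance
  have halt : ¬ IsAlternating (K ⧸ center K) := by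
    rintro ⟨n, hn, hf⟩
    obtain ⟨-, hcov⟩ := d5cover K hfin hq h2 hz hr n hn hf
    apply hc
    haveI : Fact (Nat.Prime 2) := ⟨Nat.prime_two⟩
    exact isCyclic_of_prime_card hcov.1
  rcases Known.classify hna hk with h | h | h | h
  · exact absurd h halt
  · exact absurd h ho
  · rcases M4.lie K hQ ⟨h, halt, ho⟩ with h | h
    · exact (M4.four K hQ h).1.le
    · obtain ⟨-, homega⟩ := M4.l34 K hQ h
      rw [← homega]
      refine Nat.card_le_card_of_injective (fun z => (⟨z, Subtype.ext (hsq z z.2)⟩ :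
        {z : ↥(center K) // z * z = 1})) ?_
      intro a b hab
      exact congrArg Subtype.val hab
  · exact absurd h (M4.spor K hQ)

/-- **`IntrNon`** from the rows of D4 with `Z(K) ≠ 1` -/
theorem intrNon_of (Kn : Main.Known.{u}) (d5cover : D5cover.{u}) (u2 : U2.{u}) (M4 : D4.Cut.MultD4.{u})
    (R : D4.Cut.RowsCov.{u}) : IntrNon.{u} := by
  intro G _ C K S hc
  haveI := C.fin
  have hz : center ↥K ≠ ⊥ := by
    intro h
    apply hc
    rw [h]
    infer_instance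
  by_cases hl : Listed K
  · exact ListedOut.listed_false Kn.rows Kn.forms C S hl
  by_cases ha : IsAlternating (↥K ⧸ center ↥K)
  · exact Main.altCov_false Kn d5cover C S ha hz
  by_cases ho : LieOdd (↥K ⧸ center ↥K)
  · exact u2 G C K S ho hz ha
  have ht : LieTwo (↥K ⧸ center ↥K) ∨ IsSporadicGroup (↥K ⧸ center ↥K) := by
    rcases Known.classify S.quo_na S.known with h | h | h | h
    · exact absurd h ha
    · exact absurd h ho
    · exact Or.inl ⟨h, ha, ho⟩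
    · exact Or.inr h
  have hr : ¬ PRankLE 2 1 ↥(centralizer (K : Set G)) := by
    intro hr
    haveI : Fact (Nat.Prime 2) := ⟨Nat.prime_two⟩
    let f : ↥(center ↥K) →* ↥(centralizer (K : Set G)) :=
      { toFun := fun x => ⟨((x : ↥K) : G), mem_centralizer_iff.2 fun k hk =>
          congrArg Subtype.val (mem_center_iff.1 x.2 ⟨k, hk⟩)⟩
        map_one' := rfl
        map_mul' := fun _ _ => rfl }
    have hf : Function.Injective f := fun a b h =>
      Subtype.ext (Subtype.ext (congrArg (fun y : ↥(centralizer (K : Set G)) => (y : G)) h))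
    have h1 : IsPGroup 2 ↥f.range := S.z2.of_surjective f.rangeRestrict f.rangeRestrict_surjective
    have hr2 : PRankLE 2 1 ↥f.range := OddOrderLocal.Rank.pRankLE_subgroup hr
    have hcomm : ∀ a b : ↥f.range, a * b = b * a := by
      rintro ⟨_, x, rfl⟩ ⟨_, y, rfl⟩
      apply Subtype.ext
      show f x * f y = f y * f x
      rw [← map_mul, ← map_mul]
      exact congrArg f (Subtype.ext (mem_center_iff.1 y.2 (x : ↥K)))
    have hcyc : IsCyclic ↥f.range := by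
      rcases Classification.RankOneCore.cyclic_or_quaternion h1 hr2 with h | ⟨n, ⟨e⟩⟩
      · exact h
      obtain _ | n := n
      · have h3 : IsCyclic (QuaternionGroup 1) := QuaternionGroup.quaternionGroup_one_isCyclic
        have e' : ↥f.range ≃* QuaternionGroup 1 := e
        exact isCyclic_of_surjective e'.symm e'.symm.surjective
      exfalso
      have h4 := hcomm (e.symm (QuaternionGroup.a 1)) (e.symm (QuaternionGroup.xa 0))
      rw [← map_mul, ← map_mul] at h4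
      have h5 := e.symm.injective h4
      rw [QuaternionGroup.a_mul_xa, QuaternionGroup.xa_mul_a, QuaternionGroup.xa.injEq] at h5
      have h6 : ((2 : ℕ) : ZMod (2 * 2 ^ (n + 1))) = 0 := by
        push_cast
        linear_combination -h5
      rw [ZMod.natCast_eq_zero_iff] at h6
      have h7 := Nat.le_of_dvd (by norm_num) h6
      have h8 := Nat.one_le_two_pow (n := n)
      rw [pow_succ] at h7
      omega
    refine hc (isCyclic_of_injective f.rangeRestrict ?_)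
    exact MonoidHom.rangeRestrict_injective_iff.2 hf
  exact D4.Cut.noncyclic_false M4 R C S hr hc ht hl

/-! ### Standard subgroups -/

variable {G : Type u} [Group G]

theorem eq_bot_of_perf_comm {D : Subgroup G} (hD : ⁅D, D⁆ = D) (hs : ∀ a ∈ D, ∀ b ∈ D, a * b = b * a) :
    D = ⊥ := by
  rw [← hD, commutator_eq_bot_iff_le_centralizer]
  intro a ha
  exact mem_centralizer_iff.2 fun b hb => hs b hb a ha

theorem map_conj_eq [Finite G] {g : G} {E : Subgroup G} (h : ∀ e ∈ E, g * e * g⁻¹ ∈ E) :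
    E.map (MulAut.conj g).toMonoidHom = E := by
  refine Subgroup.eq_of_le_of_card_ge ?_ (le_of_eq (Nat.card_congr
    (E.equivMapOfInjective (MulAut.conj g).toMonoidHom (MulAut.conj g).injective).toEquiv))
  rintro _ ⟨e, he, rfl⟩
  exact h e he

theorem mem_normalizer_of_map {g : G} {E : Subgroup G} (h : E.map (MulAut.conj g).toMonoidHom = E) :
    g ∈ normalizer (E : Set G) := by
  rw [mem_normalizer_iff]
  intro x
  constructor
  · intro hx
    rw [← h]
    exact ⟨x, hx, rfl⟩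
  · intro hx
    rw [← h] at hx
    obtain ⟨y, hy, hyx⟩ := hx
    have : y = x := (MulAut.conj g).injective hyx
    rwa [← this]

/-- a quasisimple subgroup `E` with `C(E) ≤ E` a nontrivial 2-group, TI in the strong sense -/
theorem standard_of [Finite G] {E : Subgroup G} (hq : IsQuasisimple ↥E)
    (hc : centralizer (E : Set G) ≤ E) (hc2 : IsPGroup 2 ↥(centralizer (E : Set G)))
    (hc1 : centralizer (E : Set G) ≠ ⊥)
    (hTI : ∀ x ∈ centralizer (E : Set G), x ≠ 1 → ∀ g : G, g * x * g⁻¹ ∈ centralizer (E : Set G) →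
      E.map (MulAut.conj g).toMonoidHom = E) : IsStandardSubgroup E := by
  have hperf : ⁅E, E⁆ = E := by
    have h1 : commutator ↥E = ⊤ := Group.isPerfect_def.1 hq.1
    have h2 : (commutator ↥E).map E.subtype = E := by rw [h1, ← MonoidHom.range_eq_map, E.range_subtype]
    rwa [_root_.commutator_def, map_commutator, ← MonoidHom.range_eq_map, E.range_subtype] at h2
  have hcc : ∀ a ∈ centralizer (E : Set G), ∀ b ∈ centralizer (E : Set G), a * b = b * a :=
    fun a ha b hb => mem_centralizer_iff.1 hb a (hc ha)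
  have hE1 : E ≠ ⊥ := by
    intro h
    apply hc1
    rw [eq_bot_iff, ← h]
    exact hc
  refine ⟨hq, ⟨?_, ?_⟩, ?_, ?_⟩
  · haveI : Fact (Nat.Prime 2) := ⟨Nat.prime_two⟩
    haveI : Nontrivial ↥(centralizer (E : Set G)) := (Subgroup.nontrivial_iff_ne_bot _).2 hc1
    obtain ⟨n, hn, hn'⟩ := hc2.nontrivial_iff_card.1 this
    rw [hn']
    exact (Nat.even_pow.2 ⟨even_two, hn.ne'⟩)
  · intro g hg
    have h1 : centralizer (E : Set G) ⊓ (centralizer (E : Set G)).map (MulAut.conj g).toMonoidHom = ⊥ := by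
      rw [eq_bot_iff]
      rintro _ ⟨hx, ⟨y, hy, rfl⟩⟩
      rw [mem_bot]
      by_contra hne
      apply hg
      have hy1 : y ≠ 1 := by
        rintro rfl
        exact hne (map_one _)
      have h2 := mem_normalizer_of_map (hTI y hy hy1 g hx)
      have h3 : ∀ w ∈ centralizer (E : Set G), g * w * g⁻¹ ∈ centralizer (E : Set G) := by
        intro w hw
        rw [mem_centralizer_iff]
        intro e he
        have h4 : g⁻¹ * e * g ∈ E := by
          have := (mem_normalizer_iff.1 (inv_mem h2) e).1 he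
          rwa [inv_inv] at this
        have h5 := mem_centralizer_iff.1 hw _ h4
        calc e * (g * w * g⁻¹) = g * ((g⁻¹ * e * g) * w) * g⁻¹ := by group
          _ = g * (w * (g⁻¹ * e * g)) * g⁻¹ := by rw [h5]
          _ = g * w * g⁻¹ * e := by group
      exact mem_normalizer_of_map (map_conj_eq h3)
    rw [h1, Nat.card_unique]
    exact odd_one
  · intro g _ hcom
    apply hE1
    have h1 : E.map (MulAut.conj g).toMonoidHom ≤ centralizer (E : Set G) := by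
      have := commutator_eq_bot_iff_le_centralizer.1 hcom
      rwa [le_centralizer_iff] at this
    have h2 : E.map (MulAut.conj g).toMonoidHom = ⊥ := by
      refine eq_bot_of_perf_comm ?_ fun a ha b hb => hcc a (h1 ha) b (h1 hb)
      rw [← map_commutator, hperf]
    exact (Subgroup.map_eq_bot_iff_of_injective _ (MulAut.conj g).injective).1 h2
  · apply le_antisymm
    · intro g hg
      apply mem_normalizer_of_map
      apply map_conj_eq
      intro w hw
      rw [mem_centralizer_iff]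
      intro e he
      have h4 : g⁻¹ * e * g ∈ E := by
        have := (mem_normalizer_iff.1 (inv_mem hg) e).1 he
        rwa [inv_inv] at this
      have h5 := mem_centralizer_iff.1 hw _ h4
      calc e * (g * w * g⁻¹) = g * ((g⁻¹ * e * g) * w) * g⁻¹ := by group
        _ = g * (w * (g⁻¹ * e * g)) * g⁻¹ := by rw [h5]
        _ = g * w * g⁻¹ * e := by group
    · intro g hg
      obtain ⟨x, hx, hx1⟩ : ∃ x ∈ centralizer (E : Set G), x ≠ 1 := by
        by_contra hcon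
        push Not at hcon
        exact hc1 ((eq_bot_iff_forall _).2 hcon)
      exact mem_normalizer_of_map (hTI x hx hx1 g ((mem_normalizer_iff.1 hg x).1 hx))

theorem CompOf.conj' {x : G} {E : Subgroup G} (h : CompOf x E) (g : G) :
    CompOf (g * x * g⁻¹) (E.map (MulAut.conj g).toMonoidHom) := by
  have e : (centralizer ({x} : Set G)).map (MulAut.conj g).toMonoidHom = centralizer ({g * x * g⁻¹} : Set G) := by
    ext y
    constructor
    · rintro ⟨c, hc, rfl⟩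
      have h1 : c * x = x * c := mem_centralizer_singleton_iff.1 hc
      apply mem_centralizer_singleton_iff.2
      show g * c * g⁻¹ * (g * x * g⁻¹) = g * x * g⁻¹ * (g * c * g⁻¹)
      calc g * c * g⁻¹ * (g * x * g⁻¹) = g * (c * x) * g⁻¹ := by group
        _ = g * (x * c) * g⁻¹ := by rw [h1]
        _ = _ := by group
    · intro hy
      have h1 := mem_centralizer_singleton_iff.1 hy
      refine ⟨g⁻¹ * y * g, mem_centralizer_singleton_iff.2 ?_, ?_⟩
      · calc g⁻¹ * y * g * x = g⁻¹ * (y * (g * x * g⁻¹)) * g := by group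
          _ = g⁻¹ * (g * x * g⁻¹ * y) * g := by rw [h1]
          _ = _ := by group
      · show g * (g⁻¹ * y * g) * g⁻¹ = y
        group
  have h2 := Cfsg.Agent.SignalizersComponents.DistinctComponents.isComponent_subgroupOf_conj h.1 h.2 g
  rw [e] at h2
  refine ⟨?_, h2⟩
  rw [← e]
  exact map_mono h.1

/-! ### The exit -/

/-- the hypotheses of the exit -/
structure Ex (t z : G) (Z V : Subgroup G) : Prop where
  tt : t * t = 1
  V2 : ∀ w ∈ V, w * w = 1
  ZV : Z ≤ V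
  Zt : ∀ w ∈ Z, w * t = t * w
  Vfix : ∀ w ∈ V, w * t = t * w → w ∈ Z
  zZ : z ∈ Z
  z1 : z ≠ 1
  trans : ∀ x ∈ Z, x ≠ 1 → ∃ g : G, g * z * g⁻¹ = x
  /-- the output of `D7Out.Cz.Data.component` -/
  comp : ∀ x ∈ Z, x ≠ 1 → ∀ M : Subgroup ↥(centralizer ({x} : Set G)), IsComponent M →
    V ≤ M.map (centralizer ({x} : Set G)).subtype ∧
      (∀ M' : Subgroup ↥(centralizer ({x} : Set G)), IsComponent M' → M' = M) ∧ M.Normal ∧
      centralizer (M : Set ↥(centralizer ({x} : Set G))) ≤ M ∧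
      pCore 2 ↥(centralizer ({x} : Set G)) ≤ V.subgroupOf (centralizer ({x} : Set G)) ∧
      IsPGroup 2 (centralizer (M : Set ↥(centralizer ({x} : Set G))))
  /-- the `T`-formula -/
  tform : ∀ ht : t ∈ centralizer ({z} : Set G),
    (⟨t, ht⟩ : ↥(centralizer ({z} : Set G))) ∈ commutator ↥(centralizer ({z} : Set G))

namespace Ex

variable {t z : G} {Z V : Subgroup G}

theorem facts (h : Ex t z Z V) {x : G} (hx : x ∈ Z) (hx1 : x ≠ 1) {E : Subgroup G} (hE : CompOf x E) :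
    V ≤ E ∧ (∀ E', CompOf x E' → E' = E) ∧ (∀ g, g * x = x * g → ∀ e ∈ E, g * e * g⁻¹ ∈ E) ∧
      ∀ y ∈ centralizer (E : Set G), y ∈ E ∧ y ∈ V := by
  have hmap : (E.subgroupOf (centralizer ({x} : Set G))).map (centralizer ({x} : Set G)).subtype = E := by
    rw [subgroupOf_map_subtype, inf_eq_left.2 hE.1]
  obtain ⟨h1, h2, h3, h4, h5, h6⟩ := h.comp x hx hx1 _ hE.2
  rw [hmap] at h1
  refine ⟨h1, ?_, ?_, ?_⟩
  · intro E' hE'
    have e := h2 _ hE'.2
    have e1 := congrArg (fun D : Subgroup ↥(centralizer ({x} : Set G)) => D.map (centralizer ({x} : Set G)).subtype) e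
    simp only [subgroupOf_map_subtype, inf_eq_left.2 hE'.1, inf_eq_left.2 hE.1] at e1
    exact e1
  · intro g hg e he
    exact h3.conj_mem ⟨e, hE.1 he⟩ he ⟨g, mem_centralizer_singleton_iff.2 hg⟩
  · intro y hy
    have hyx : y * x = x * y := (mem_centralizer_iff.1 hy x (h1 (h.ZV hx))).symm
    have hyH : y ∈ centralizer ({x} : Set G) := mem_centralizer_singleton_iff.2 hyx
    have hyM : (⟨y, hyH⟩ : ↥(centralizer ({x} : Set G))) ∈
        centralizer ((E.subgroupOf (centralizer ({x} : Set G)) : Subgroup _) :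
          Set ↥(centralizer ({x} : Set G))) := by
      rw [mem_centralizer_iff]
      intro e he
      exact Subtype.ext (mem_centralizer_iff.1 hy e he)
    haveI := h3
    have hn : (centralizer ((E.subgroupOf (centralizer ({x} : Set G)) : Subgroup _) :
        Set ↥(centralizer ({x} : Set G)))).Normal := inferInstance
    exact ⟨h4 hyM, h5 (Lib.Cores.le_pCore hn h6 hyM)⟩

/-- a component of `C_G(z)` is a component of `C_G(x)` for `1 ≠ x ∈ Z ∩ Z(E)` -/
theorem move [Finite G] (h : Ex t z Z V) (C : Ctx G)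
    (hSch : Cfsg.Agent.Schreier.Cases.SchFor.{u} @IsKnownSimple') {E : Subgroup G} (hE : CompOf z E) {x : G}
    (hx : x ∈ Z) (hx1 : x ≠ 1) (hxE : x ∈ centralizer (E : Set G)) : CompOf x E := by
  obtain ⟨g, rfl⟩ := h.trans x hx hx1
  have hE' := CompOf.conj' hE g
  have hx2 : (g * z * g⁻¹) * (g * z * g⁻¹) = 1 := h.V2 _ (h.ZV hx)
  have ho : orderOf (g * z * g⁻¹) = 2 := orderOf_eq_prime (by rw [pow_two]; exact hx2) hx1
  obtain ⟨-, -, hn, hcc⟩ := h.facts hx hx1 hE'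
  set E' := E.map (MulAut.conj g).toMonoidHom with hE'def
  have hq' := Soft.CompOf.quasisimple hE'
  have hq := Soft.CompOf.quasisimple hE
  have hperf : ⁅E, E⁆ = E := by
    have h1 : commutator ↥E = ⊤ := Group.isPerfect_def.1 hq.1
    have h2 : (commutator ↥E).map E.subtype = E := by rw [h1, ← MonoidHom.range_eq_map, E.range_subtype]
    rwa [_root_.commutator_def, map_commutator, ← MonoidHom.range_eq_map, E.range_subtype] at h2
  have h1 : E ≤ E' ⊔ centralizer (E' : Set G) := by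
    refine CaseM.le_sup_centralizer hq'.1 (CaseM.sch_of_comp C hSch ho hE') hperf ?_
    intro p hp
    refine map_conj_eq fun e he => hn p ?_ e he
    exact mem_centralizer_iff.1 hxE p hp
  have h2 : E ≤ E' := h1.trans (sup_le le_rfl fun y hy => (hcc y hy).1)
  have h3 : E = E' := Subgroup.eq_of_le_of_card_ge h2 (le_of_eq (Nat.card_congr
    (E.equivMapOfInjective (MulAut.conj g).toMonoidHom (MulAut.conj g).injective).toEquiv.symm))
  rw [h3]
  exact hE'

/-- **the exit** -/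
theorem exit_false [Finite G] (h : Ex t z Z V) (C : Ctx G)
    (hSch : Cfsg.Agent.Schreier.Cases.SchFor.{u} @IsKnownSimple') (hGW : SylowSp4.Hyps.GW.{u})
    (hI : Iface.Intr.{u}) (hIN : IntrNon.{u}) (hMV : MultV.{u}) (hNI : CaseM.NI.{u})
    (M : Subgroup ↥(centralizer ({z} : Set G))) (hM : IsComponent M) : False := by
  have hzz : z * z = 1 := h.V2 z (h.ZV h.zZ)
  have ho : orderOf z = 2 := orderOf_eq_prime (by rw [pow_two]; exact hzz) h.z1
  set E : Subgroup G := M.map (centralizer ({z} : Set G)).subtype with hEdef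
  have hE : CompOf z E := CaseM.compOf_map hM
  obtain ⟨hVE, huniq, hnE, hcE⟩ := h.facts h.zZ h.z1 hE
  have hzE : z ∈ E := hVE (h.ZV h.zZ)
  have hq := Soft.CompOf.quasisimple hE
  have hcz : z ∈ centralizer (E : Set G) := by
    rw [mem_centralizer_iff]
    intro e he
    exact mem_centralizer_singleton_iff.1 (hE.1 he)
  have hinv : ∀ y ∈ centralizer (E : Set G), y * y = 1 := fun y hy => h.V2 y (hcE y hy).2
  have hc2 : IsPGroup 2 ↥(centralizer (E : Set G)) := by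
    intro y
    exact ⟨1, Subtype.ext (by rw [pow_one, pow_two]; exact hinv y y.2)⟩
  have hcc : ∀ a ∈ centralizer (E : Set G), ∀ b ∈ centralizer (E : Set G), a * b = b * a :=
    fun a ha b hb => mem_centralizer_iff.1 hb a (hcE a ha).1
  have htz : t * z = z * t := (h.Zt z h.zZ).symm
  have htC : ∀ y ∈ centralizer (E : Set G), t * y * t ∈ centralizer (E : Set G) := by
    intro y hy
    have hti : t⁻¹ = t := inv_eq_of_mul_eq_one_left h.tt
    rw [mem_centralizer_iff]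
    intro e he
    have h1 := hnE t htz e he
    rw [hti] at h1
    have h2 := mem_centralizer_iff.1 hy _ h1
    calc e * (t * y * t) = (t * t) * e * (t * y * t) := by rw [h.tt, one_mul]
      _ = t * ((t * e * t) * y) * t := by group
      _ = t * (y * (t * e * t)) * t := by rw [h2]
      _ = t * y * t * e * (t * t) := by group
      _ = t * y * t * e := by rw [h.tt, mul_one]
  have hcenter : ∀ y : G, ∀ hy : y ∈ centralizer (E : Set G), (⟨y, (hcE y hy).1⟩ : ↥E) ∈ center ↥E := by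
    intro y hy
    rw [mem_center_iff]
    intro e
    exact Subtype.ext (mem_centralizer_iff.1 hy e e.2)
  have hcenter' : ∀ y ∈ center ↥E, (y : G) ∈ centralizer (E : Set G) := by
    intro y hy
    rw [mem_centralizer_iff]
    intro e he
    exact congrArg Subtype.val (mem_center_iff.1 hy ⟨e, he⟩)
  by_cases hall : ∀ y ∈ centralizer (E : Set G), y * t = t * y
  · -- `t` centralises `Z(E)`
    have hZ : ∀ y ∈ centralizer (E : Set G), y ∈ Z := fun y hy => h.Vfix y (hcE y hy).2 (hall y hy)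
    have hstd : IsStandardSubgroup E := by
      refine standard_of hq (fun y hy => (hcE y hy).1) hc2 ?_ ?_
      · intro hb
        rw [hb, mem_bot] at hcz
        exact h.z1 hcz
      · intro x hx hx1 g hg
        have h1 := h.move C hSch hE (hZ x hx) hx1 hx
        have hg1 : g * x * g⁻¹ ≠ 1 := by
          intro e
          apply hx1
          have : x = g⁻¹ * (g * x * g⁻¹) * g := by group
          rw [this, e]; group
        have h2 := h.move C hSch hE (hZ _ hg) hg1 hg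
        exact (h.facts (hZ _ hg) hg1 h2).2.1 _ (CompOf.conj' h1 g)
    by_cases hcyc : IsCyclic ↥(center ↥E)
    · have h4 := card_le_two_of_cyclic hcyc fun x => Subtype.ext (Subtype.ext (hinv _ (hcenter' x x.2)))
      refine hI G C E z ho hstd hzE ?_
      refine le_antisymm ?_ (zpowers_le.2 hcz)
      intro y hy
      by_contra hne
      have hy1 : y ≠ 1 := fun e => hne (e ▸ one_mem _)
      have hyz : y ≠ z := fun e => hne (e ▸ mem_zpowers z)
      have h5 := three_le (A := ↥(center ↥E)) (a := ⟨⟨z, hzE⟩, hcenter z hcz⟩)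
        (b := ⟨⟨y, (hcE y hy).1⟩, hcenter y hy⟩)
        (fun e => h.z1 (congrArg (fun w : ↥(center ↥E) => ((w : ↥E) : G)) e))
        (fun e => hy1 (congrArg (fun w : ↥(center ↥E) => ((w : ↥E) : G)) e))
        (fun e => hyz (congrArg (fun w : ↥(center ↥E) => ((w : ↥E) : G)) e).symm)
      omega
    · exact hIN G C E (Main.std0_of_standard hGW C hstd) hcyc
  · -- `t` moves an element of `Z(E)`
    push Not at hall
    obtain ⟨x, hx, hxt⟩ := hall
    have hsimp := C.simple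
    have hnt := Soft.CompOf.ne_top C.na ho hE
    have hkn := Known.known_quotient C.kproper _ hnt _ hq.2 (Soft.quo_na hq)
    have h4 : Nat.card ↥(center ↥E) ≤ 4 := by
      refine hMV ↥E inferInstance hq ?_ (CaseM.rank_two C hGW ho hE hzE) hkn (hNI G C z E ho hE hzE) ?_
      · exact Soft.CompOf.center_isPGroup (C.bal z ho) hE
      · intro y hy
        exact Subtype.ext (hinv _ (hcenter' y hy))
    have h5 : ∀ a b c d : G, a ∈ centralizer (E : Set G) → b ∈ centralizer (E : Set G) →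
        c ∈ centralizer (E : Set G) → d ∈ centralizer (E : Set G) → a ≠ 1 → b ≠ 1 → c ≠ 1 → d ≠ 1 → a ≠ b →
        a ≠ c → a ≠ d → b ≠ c → b ≠ d → c ≠ d → False := by
      intro a b c d ha hb hc hd ha1 hb1 hc1 hd1 hab hac had hbc hbd hcd
      have key : ∀ (u v : G) (hu : u ∈ centralizer (E : Set G)) (hv : v ∈ centralizer (E : Set G)), u ≠ v →
          (⟨⟨u, (hcE u hu).1⟩, hcenter u hu⟩ : ↥(center ↥E)) ≠ ⟨⟨v, (hcE v hv).1⟩, hcenter v hv⟩ :=
        fun u v hu hv huv e => huv (congrArg (fun w : ↥(center ↥E) => ((w : ↥E) : G)) e)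
      have key1 : ∀ (u : G) (hu : u ∈ centralizer (E : Set G)), u ≠ 1 →
          (⟨⟨u, (hcE u hu).1⟩, hcenter u hu⟩ : ↥(center ↥E)) ≠ 1 :=
        fun u hu hu1 e => hu1 (congrArg (fun w : ↥(center ↥E) => ((w : ↥E) : G)) e)
      have := five_le (key1 a ha ha1) (key1 b hb hb1) (key1 c hc hc1) (key1 d hd hd1) (key a b ha hb hab)
        (key a c ha hc hac) (key a d ha hd had) (key b c hb hc hbc) (key b d hb hd hbd) (key c d hc hd hcd)
      omega
    -- `w = [x, t]`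
    set w := x * (t * x * t) with hw
    have hwC : w ∈ centralizer (E : Set G) := mul_mem hx (htC x hx)
    have hx2 := hinv x hx
    have hx1 : x ≠ 1 := by
      rintro rfl
      exact hxt (by group)
    have hw1 : w ≠ 1 := by
      intro e
      apply hxt
      have h6 : t * x * t = x := by
        calc t * x * t = (x * x) * (t * x * t) := by rw [hx2, one_mul]
          _ = x * w := by rw [hw]; group
          _ = x := by rw [e, mul_one]
      calc x * t = (t * x * t) * t := by rw [h6]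
        _ = t * x * (t * t) := by group
        _ = t * x := by rw [h.tt, mul_one]
    have hwt : w * t = t * w := by
      have h6 : x * (t * x * t) = (t * x * t) * x := hcc x hx _ (htC x hx)
      calc w * t = (x * (t * x * t)) * t := by rw [hw]
        _ = ((t * x * t) * x) * t := by rw [h6]
        _ = t * (x * (t * x * t)) := by group
        _ = t * w := by rw [hw]
    have hxw1 : x * w ≠ 1 := by
      intro e
      apply hxt
      have : x = w⁻¹ := eq_inv_of_mul_eq_one_left e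
      rw [this]
      exact ((Commute.inv_left (show Commute w t from hwt))).eq
    have hxw_t : ¬ (x * w) * t = t * (x * w) := by
      intro e
      apply hxt
      have h6 : Commute (x * w) t := e
      have h7 : Commute w⁻¹ t := Commute.inv_left (show Commute w t from hwt)
      have h8 : Commute (x * w * w⁻¹) t := h6.mul_left h7
      rw [mul_inv_cancel_right] at h8
      exact h8.eq
    have hxw_ne : x ≠ w := fun e => hxt (e ▸ hwt)
    have hxxw : x ≠ x * w := fun e => hw1 (left_eq_mul.1 e)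
    have hwxw : w ≠ x * w := fun e => hx1 (right_eq_mul.1 e)
    have hzw : z = w := by
      by_contra hne
      refine h5 x w (x * w) z hx hwC (mul_mem hx hwC) hcz hx1 hw1 hxw1 h.z1 hxw_ne hxxw ?_ hwxw (Ne.symm hne) ?_
      · intro e
        exact hxt (e ▸ h.Zt z h.zZ)
      · intro e
        exact hxw_t (e ▸ h.Zt z h.zZ)
    have hconj : ∀ g : G, g * z = z * g → g * x * g⁻¹ = x ∨ g * x * g⁻¹ = x * z := by
      intro g hg
      have hgC : g * x * g⁻¹ ∈ centralizer (E : Set G) := by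
        rw [mem_centralizer_iff]
        intro e he
        have hgi : g⁻¹ * z = z * g⁻¹ := (Commute.inv_left (show Commute g z from hg)).eq
        have h6 := hnE g⁻¹ hgi e he
        have h7 := mem_centralizer_iff.1 hx _ h6
        calc e * (g * x * g⁻¹) = g * ((g⁻¹ * e * g⁻¹⁻¹) * x) * g⁻¹ := by group
          _ = g * (x * (g⁻¹ * e * g⁻¹⁻¹)) * g⁻¹ := by rw [h7]
          _ = g * x * g⁻¹ * e := by group
      by_contra hcon
      push Not at hcon
      have hg1 : g * x * g⁻¹ ≠ 1 := by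
        intro e
        apply hx1
        have : x = g⁻¹ * (g * x * g⁻¹) * g := by group
        rw [this, e]; group
      have hgz : g * x * g⁻¹ ≠ w := by
        intro e
        rw [← hzw] at e
        apply hxw_ne
        rw [← hzw]
        have : x = g⁻¹ * (g * x * g⁻¹) * g := by group
        rw [this, e, mul_assoc, ← hg]
        group
      rw [hzw] at hcon
      exact h5 x w (x * w) _ hx hwC (mul_mem hx hwC) hgC hx1 hw1 hxw1 hg1 hxw_ne hxxw hcon.1.symm hwxw hgz.symm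
        hcon.2.symm
    -- the commutator subgroup of `C_G(z)` centralises `x`
    have htH : t ∈ centralizer ({z} : Set G) := mem_centralizer_singleton_iff.2 htz
    have hcomm : ∀ a b : G, a * z = z * a → b * z = z * b → a * b * x * (a * b)⁻¹ = b * a * x * (b * a)⁻¹ := by
      intro a b ha hb
      have e1 : ∃ i : G, (i = 1 ∨ i = z) ∧ a * x * a⁻¹ = x * i := by
        rcases hconj a ha with e | e
        · exact ⟨1, Or.inl rfl, by rw [e, mul_one]⟩
        · exact ⟨z, Or.inr rfl, e⟩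
      have e2 : ∃ j : G, (j = 1 ∨ j = z) ∧ b * x * b⁻¹ = x * j := by
        rcases hconj b hb with e | e
        · exact ⟨1, Or.inl rfl, by rw [e, mul_one]⟩
        · exact ⟨z, Or.inr rfl, e⟩
      obtain ⟨i, hi, e1⟩ := e1
      obtain ⟨j, hj, e2⟩ := e2
      have hai : a * j = j * a := by
        rcases hj with rfl | rfl
        · group
        · exact ha
      have hbi : b * i = i * b := by
        rcases hi with rfl | rfl
        · group
        · exact hb
      have hij : i * j = j * i := by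
        rcases hi with rfl | rfl
        · group
        · rcases hj with rfl | rfl
          · group
          · rfl
      calc a * b * x * (a * b)⁻¹ = a * (b * x * b⁻¹) * a⁻¹ := by group
        _ = a * x * (j * a⁻¹) := by rw [e2]; group
        _ = a * x * (a⁻¹ * j) := by
          have : j * a⁻¹ = a⁻¹ * j := ((Commute.inv_left (show Commute a j from hai))).eq.symm
          rw [this]
        _ = (a * x * a⁻¹) * j := by group
        _ = x * (i * j) := by rw [e1]; group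
        _ = x * (j * i) := by rw [hij]
        _ = (b * x * b⁻¹) * i := by rw [e2]; group
        _ = b * x * (b⁻¹ * i) := by group
        _ = b * x * (i * b⁻¹) := by
          have : i * b⁻¹ = b⁻¹ * i := ((Commute.inv_left (show Commute b i from hbi))).eq.symm
          rw [this]
        _ = b * (x * i) * b⁻¹ := by group
        _ = b * (a * x * a⁻¹) * b⁻¹ := by rw [e1]
        _ = _ := by group
    let S : Subgroup ↥(centralizer ({z} : Set G)) := (centralizer ({x} : Set G)).subgroupOf _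
    have hS : commutator ↥(centralizer ({z} : Set G)) ≤ S := by
      rw [_root_.commutator_def, commutator_le]
      intro a _ b _
      have ha := mem_centralizer_singleton_iff.1 a.2
      have hb := mem_centralizer_singleton_iff.1 b.2
      have ha' : (a : G)⁻¹ * z = z * (a : G)⁻¹ := (Commute.inv_left (show Commute (a : G) z from ha)).eq
      have hb' : (b : G)⁻¹ * z = z * (b : G)⁻¹ := (Commute.inv_left (show Commute (b : G) z from hb)).eq
      show ((⁅a, b⁆ : ↥(centralizer ({z} : Set G))) : G) ∈ centralizer ({x} : Set G)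
      rw [mem_centralizer_singleton_iff]
      have hab : ((⁅a, b⁆ : ↥(centralizer ({z} : Set G))) : G) = (a : G) * b * (a : G)⁻¹ * (b : G)⁻¹ := rfl
      rw [hab]
      have e3 := hcomm _ _ ha' hb'
      calc (a : G) * b * (a : G)⁻¹ * (b : G)⁻¹ * x
          = (a : G) * b * ((a : G)⁻¹ * (b : G)⁻¹ * x * ((a : G)⁻¹ * (b : G)⁻¹)⁻¹) *
            ((a : G)⁻¹ * (b : G)⁻¹) := by group
        _ = (a : G) * b * ((b : G)⁻¹ * (a : G)⁻¹ * x * ((b : G)⁻¹ * (a : G)⁻¹)⁻¹) *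
            ((a : G)⁻¹ * (b : G)⁻¹) := by rw [e3]
        _ = x * ((a : G) * b * (a : G)⁻¹ * (b : G)⁻¹) := by group
    have h9 := hS (h.tform htH)
    have h10 : t * x = x * t := mem_centralizer_singleton_iff.1 (mem_subgroupOf.1 h9)
    exact hxt h10.symm

end Ex

end Cfsg.Agent.OddHalf.D7Tw

end

-- merged: Cfsg.Agent.OddHalf.D7Tw.EnvOf
section

/-!
# THEOREM H for `K = ²E₆(q)`: `O₂(C_G(z)) = Q**` (helper756)

* `Base.no_comp`: `C_G(z)` has no component (`Ex.exit_false`).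
* `Base.env`: helper76's `CzTwo.Env` for `H = C_G(z)`.
* `Base.norm`: `C_G(z)` normalises `Q** = D (W ρ) (AA W)` and `W ρ`.
-/

set_option autoImplicit false

namespace Cfsg.Agent.OddHalf.D7Tw

open Subgroup Cfsg
open Cfsg.Agent.OddHalf.Iface
open Cfsg.Agent.OddHalf.D7Out.CzTwo
open Cfsg.Agent.SignalizersComponents.Components
open scoped commutatorElement

universe u

variable {L : Type*} [AddCommGroup L] {G : Type u} [Group G]
variable {t : G} {K : Subgroup G} {B : L → L → ℤ} {Φ : Set L} {X W : L → Subgroup G} {ρ : L} {P Q : Subgroup G}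

namespace Base

/-- the hypotheses of the exit -/
theorem ex [Finite G] (D : Base t K B Φ X W ρ P Q) (C : Ctx G)
    (hSch : Cfsg.Agent.Schreier.Cases.SchFor.{u} @IsKnownSimple') {z : G} (hz : z ∈ X ρ) (hz1 : z ≠ 1)
    (c : ∀ x ∈ X ρ, x ≠ 1 → Cen t x (X ρ) P Q) (trans : ∀ x ∈ X ρ, x ≠ 1 → ∃ g : G, g * z * g⁻¹ = x)
    (tform : ∀ ht : t ∈ centralizer ({z} : Set G),
      (⟨t, ht⟩ : ↥(centralizer ({z} : Set G))) ∈ commutator ↥(centralizer ({z} : Set G))) :
    Ex t z (X ρ) (W ρ) where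
  tt := D.tt
  V2 := D.dbl.sq ρ D.hρ
  ZV := D.dbl.XW ρ D.hρ
  Zt := fun _ hw => D.z_t hw
  Vfix := fun w hw h => (D.dbl.cent ρ D.hρ w hw).1 h.symm
  zZ := hz
  z1 := hz1
  trans := trans
  comp := by
    intro x hx hx1 M hM
    obtain ⟨-, h2, h3, h4, h5, h6, h7⟩ := D.component C hSch hx hx1 (c x hx hx1) hM
    exact ⟨h2, h3, h4, h5, h6, h7⟩
  tform := tform

/-- `O₂(C_G(z))` -/
def F0 (z : G) : Subgroup G := (pCore 2 ↥(centralizer ({z} : Set G))).map (centralizer ({z} : Set G)).subtype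

theorem mem_F0 {z x : G} : x ∈ F0 z ↔ ∃ hx : x ∈ centralizer ({z} : Set G),
    (⟨x, hx⟩ : ↥(centralizer ({z} : Set G))) ∈ pCore 2 ↥(centralizer ({z} : Set G)) := by
  constructor
  · rintro ⟨y, hy, rfl⟩
    exact ⟨y.2, hy⟩
  · rintro ⟨hx, h⟩
    exact ⟨_, h, rfl⟩

/-- **`CzTwo.Env`** -/
theorem env [Finite G] (D : Base t K B Φ X W ρ P Q) {z : G} (hz : z ∈ X ρ) (hz1 : z ≠ 1)
    (c : Cen t z (X ρ) P Q) (hcore : pPrimeCore 2 ↥(centralizer ({z} : Set G)) = ⊥)
    (hno : ∀ M : Subgroup ↥(centralizer ({z} : Set G)), ¬ IsComponent M) :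
    Env (centralizer ({z} : Set G)) (F0 z) P Q (X ρ) t where
  F_le := map_subtype_le _
  F_conj := by
    intro h hh x hx
    obtain ⟨hx1, hx2⟩ := mem_F0.1 hx
    have hn : (pCore 2 ↥(centralizer ({z} : Set G))).Normal := Lib.Cores.pCore_normal 2
    have h1 := hn.conj_mem _ hx2 ⟨h, hh⟩
    exact ⟨_, h1, rfl⟩
  F_two := (Lib.Cores.pCore_isPGroup (G := ↥(centralizer ({z} : Set G))) 2).map _
  F_cent := by
    intro h hh hc
    have hlay : layer ↥(centralizer ({z} : Set G)) = ⊥ := by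
      rw [eq_bot_iff]
      exact layer_le_iff.2 fun M hM => absurd hM (hno M)
    haveI : Fact (Nat.Prime 2) := ⟨Nat.prime_two⟩
    have hfit : fittingSubgroup ↥(centralizer ({z} : Set G)) = pCore 2 ↥(centralizer ({z} : Set G)) :=
      SignalizersComponents.PConstrained.fittingSubgroup_eq_pCore_of_pPrimeCore_eq_bot 2 hcore
    have hgen : generalizedFittingSubgroup ↥(centralizer ({z} : Set G)) =
        pCore 2 ↥(centralizer ({z} : Set G)) := by
      rw [Lib.GenFitting.genFitting_def, hlay, hfit, bot_sup_eq]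
    have hcen := Lib.GenFitting.centralizer_genFitting_le (G := ↥(centralizer ({z} : Set G)))
    rw [hgen] at hcen
    refine mem_F0.2 ⟨hh, hcen ?_⟩
    rw [mem_centralizer_iff]
    intro x hx
    exact Subtype.ext (hc x ⟨x, hx, rfl⟩).symm
  t_mem := mem_cent.2 (D.z_t hz).symm
  tt := D.tt
  P_le := D.P_le hz
  P_t := fun _ hp => D.Pt hp
  P_perf := D.perf
  P_ne := by
    intro h
    have h1 : z ∈ P := D.QP (D.ZX hz)
    rw [h, mem_bot] at h1
    exact hz1 h1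
  Q_le := D.Q_le hz
  Q_t := fun _ hx => D.Pt (D.QP hx)
  Q_conj := fun h hh ht x hx => c.norQ h ht (mem_cent.1 hh) x hx
  Z_le := D.ZX
  Z_P := fun x hx p hp => D.P_z hp hx
  Z_comm := fun a ha b hb => D.W_comm D.hρ (D.dbl.XW ρ D.hρ ha) (D.dbl.XW ρ D.hρ hb)
  h2 := fun x hx hxt hxP => c.cenQ x hxt (mem_cent.1 hx) fun y hy => (hxP y (D.QP hy)).symm
  h3 := by
    intro N hN hNt hN2 hNc
    exact c.core N hNt (fun x hx => mem_cent.1 (hN hx)) hN2 fun h ht hh => hNc h (mem_cent.2 hh) ht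
  h4 := by
    intro N hN hNc
    exact c.irr N hN fun h ht hh => hNc h (mem_cent.2 hh) ht
  y := by
    obtain ⟨s, hs, hsρ⟩ := D.ex0
    obtain ⟨x, hx, hx1⟩ := D.exists_ne hs
    obtain ⟨w, hw, hwx⟩ := D.dbl.surj s hs x hx
    have hxK : x ∈ K := D.XK s hs hx
    have hxt : x * t = t * x := D.Xt hs hx
    have hxi : x⁻¹ * t = t * x⁻¹ := ((Commute.inv_left (show Commute x t from hxt))).eq
    have hxQ : x⁻¹ ∉ Q := by
      intro h
      exact hx1 (inv_eq_one.1 (D.XnQ s hs hsρ x⁻¹ (inv_mem hx) h))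
    refine ⟨w⁻¹, inv_mem (mem_cent.2 (D.W_z hs hsρ.ge hw hz)), x⁻¹, ?_, hxi, hxQ, ?_⟩
    · have h1 : t * w * t = w * x := by rw [← hwx]; group
      have h2 : t * w⁻¹ * t = (w * x)⁻¹ := by
        rw [← h1, mul_inv_rev, mul_inv_rev, D.tinv, mul_assoc]
      calc t * (w⁻¹ * t * w⁻¹⁻¹) = (t * w⁻¹ * t) * w := by group
        _ = x⁻¹ := by rw [h2]; group
    · intro h
      have h1 : t * x⁻¹ ∈ K := D.PK (D.QP h)
      apply D.tK
      have := mul_mem h1 hxK
      rwa [inv_mul_cancel_right] at this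

/-- **no component** -/
theorem no_comp [Finite G] (D : Base t K B Φ X W ρ P Q) (C : Ctx G)
    (hSch : Cfsg.Agent.Schreier.Cases.SchFor.{u} @IsKnownSimple') (hGW : SylowSp4.Hyps.GW.{u})
    (hI : Iface.Intr.{u}) (hIN : IntrNon.{u}) (hMV : MultV.{u}) (hNI : CaseM.NI.{u})
    {z : G} (hz : z ∈ X ρ) (hz1 : z ≠ 1)
    (c : ∀ x ∈ X ρ, x ≠ 1 → Cen t x (X ρ) P Q) (trans : ∀ x ∈ X ρ, x ≠ 1 → ∃ g : G, g * z * g⁻¹ = x)
    (tform : ∀ ht : t ∈ centralizer ({z} : Set G),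
      (⟨t, ht⟩ : ↥(centralizer ({z} : Set G))) ∈ commutator ↥(centralizer ({z} : Set G)))
    (M : Subgroup ↥(centralizer ({z} : Set G))) : ¬ IsComponent M :=
  (D.ex C hSch hz hz1 c trans tform).exit_false C hSch hGW hI hIN hMV hNI M

/-- **`C_G(z)` normalises `Q**` and `W ρ`** -/
theorem norm [Finite G] (D : Base t K B Φ X W ρ P Q) {z : G} (hz : z ∈ X ρ) (hz1 : z ≠ 1)
    (c : Cen t z (X ρ) P Q) (hcore : pPrimeCore 2 ↥(centralizer ({z} : Set G)) = ⊥)
    (hno : ∀ M : Subgroup ↥(centralizer ({z} : Set G)), ¬ IsComponent M) :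
    (∀ h ∈ centralizer ({z} : Set G), ∀ x ∈ Fam.D (W ρ) (fun i : Ind (G := G) B Φ ρ P => AA W i),
      h * x * h⁻¹ ∈ Fam.D (W ρ) (fun i : Ind (G := G) B Φ ρ P => AA W i)) ∧
      ∀ h ∈ centralizer ({z} : Set G), ∀ w ∈ W ρ, h * w * h⁻¹ ∈ W ρ := by
  have E := D.env hz hz1 c hcore hno
  have S := D.fam hz
  refine ⟨?_, E.W_conj S D.ZQ⟩
  rw [← E.eq_D S]
  exact E.F_conj

end Base

end Cfsg.Agent.OddHalf.D7Tw

end

-- merged: Cfsg.Agent.OddHalf.D7Tw.Ring
section

/-!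
# THEOREM H for `K = ²E₆(q)`: the ring `W ρ` (helper756)

* `Tor`: the facts on `K` used in step (7).
* `Base.inp`: helper76's `RingOut.Inp` for `D = Q**`, `V = W ρ`, `A = W s`, `B = W (ρ - s)`.
* `Base.false_of`: **THEOREM H + T-formula: contradiction**.
-/

set_option autoImplicit false

namespace Cfsg.Agent.OddHalf.D7Tw

open Subgroup Cfsg
open Cfsg.Agent.OddHalf.Iface
open Cfsg.Agent.OddHalf.D7Out.CzTwo
open Cfsg.Agent.OddHalf.D7Out.RingOut
open Cfsg.Agent.SignalizersComponents.Components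
open scoped commutatorElement

universe u

variable {L : Type*} [AddCommGroup L] {G : Type u} [Group G]

/-- the facts on `K` used in step (7) -/
structure Tor (K : Subgroup G) (B : L → L → ℤ) (Φ : Set L) (X : L → Subgroup G) (ρ : L) (P : Subgroup G)
    (s : L) (TA : Subgroup G) : Prop where
  hs : s ∈ Φ
  hsρ : B s ρ = 1
  /-- all the (long) root groups are conjugate -/
  trρ : ∀ r ∈ Φ, ∃ k ∈ K, Cj k (X ρ) (X r)
  /-- `C_K(X ρ) ≤ T P`, `T` of odd order -/
  cen : ∀ g ∈ K, (∀ x ∈ X ρ, g * x = x * g) → ∃ h ∈ K, ∃ p ∈ P, g = h * p ∧ Odd (orderOf h)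
  /-- `TA ≤ T` centralises `X (ρ - s)` and is transitive on `X ρ` -/
  TAK : TA ≤ K
  TAs : ∀ h ∈ TA, Cj h (X s) (X s)
  TAρ : ∀ h ∈ TA, Cj h (X ρ) (X ρ)
  TAa : ∀ h ∈ TA, ∀ y ∈ X (ρ - s), h * y = y * h
  trans : ∀ z ∈ X ρ, z ≠ 1 → ∀ v ∈ X ρ, v ≠ 1 → ∃ h ∈ TA, h * z * h⁻¹ = v
  /-- `-1` in the Weyl group of `P / Q` -/
  sw : ∃ n ∈ P, Cj n (X s) (X (ρ - s)) ∧ Cj n (X (ρ - s)) (X s)
  /-- `P` is transitive on the long root groups in `Q` -/
  tr : ∀ r ∈ Φ, B r ρ = 1 → ∃ p ∈ P, Cj p (X s) (X r)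
  /-- `C_P(X s)` is transitive on the long root groups in `Q` not commuting with `X s` -/
  opp : ∀ p ∈ P, (∀ x ∈ X s, ∀ y ∈ X s, x * (p * y * p⁻¹) = p * y * p⁻¹ * x) ∨
    ∃ u ∈ P, (∀ x ∈ X s, u * x = x * u) ∧ Cj (u⁻¹ * p) (X s) (X (ρ - s))

variable {t : G} {K : Subgroup G} {B : L → L → ℤ} {Φ : Set L} {X W : L → Subgroup G} {ρ : L} {P Q : Subgroup G}
variable {s : L} {TA : Subgroup G}

namespace Base

/-- an odd element centralising `X r` centralises `W r` -/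
theorem odd_cent (D : Base t K B Φ X W ρ P Q) {r : L} (hr : r ∈ Φ) {h : G} (hK : h ∈ K)
    (hx : ∀ x ∈ X r, h * x = x * h) (ho : Odd (orderOf h)) {w : G} (hw : w ∈ W r) : h * w = w * h := by
  have hCj : Cj h (X r) (X r) := by
    intro x
    constructor
    · intro hxr
      rw [hx x hxr, mul_inv_cancel_right]
      exact hxr
    · intro hxr
      have h1 := hx _ hxr
      have h2 : h * x * h⁻¹ = x := by
        have h3 : h * (h * x * h⁻¹) * h⁻¹ = h * x * h⁻¹ := by rw [h1]; group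
        have h4 : h * x * h⁻¹ = h⁻¹ * (h * (h * x * h⁻¹) * h⁻¹) * h := by group
        rw [h4, h3]; group
      rwa [h2] at hxr
  have hW := D.Wcan r hr r hr h hK hCj
  have ht := D.Kt h hK
  have hti : h⁻¹ * t = t * h⁻¹ := (Commute.inv_left (show Commute h t from ht)).eq
  -- `h² w = w h²`
  have key : ∀ v ∈ W r, ∃ c ∈ X r, h * v * h⁻¹ = v * c := by
    intro v hv
    have h1 : v⁻¹ * (h * v * h⁻¹) ∈ W r := mul_mem (inv_mem hv) (hW.le hv)
    refine ⟨v⁻¹ * (h * v * h⁻¹), ?_, by group⟩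
    refine (D.dbl.cent r hr _ h1).1 ?_
    -- `[v, t] = x ∈ X r` is centralised by `h`
    set x := v⁻¹ * (t * v * t) with hxdef
    have hxX : x ∈ X r := D.dbl.brk r hr v hv
    have e1 : t * v * t = v * x := by rw [hxdef]; group
    have e2 : t * v⁻¹ * t = v⁻¹ * x⁻¹ := by
      have : t * v⁻¹ * t = (t * v * t)⁻¹ := by rw [mul_inv_rev, mul_inv_rev, D.tinv, mul_assoc]
      rw [this, e1, mul_inv_rev]
      have hc' : Commute v x := D.W_comm hr hv (D.dbl.XW r hr hxX)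
      exact (hc'.inv_inv).eq.symm
    have e3 : t * (h * v * h⁻¹) * t = (h * v * h⁻¹) * x := by
      calc t * (h * v * h⁻¹) * t = (t * h) * v * (h⁻¹ * t) := by group
        _ = (h * t) * v * (t * h⁻¹) := by rw [ht, hti]
        _ = h * (t * v * t) * h⁻¹ := by group
        _ = h * v * (x * h⁻¹) := by rw [e1]; group
        _ = h * v * (h⁻¹ * x) := by
          have : Commute h x := hx x hxX
          rw [(this.symm.inv_right).eq]
        _ = (h * v * h⁻¹) * x := by group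
    have e4 : t * (v⁻¹ * (h * v * h⁻¹)) * t = v⁻¹ * (h * v * h⁻¹) := by
      calc t * (v⁻¹ * (h * v * h⁻¹)) * t = (t * v⁻¹) * 1 * (h * v * h⁻¹) * t := by group
        _ = (t * v⁻¹) * (t * t) * (h * v * h⁻¹) * t := by rw [D.tt]
        _ = (t * v⁻¹ * t) * (t * (h * v * h⁻¹) * t) := by group
        _ = v⁻¹ * (x⁻¹ * (h * v * h⁻¹)) * x := by rw [e2, e3]; group
        _ = v⁻¹ * ((h * v * h⁻¹) * x⁻¹) * x := by
          have hc : Commute x (h * v * h⁻¹) := D.W_comm hr (D.dbl.XW r hr hxX) (hW.le hv)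
          rw [(hc.inv_left).eq]
        _ = _ := by group
    calc t * (v⁻¹ * (h * v * h⁻¹)) = (t * (v⁻¹ * (h * v * h⁻¹)) * t) * t := by
          rw [mul_assoc (t * (v⁻¹ * (h * v * h⁻¹))) t t, D.tt, mul_one]
      _ = v⁻¹ * (h * v * h⁻¹) * t := by rw [e4]
  have h2 : h * h * w = w * (h * h) := by
    obtain ⟨c, hc, e⟩ := key w hw
    have e1 : h * h * w * (h * h)⁻¹ = w := by
      calc h * h * w * (h * h)⁻¹ = h * (h * w * h⁻¹) * h⁻¹ := by group
        _ = h * (w * c) * h⁻¹ := by rw [e]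
        _ = (h * w * h⁻¹) * (h * c * h⁻¹) := by group
        _ = (w * c) * c := by rw [e, hx c hc]; group
        _ = w * (c * c) := by group
        _ = w := by rw [D.dbl.sq r hr c (D.dbl.XW r hr hc), mul_one]
    calc h * h * w = (h * h * w * (h * h)⁻¹) * (h * h) := by group
      _ = w * (h * h) := by rw [e1]
  obtain ⟨m, hm⟩ := ho
  have h3 : Commute (h * h) w := h2
  have h4 : h = ((h * h) ^ m)⁻¹ := by
    have h5 : h ^ orderOf h = 1 := pow_orderOf_eq_one h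
    rw [hm, pow_succ, pow_mul, pow_two] at h5
    exact eq_inv_of_mul_eq_one_right h5
  rw [h4]
  exact ((h3.pow_left m).inv_left).eq

/-- `C_K(X r)` centralises `W r` -/
theorem W_cent (D : Base t K B Φ X W ρ P Q) (T : Tor K B Φ X ρ P s TA) {r : L} (hr : r ∈ Φ) {g : G}
    (hg : g ∈ K) (hx : ∀ x ∈ X r, g * x = x * g) {w : G} (hw : w ∈ W r) : g * w = w * g := by
  obtain ⟨k, hk, hc⟩ := T.trρ r hr
  have hcW := D.Wcan ρ D.hρ r hr k hk hc
  have hg' : k⁻¹ * g * k ∈ K := mul_mem (mul_mem (inv_mem hk) hg) hk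
  have hx' : ∀ x ∈ X ρ, (k⁻¹ * g * k) * x = x * (k⁻¹ * g * k) := by
    intro x hxρ
    have h1 := hx _ (hc.le hxρ)
    calc (k⁻¹ * g * k) * x = k⁻¹ * (g * (k * x * k⁻¹)) * k := by group
      _ = k⁻¹ * (k * x * k⁻¹ * g) * k := by rw [h1]
      _ = x * (k⁻¹ * g * k) := by group
  obtain ⟨h, hh, p, hp, e, ho⟩ := T.cen _ hg' hx'
  have hw' : k⁻¹ * w * k ∈ W ρ := by
    have := hcW.inv.le hw
    rwa [inv_inv] at this
  have h1 : ∀ x ∈ X ρ, h * x = x * h := by
    intro x hxρ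
    have h2 := hx' x hxρ
    have h3 := D.P_z hp hxρ
    have h4 : h = (k⁻¹ * g * k) * p⁻¹ := by rw [e]; group
    rw [h4]
    exact (Commute.mul_left (show Commute (k⁻¹ * g * k) x from h2)
      (Commute.inv_left (show Commute p x from h3))).eq
  have h2 := D.odd_cent D.hρ hh h1 ho hw'
  have h3 : p * (k⁻¹ * w * k) = (k⁻¹ * w * k) * p := (D.WP _ hw' p hp).symm
  have h4 : Commute (k⁻¹ * g * k) (k⁻¹ * w * k) := by
    rw [e]
    exact Commute.mul_left h2 h3
  calc g * w = k * ((k⁻¹ * g * k) * (k⁻¹ * w * k)) * k⁻¹ := by group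
    _ = k * ((k⁻¹ * w * k) * (k⁻¹ * g * k)) * k⁻¹ := by rw [h4.eq]
    _ = w * g := by group

/-- the pairing `X r × X r'`, `(r, r') = -1`, is nondegenerate -/
theorem Xnd [Finite G] (D : Base t K B Φ X W ρ P Q) {r r' : L} (hr : r ∈ Φ) (hr' : r' ∈ Φ) (h : B r r' = -1)
    {x y : G} (hx : x ∈ X r) (hy : y ∈ X r') (hy1 : y ≠ 1) (hxy : x * y = y * x) : x = 1 := by
  classical
  have hm := D.roots.add r hr r' hr' h
  let f : ↥(X r) → ↥(X (r + r')) := fun u =>
    if hu : (u : G) * y * (u : G)⁻¹ * y⁻¹ ∈ X (r + r') then ⟨(u : G) * y * (u : G)⁻¹ * y⁻¹, hu⟩ else 1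
  have hsurj : Function.Surjective f := by
    rintro ⟨c, hc⟩
    obtain ⟨u, hu, huc⟩ := D.Xsurj r hr r' hr' h y hy hy1 c hc
    refine ⟨⟨u, hu⟩, ?_⟩
    have h1 : u * y * u⁻¹ * y⁻¹ ∈ X (r + r') := by rw [huc]; exact hc
    show (if hu : u * y * u⁻¹ * y⁻¹ ∈ X (r + r') then (⟨u * y * u⁻¹ * y⁻¹, hu⟩ : ↥(X (r + r'))) else 1) = _
    rw [dif_pos h1]
    exact Subtype.ext huc
  have hcard : Nat.card ↥(X r) = Nat.card ↥(X (r + r')) := by rw [D.card r hr, D.card _ hm]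
  have hinj := ((Nat.bijective_iff_surjective_and_card f).2 ⟨hsurj, hcard⟩).1
  have e1 : x * y * x⁻¹ * y⁻¹ = 1 := by rw [hxy]; group
  have h1 : f ⟨x, hx⟩ = f 1 := by
    apply Subtype.ext
    show ((if hu : x * y * x⁻¹ * y⁻¹ ∈ X (r + r') then (⟨x * y * x⁻¹ * y⁻¹, hu⟩ : ↥(X (r + r'))) else 1 :
      ↥(X (r + r'))) : G) = ((if hu : (1 : G) * y * (1 : G)⁻¹ * y⁻¹ ∈ X (r + r') then
        (⟨(1 : G) * y * (1 : G)⁻¹ * y⁻¹, hu⟩ : ↥(X (r + r'))) else 1 : ↥(X (r + r'))) : G)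
    have e2 : (1 : G) * y * (1 : G)⁻¹ * y⁻¹ = 1 := by group
    rw [dif_pos (by rw [e1]; exact one_mem _), dif_pos (by rw [e2]; exact one_mem _)]
    exact e1.trans e2.symm
  exact congrArg Subtype.val (hinj h1)

/-- the pairing `W r × X r'`, `(r, r') = -1`, is nondegenerate -/
theorem Wnd [Finite G] (D : Base t K B Φ X W ρ P Q) {r r' : L} (hr : r ∈ Φ) (hr' : r' ∈ Φ) (h : B r r' = -1)
    {x y : G} (hx : x ∈ W r) (hy : y ∈ X r') (hy1 : y ≠ 1) (hxy : x * y = y * x) : x = 1 := by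
  have hyt := D.Xt hr' hy
  have h1 : (t * x * t) * y = y * (t * x * t) := by
    calc (t * x * t) * y = t * x * (t * y) := by group
      _ = t * (x * y) * t := by rw [← hyt]; group
      _ = (t * y) * x * t := by rw [hxy]; group
      _ = y * (t * x * t) := by rw [← hyt]; group
  have h2 : (x⁻¹ * (t * x * t)) * y = y * (x⁻¹ * (t * x * t)) :=
    (Commute.mul_left (Commute.inv_left (show Commute x y from hxy)) (show Commute (t * x * t) y from h1)).eq
  have h3 := D.Xnd hr hr' h (D.dbl.brk r hr x hx) hy hy1 h2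
  have h4 : x ∈ X r := by
    refine (D.dbl.cent r hr x hx).1 ?_
    have h5 : t * x * t = x := by
      rw [inv_mul_eq_one] at h3
      exact h3.symm
    calc t * x = (t * x * t) * t := by rw [mul_assoc (t * x) t t, D.tt, mul_one]
      _ = x * t := by rw [h5]
  exact D.Xnd hr hr' h h4 hy hy1 hxy

/-- the doubled group `Q**` -/
abbrev DD (B : L → L → ℤ) (Φ : Set L) (W : L → Subgroup G) (ρ : L) (P : Subgroup G) : Subgroup G :=
  Fam.D (W ρ) (fun i : Ind (G := G) B Φ ρ P => AA W i)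

theorem le_DD {r : L} (hr : r ∈ Φ) (h : B r ρ = 1) {p : G} (hp : p ∈ P) {w : G} (hw : w ∈ W r) :
    p * w * p⁻¹ ∈ DD B Φ W ρ P :=
  Fam.WA_le (W := W ρ) (WA := fun i : Ind (G := G) B Φ ρ P => AA W i) ⟨(p, r), hp, hr, h⟩ ⟨w, hw, rfl⟩

theorem W_le_DD {r : L} (hr : r ∈ Φ) (h : B r ρ = 1) : W r ≤ DD B Φ W ρ P := by
  intro w hw
  have := le_DD (P := P) (W := W) hr h (one_mem P) hw
  rwa [one_mul, inv_one, mul_one] at this

theorem V_le_DD : W ρ ≤ DD B Φ W ρ P := Fam.W_le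

/-- `DD` is generated by `W ρ` and the conjugates of `W s` under `P` -/
theorem DD_le (D : Base t K B Φ X W ρ P Q) (T : Tor K B Φ X ρ P s TA) {M : Subgroup G} (h1 : W ρ ≤ M)
    (h2 : ∀ p ∈ P, ∀ w ∈ W s, p * w * p⁻¹ ∈ M) : DD B Φ W ρ P ≤ M := by
  refine sup_le h1 (iSup_le ?_)
  rintro ⟨⟨p, r⟩, hp, hr, hrρ⟩ _ ⟨w, hw, rfl⟩
  obtain ⟨q, hq, hc⟩ := T.tr r hr hrρ
  have hcW := D.Wcan s T.hs r hr q (D.PK hq) hc
  have h3 := hcW.inv.le hw
  have h4 := h2 (p * q) (mul_mem hp hq) _ h3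
  have e : p * q * (q⁻¹ * w * q⁻¹⁻¹) * (p * q)⁻¹ = p * w * p⁻¹ := by group
  rw [e] at h4
  exact h4

/-- the `dec` property: the subgroup of the `y` such that some `y' ∈ W (ρ - s)` has the same commutators with `W s` -/
theorem dec [Finite G] (D : Base t K B Φ X W ρ P Q) (T : Tor K B Φ X ρ P s TA) {z : G} (hz : z ∈ X ρ) :
    ∀ y ∈ DD B Φ W ρ P, ∃ y' ∈ W (ρ - s), ∀ x ∈ W s, ⁅x, y⁆ = ⁅x, y'⁆ := by
  have S := D.fam (z := z) hz
  obtain ⟨ha, hB, haρ, hsum⟩ := D.sub_mem' T.hs T.hsρ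
  have hsD : W s ≤ DD B Φ W ρ P := W_le_DD T.hs T.hsρ
  have haD : W (ρ - s) ≤ DD B Φ W ρ P := W_le_DD ha haρ
  have hcen : ∀ v ∈ W ρ, ∀ x ∈ DD B Φ W ρ P, v * x = x * v := S.W_central
  have hcom : ∀ x ∈ DD B Φ W ρ P, ∀ y ∈ DD B Φ W ρ P, ⁅x, y⁆ ∈ W ρ := S.comm_mem
  have hmul : ∀ x ∈ DD B Φ W ρ P, ∀ y ∈ DD B Φ W ρ P, ∀ y' ∈ DD B Φ W ρ P, ⁅x, y * y'⁆ = ⁅x, y⁆ * ⁅x, y'⁆ := by
    intro x hx y hy y' hy'
    have h1 := hcen _ (hcom x hx y' hy') y hy
    calc ⁅x, y * y'⁆ = ⁅x, y⁆ * (y * ⁅x, y'⁆ * y⁻¹) := by simp only [commutatorElement_def]; group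
      _ = ⁅x, y⁆ * (⁅x, y'⁆ * y * y⁻¹) := by rw [h1]
      _ = ⁅x, y⁆ * ⁅x, y'⁆ := by rw [mul_assoc ⁅x, y'⁆, mul_inv_cancel, mul_one]
  let M : Subgroup G :=
    { carrier := {y | y ∈ DD B Φ W ρ P ∧ ∃ y' ∈ W (ρ - s), ∀ x ∈ W s, ⁅x, y⁆ = ⁅x, y'⁆}
      one_mem' := ⟨one_mem _, 1, one_mem _, fun _ _ => rfl⟩
      mul_mem' := by
        rintro a b ⟨ha1, a', ha', h1⟩ ⟨hb1, b', hb', h2⟩
        refine ⟨mul_mem ha1 hb1, a' * b', mul_mem ha' hb', fun x hx => ?_⟩
        rw [hmul x (hsD hx) a ha1 b hb1, hmul x (hsD hx) a' (haD ha') b' (haD hb'), h1 x hx, h2 x hx]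
      inv_mem' := by
        rintro a ⟨ha1, a', ha', h1⟩
        refine ⟨inv_mem ha1, a'⁻¹, inv_mem ha', fun x hx => ?_⟩
        have e1 := hmul x (hsD hx) a ha1 a⁻¹ (inv_mem ha1)
        have e2 := hmul x (hsD hx) a' (haD ha') a'⁻¹ (inv_mem (haD ha'))
        rw [mul_inv_cancel, commutatorElement_one_right] at e1 e2
        rw [h1 x hx] at e1
        exact mul_left_cancel (e1.symm.trans e2) }
  have hM : DD B Φ W ρ P ≤ M := by
    refine D.DD_le T ?_ ?_
    · intro v hv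
      refine ⟨V_le_DD hv, 1, one_mem _, fun x hx => ?_⟩
      rw [commutatorElement_one_right, commutatorElement_eq_one_iff_mul_comm]
      exact (hcen v hv x (hsD hx)).symm
    · intro p hp w hw
      have hpw : p * w * p⁻¹ ∈ DD B Φ W ρ P := le_DD T.hs T.hsρ hp hw
      refine ⟨hpw, ?_⟩
      rcases T.opp p hp with h1 | ⟨u, hu, hux, huc⟩
      · refine ⟨1, one_mem _, fun x hx => ?_⟩
        rw [commutatorElement_one_right, commutatorElement_eq_one_iff_mul_comm]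
        obtain ⟨k, hk, r₁, hr₁, r₂, hr₂, hr, c₁, c₂⟩ := D.pair 1 (one_mem _) p hp s T.hs s T.hs T.hsρ T.hsρ
        rw [mul_one] at c₁
        have d₁ := D.Wcan s T.hs r₁ hr₁ k hk c₁
        have d₂ := D.Wcan s T.hs r₂ hr₂ (k * p) (mul_mem hk (D.PK hp)) c₂
        have h0 : 0 ≤ B r₁ r₂ := by
          by_contra hlt
          have hB1 : B r₁ r₂ = -1 := by omega
          obtain ⟨y, hy, hy1⟩ := D.exists_ne hr₂
          obtain ⟨x₁, hx₁, hx₁1⟩ := D.exists_ne hr₁
          apply hx₁1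
          refine D.Xnd hr₁ hr₂ hB1 hx₁ hy hy1 ?_
          have f₁ := c₁.inv.le hx₁
          have f₂ := c₂.inv.le hy
          have g := h1 _ f₁ _ f₂
          have e₁ : k⁻¹ * x₁ * k⁻¹⁻¹ * (p * ((k * p)⁻¹ * y * (k * p)⁻¹⁻¹) * p⁻¹) = k⁻¹ * (x₁ * y) * k := by group
          have e₂ : p * ((k * p)⁻¹ * y * (k * p)⁻¹⁻¹) * p⁻¹ * (k⁻¹ * x₁ * k⁻¹⁻¹) = k⁻¹ * (y * x₁) * k := by group
          rw [e₁, e₂] at g
          exact mul_left_cancel (mul_right_cancel g)
        have g₁ := d₁.le hx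
        have g₂ := d₂.le hw
        have g := D.dbl.pos r₁ hr₁ r₂ hr₂ h0 _ g₁ _ g₂
        have e₁ : k * x * k⁻¹ * (k * p * w * (k * p)⁻¹) = k * (x * (p * w * p⁻¹)) * k⁻¹ := by group
        have e₂ : k * p * w * (k * p)⁻¹ * (k * x * k⁻¹) = k * (p * w * p⁻¹ * x) * k⁻¹ := by group
        rw [e₁, e₂] at g
        exact mul_left_cancel (mul_right_cancel g)
      · have hcW := D.Wcan s T.hs _ ha (u⁻¹ * p) (mul_mem (inv_mem (D.PK hu)) (D.PK hp)) huc
        have hy' := hcW.le hw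
        refine ⟨_, hy', fun x hx => ?_⟩
        have h2 := D.W_cent T T.hs (D.PK hu) hux hx
        have h3 : u⁻¹ * x * u = x := by
          calc u⁻¹ * x * u = u⁻¹ * (x * u) := by group
            _ = u⁻¹ * (u * x) := by rw [h2]
            _ = x := by group
        have hv := hcom x (hsD hx) _ hpw
        have h4 : u⁻¹ * ⁅x, p * w * p⁻¹⁆ * u = ⁅x, p * w * p⁻¹⁆ := by
          have := D.WP _ hv u hu
          calc u⁻¹ * ⁅x, p * w * p⁻¹⁆ * u = u⁻¹ * (⁅x, p * w * p⁻¹⁆ * u) := by group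
            _ = u⁻¹ * (u * ⁅x, p * w * p⁻¹⁆) := by rw [this]
            _ = _ := by group
        calc ⁅x, p * w * p⁻¹⁆ = u⁻¹ * ⁅x, p * w * p⁻¹⁆ * u := h4.symm
          _ = ⁅u⁻¹ * x * u, u⁻¹ * p * w * (u⁻¹ * p)⁻¹⁆ := by simp only [commutatorElement_def]; group
          _ = ⁅x, u⁻¹ * p * w * (u⁻¹ * p)⁻¹⁆ := by rw [h3]
  intro y hy
  exact (hM hy).2

/-- elements swapping `X s` and `X (ρ - s)` swap `W s` and `W (ρ - s)` -/
theorem swW (D : Base t K B Φ X W ρ P Q) (T : Tor K B Φ X ρ P s TA) :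
    ∃ n ∈ P, Cj n (W s) (W (ρ - s)) ∧ Cj n (W (ρ - s)) (W s) := by
  obtain ⟨ha, -, -, -⟩ := D.sub_mem' T.hs T.hsρ
  obtain ⟨n, hn, h1, h2⟩ := T.sw
  exact ⟨n, hn, D.Wcan _ T.hs _ ha n (D.PK hn) h1, D.Wcan _ ha _ T.hs n (D.PK hn) h2⟩

/-- **the input of the ring** -/
theorem inp [Finite G] (D : Base t K B Φ X W ρ P Q) (T : Tor K B Φ X ρ P s TA) {z : G} (hz : z ∈ X ρ)
    (hz1 : z ≠ 1) (hPD : ∀ p ∈ P, ∀ x ∈ DD B Φ W ρ P, p * x * p⁻¹ ∈ DD B Φ W ρ P) :
    ∃ x1 y1 : G, Inp (DD B Φ W ρ P) (W ρ) (W s) (W (ρ - s)) P TA t z x1 y1 := by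
  have S := D.fam (z := z) hz
  obtain ⟨ha, hB, haρ, hsum⟩ := D.sub_mem' T.hs T.hsρ
  have hB' : B (ρ - s) s = -1 := by rw [D.roots.symm]; exact hB
  have hsum' : (ρ - s) + s = ρ := by rw [add_comm]; exact hsum
  have hsD : W s ≤ DD B Φ W ρ P := W_le_DD T.hs T.hsρ
  have haD : W (ρ - s) ≤ DD B Φ W ρ P := W_le_DD ha haρ
  have hcen : ∀ v ∈ W ρ, ∀ x ∈ DD B Φ W ρ P, v * x = x * v := S.W_central
  have hcom : ∀ x ∈ DD B Φ W ρ P, ∀ y ∈ DD B Φ W ρ P, ⁅x, y⁆ ∈ W ρ := S.comm_mem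
  obtain ⟨y1, hy1, hy11⟩ := D.exists_ne ha
  obtain ⟨x1, hx1, hxy⟩ := D.Xsurj s T.hs _ ha hB y1 hy1 hy11 z (by rw [hsum]; exact hz)
  have hx11 : x1 ≠ 1 := by
    rintro rfl
    apply hz1
    rw [← hxy]; group
  have hinv : ∀ v ∈ W ρ, v⁻¹ = v := fun v hv => inv_eq_of_mul_eq_one_left (D.dbl.sq ρ D.hρ v hv)
  have hmulr : ∀ x ∈ DD B Φ W ρ P, ∀ x' ∈ DD B Φ W ρ P, ∀ y ∈ DD B Φ W ρ P, ⁅x * x', y⁆ = ⁅x, y⁆ * ⁅x', y⁆ := by
    intro x hx x' hx' y hy
    have h1 := hcen _ (hcom x' hx' y hy) x hx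
    have h2 := hcen _ (hcom x' hx' y hy) _ (V_le_DD (P := P) (B := B) (Φ := Φ) (hcom x hx y hy))
    calc ⁅x * x', y⁆ = (x * ⁅x', y⁆ * x⁻¹) * ⁅x, y⁆ := by simp only [commutatorElement_def]; group
      _ = (⁅x', y⁆ * x * x⁻¹) * ⁅x, y⁆ := by rw [h1]
      _ = ⁅x', y⁆ * ⁅x, y⁆ := by rw [mul_assoc ⁅x', y⁆, mul_inv_cancel, mul_one]
      _ = ⁅x, y⁆ * ⁅x', y⁆ := h2
  -- `W (r) → W ρ`, `x ↦ [x, y]`
  have onto : ∀ r ∈ Φ, ∀ r' ∈ Φ, B r r' = -1 → r + r' = ρ → B r ρ = 1 → B r' ρ = 1 → ∀ y ∈ X r', y ≠ 1 →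
      ∀ v ∈ W ρ, ∃ x ∈ W r, ⁅x, y⁆ = v := by
    intro r hr r' hr' hrr hrρ h1 h2 y hy hy' v hv
    have hv' : v ∈ W (r + r') := by rw [hrρ]; exact hv
    obtain ⟨w, hw, x0, hx0, e⟩ := D.lift hr hr' hrr hy hy' hv'
    obtain ⟨u, hu, e'⟩ := D.Xsurj r hr r' hr' hrr y hy hy' x0 hx0
    have huW := D.dbl.XW r hr hu
    have hyD : y ∈ DD B Φ W ρ P := W_le_DD hr' h2 (D.dbl.XW r' hr' hy)
    refine ⟨u * w, mul_mem huW hw, ?_⟩
    rw [hmulr u (W_le_DD hr h1 huW) w (W_le_DD hr h1 hw) y hyD, e, ← e', commutatorElement_def,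
      commutatorElement_def]
  have hdec := D.dec T hz
  obtain ⟨n, hn, hn1, hn2⟩ := D.swW T
  refine ⟨x1, y1, ?_⟩
  exact
    { tt := D.tt
      V_le := V_le_DD
      V_sq := D.dbl.sq ρ D.hρ
      V_cent := hcen
      comm := hcom
      V_t := D.dbl.conj_t ρ D.hρ
      z_mem := D.dbl.XW ρ D.hρ hz
      z_ne := hz1
      A_le := hsD
      B_le := haD
      A_t := D.dbl.conj_t s T.hs
      B_t := D.dbl.conj_t _ ha
      x1A := D.dbl.XW s T.hs hx1
      y1B := D.dbl.XW _ ha hy1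
      x1t := D.Xt T.hs hx1
      y1t := D.Xt ha hy1
      xy := by rw [commutatorElement_def]; exact hxy
      onA := onto s T.hs _ ha hB hsum T.hsρ haρ y1 hy1 hy11
      onB := by
        intro v hv
        obtain ⟨x, hx, e⟩ := onto _ ha s T.hs hB' hsum' haρ T.hsρ x1 hx1 hx11 v hv
        refine ⟨x, hx, ?_⟩
        rw [← commutatorElement_inv, e]
        exact hinv v hv
      injA := by
        intro x hx e y _
        rw [commutatorElement_eq_one_iff_mul_comm] at e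
        have := D.Wnd T.hs ha hB hx hy1 hy11 e
        rw [this, commutatorElement_one_left]
      injB := by
        intro y hy e x _
        rw [commutatorElement_eq_one_iff_mul_comm] at e
        have := D.Wnd ha T.hs hB' hy hx1 hx11 e.symm
        rw [this, commutatorElement_one_right]
      TA_t := fun h hh => D.Kt h (T.TAK hh)
      TA_A := fun h hh x hx => (D.Wcan s T.hs s T.hs h (T.TAK hh) (T.TAs h hh)).le hx
      TA_B := fun h hh y hy => D.W_cent T ha (T.TAK hh) (T.TAa h hh) hy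
      TA_V := fun h hh v hv => (D.Wcan ρ D.hρ ρ D.hρ h (T.TAK hh) (T.TAρ h hh)).le hv
      TB := by
        intro h hh
        refine ⟨n * h * n⁻¹, ?_, ?_, ?_⟩
        · intro x hx
          have h1 := hn2.inv.le hx
          rw [inv_inv] at h1
          have h2 := D.W_cent T ha (T.TAK hh) (T.TAa h hh) h1
          calc n * h * n⁻¹ * x = n * (h * (n⁻¹ * x * n)) * n⁻¹ := by group
            _ = n * ((n⁻¹ * x * n) * h) * n⁻¹ := by rw [h2]
            _ = x * (n * h * n⁻¹) := by group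
        · intro y hy
          have h1 := hn1.inv.le hy
          rw [inv_inv] at h1
          have h2 := (D.Wcan s T.hs s T.hs h (T.TAK hh) (T.TAs h hh)).le h1
          have h3 := hn1.le h2
          have e : n * (h * (n⁻¹ * y * n) * h⁻¹) * n⁻¹ = n * h * n⁻¹ * y * (n * h * n⁻¹)⁻¹ := by group
          rwa [e] at h3
        · intro v hv
          have h1 : v * n = n * v := D.WP v hv n hn
          have h2 := (D.Wcan ρ D.hρ ρ D.hρ h (T.TAK hh) (T.TAρ h hh)).le hv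
          have h3 : (h * v * h⁻¹) * n = n * (h * v * h⁻¹) := D.WP _ h2 n hn
          calc n * h * n⁻¹ * v * (n * h * n⁻¹)⁻¹ = n * h * n⁻¹ * (v * n) * h⁻¹ * n⁻¹ := by group
            _ = n * h * n⁻¹ * (n * v) * h⁻¹ * n⁻¹ := by rw [h1]
            _ = (n * (h * v * h⁻¹)) * n⁻¹ := by group
            _ = ((h * v * h⁻¹) * n) * n⁻¹ := by rw [h3]
            _ = h * v * h⁻¹ := by group
      trans := by
        intro v hv hvt hv1
        exact T.trans z hz hz1 v ((D.dbl.cent ρ D.hρ v hv).1 hvt.symm) hv1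
      theta := by
        obtain ⟨w, hw, e⟩ := D.dbl.surj ρ D.hρ z hz
        exact ⟨w, hw, by rw [← e]; group⟩
      P_V := fun p hp v hv => (D.WP v hv p hp).symm
      P_D := hPD
      gen := by
        intro M _ hA _ hV hP
        exact D.DD_le T hV fun p hp w hw => hP p hp w (hA hw)
      dec := hdec
      dec' := by
        intro x hx
        obtain ⟨y', hy', e⟩ := hdec _ (hPD n hn x hx)
        have h1 := hn1.inv.le hy'
        rw [inv_inv] at h1
        refine ⟨n⁻¹ * y' * n, h1, fun y hy => ?_⟩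
        have h2 := e _ (hn2.le hy)
        have h3 : ⁅y, x⁆ = ⁅y, n⁻¹ * y' * n⁆ := by
          calc ⁅y, x⁆ = n⁻¹ * ⁅n * y * n⁻¹, n * x * n⁻¹⁆ * n := by simp only [commutatorElement_def]; group
            _ = n⁻¹ * ⁅n * y * n⁻¹, y'⁆ * n := by rw [h2]
            _ = _ := by simp only [commutatorElement_def]; group
        rw [← commutatorElement_inv x y] at h3
        rw [← commutatorElement_inv (n⁻¹ * y' * n) y] at h3
        exact inv_injective h3 }

/-- **THEOREM H and the `T`-formula: contradiction** -/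
theorem false_of [Finite G] (D : Base t K B Φ X W ρ P Q) (C : Ctx G)
    (hSch : Cfsg.Agent.Schreier.Cases.SchFor.{u} @IsKnownSimple') (hGW : SylowSp4.Hyps.GW.{u})
    (hI : Iface.Intr.{u}) (hIN : IntrNon.{u}) (hMV : MultV.{u}) (hNI : CaseM.NI.{u})
    (T : Tor K B Φ X ρ P s TA) (c : ∀ x ∈ X ρ, x ≠ 1 → Cen t x (X ρ) P Q) {z : G} (hz : z ∈ X ρ) (hz1 : z ≠ 1)
    (tform : ∀ ht : t ∈ centralizer ({z} : Set G),
      (⟨t, ht⟩ : ↥(centralizer ({z} : Set G))) ∈ commutator ↥(centralizer ({z} : Set G))) : False := by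
  have hno := D.no_comp C hSch hGW hI hIN hMV hNI hz hz1 c (fun x hx hx1 => by
    obtain ⟨h, -, e⟩ := T.trans z hz hz1 x hx hx1
    exact ⟨h, e⟩) tform
  have hzz : z * z = 1 := D.dbl.sq ρ D.hρ z (D.dbl.XW ρ D.hρ hz)
  have ho : orderOf z = 2 := orderOf_eq_prime (by rw [pow_two]; exact hzz) hz1
  obtain ⟨hD, hV⟩ := D.norm hz hz1 (c z hz hz1) (D8.MainE.core_eq_bot C ho) hno
  obtain ⟨x1, y1, I⟩ := D.inp T hz hz1 fun p hp => hD p (D.P_le hz hp)
  have A : Inp.Act I (centralizer ({z} : Set G)) := ⟨hD, hV, fun g hg => mem_cent.1 hg⟩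
  exact A.not_mem_commutator (mem_cent.2 (D.z_t hz).symm) (tform _)

end Base

end Cfsg.Agent.OddHalf.D7Tw

end

-- merged: Cfsg.Agent.OddHalf.D7Tw.TorOf
section

/-!
# `K = ²E₆(q)`: the hypotheses `D7Tw.Tor` of THEOREM H (ODD D7, helper756)

`R : RGD` of `K = GG` in `G`, `ρ = e₁ + e₂`, `s = e₁ + e₃` (coordinates of `DFour`), `P = PP cs X`.

* `exists_rep_120` : the Weyl group is transitive on the ordered pairs of long roots at 120 degrees;
* `PP_tr`, `PP_sw` : the three long reflections orthogonal to `ρ`;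
* `PP_opp` : `C_P(X s)` is transitive on the long root groups in `Q` which do not commute with `X s`;
* **`tor`** : `D7Tw.Tor K B Φ (X ∘ c) ρ P s TA`, `TA = T ⊓ ⟨X β, X (-β)⟩`, `β = e₄ - e₁`.
-/

set_option autoImplicit false
set_option linter.unusedSectionVars false

namespace Cfsg.Agent.OddHalf.D7Tw.TorOf

open CoxeterSystem Cfsg.Agent.ChevalleyStructure.CoxeterGeom Cfsg.Agent.Tits.Roots Cfsg.Agent.Tits.Core
  Cfsg.Agent.Tits.RootComb Cfsg.Agent.Tits.Exchange Cfsg.Agent.Nodes.Reps Cfsg.Agent.Nodes.BNOf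
  Cfsg.Agent.Nodes.Coroot Cfsg.Agent.Nodes.LeviDec
  Cfsg.Agent.Nodes.Bruhat Cfsg.Agent.Nodes.OppDec Cfsg.Agent.Nodes.StabComb
  Cfsg.Agent.KFacts.RgdPar Cfsg.Agent.KFacts.RgdCent
  Cfsg.Agent.KFacts.RgdSL Cfsg.Agent.KFacts.RgdTI Cfsg.Agent.KFacts.RgdEx Cfsg.Agent.KFacts.RgdOdd
  Cfsg.Agent.Nodes.RGDTwE6 Cfsg.Agent.KFacts.TwESix.Comb Cfsg.Agent.KFacts.TwESix.Btw
  Cfsg.Agent.KFacts.TwESix.Pair Cfsg.Agent.KFacts.TwESix.Facts Cfsg.Agent.KFacts.TwESix.QRho
  Cfsg.Agent.KFacts.TwESix.Faith Cfsg.Agent.KFacts.TwESix Cfsg.Agent.OddHalf.D7Tw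
  Cfsg.Agent.OddHalf.D7Tw.BaseOf
open scoped commutatorElement

/-! ### Combinatorics -/

/-- `ρ` -/
def r0 : Fin 4 → ℤ := ![1, 1, 0, 0]

/-- `s` -/
def s1 : Fin 4 → ℤ := ![1, 0, 1, 0]

/-- the long roots orthogonal to `ρ` -/
def d1 : Fin 4 → ℤ := ![1, -1, 0, 0]

/-- the long roots orthogonal to `ρ` -/
def d2 : Fin 4 → ℤ := ![0, 0, 1, 1]

/-- the long roots orthogonal to `ρ` -/
def d3 : Fin 4 → ℤ := ![0, 0, 1, -1]

/-- the root of the torus `TA` -/
def be : Fin 4 → ℤ := ![-1, 0, 0, 1]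

theorem facts1 : r0 ∈ DFour.lg ∧ s1 ∈ DFour.lg ∧ r0 - s1 ∈ DFour.lg ∧ d1 ∈ DFour.lg ∧ d2 ∈ DFour.lg ∧
    d3 ∈ DFour.lg ∧ be ∈ DFour.lg ∧ DFour.B s1 r0 = 1 ∧ DFour.B (r0 - s1) r0 = 1 ∧ DFour.B s1 (r0 - s1) = -1 ∧
    DFour.B be r0 = -1 ∧ DFour.B (r0 - s1) be = 0 ∧ DFour.B d1 r0 = 0 ∧ DFour.B d2 r0 = 0 ∧ DFour.B d3 r0 = 0 ∧
    DFour.B (-d1) s1 = -1 ∧ -d1 ∈ DFour.lg ∧ DFour.B (-d1) r0 = 0 := by
  decide +kernel

/-- reflection in `d` -/
def rf (d x : Fin 4 → ℤ) : Fin 4 → ℤ := x - DFour.B x d • d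

theorem orbit8 : ∀ r ∈ DFour.lg, DFour.B r r0 = 1 → ∃ i < 2, ∃ j < 2, ∃ k < 2,
    r = (rf d1)^[i] ((rf d2)^[j] ((rf d3)^[k] s1)) := by
  decide +kernel

theorem swap8 : rf d1 (rf d2 (rf d3 s1)) = r0 - s1 ∧ rf d1 (rf d2 (rf d3 (r0 - s1))) = s1 := by
  decide +kernel

theorem rf_mem : ∀ x ∈ DFour.lg, rf d1 x ∈ DFour.lg ∧ rf d2 x ∈ DFour.lg ∧ rf d3 x ∈ DFour.lg := by
  decide +kernel

section W

variable {W : Type*} [Group W] (cs : CoxeterSystem CoxeterMatrix.F₄ W)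

/-- the lowest pair at 120 degrees -/
def low120 : (Fin 4 → ℤ) × (Fin 4 → ℤ) := CombRho.stp^[30] (![1, 0, 0, 0], ![0, 1, 0, 0])

set_option maxRecDepth 20000 in
theorem stp_120 : ∀ x ∈ rts, bf x x = 4 → ∀ y ∈ rts, bf y y = 4 → bf x y = -2 →
    CombRho.stp^[30] (x, y) = low120 := by
  decide +kernel

/-- `W` is transitive on the ordered pairs of long roots at 120 degrees. -/
theorem exists_rep_120 {x y x' y' : Fin 4 → ℤ} (hx : IsRoot cs isCartan x) (hy : IsRoot cs isCartan y)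
    (hxx : bf x x = 4) (hyy : bf y y = 4) (hxy : bf x y = -2) (hx' : IsRoot cs isCartan x')
    (hy' : IsRoot cs isCartan y') (hxx' : bf x' x' = 4) (hyy' : bf y' y' = 4) (hxy' : bf x' y' = -2) :
    ∃ w : W, rep cs isCartan w x = x' ∧ rep cs isCartan w y = y' := by
  obtain ⟨w, h1, h2⟩ := CombRho.exists_stp_iter cs 30 (x, y)
  obtain ⟨v, h3, h4⟩ := CombRho.exists_stp_iter cs 30 (x', y')
  rw [stp_120 x ((mem_rts cs).1 hx) hxx y ((mem_rts cs).1 hy) hyy hxy] at h1 h2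
  rw [stp_120 x' ((mem_rts cs).1 hx') hxx' y' ((mem_rts cs).1 hy') hyy' hxy'] at h3 h4
  refine ⟨v * w⁻¹, ?_, ?_⟩
  · rw [rep_mul_apply]
    have : rep cs isCartan w⁻¹ x = low120.1 := by
      have h5 : x = rep cs isCartan w low120.1 := h1.symm
      rw [h5, rep_inv_apply]
    rw [this]; exact h3
  · rw [rep_mul_apply]
    have : rep cs isCartan w⁻¹ y = low120.2 := by
      have h5 : y = rep cs isCartan w low120.2 := h2.symm
      rw [h5, rep_inv_apply]
    rw [this]; exact h4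

end W

variable {W G : Type*} [Group W] [Group G] {cs : CoxeterSystem CoxeterMatrix.F₄ W} {T : Subgroup G}
  {n : Fin 4 → G} {X : (Fin 4 → ℤ) → Subgroup G}

section KF

variable (R : RGD cs isCartan 2 T n X)

include R

/-- a representative of the reflection in `d` inside `⟨X d, X (-d)⟩` -/
theorem exists_refl {d : Fin 4 → ℤ} (hd : IsRoot cs isCartan d) : ∃ m ∈ X d ⊔ X (-d), ∀ y, IsRoot cs isCartan y →
    cj m (X y) = X (y - cpr cs isCartan y d • d) := by
  have : Finite W := finiteW cs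
  obtain ⟨u, hu, hu1⟩ := exists_ne_one R hd
  obtain ⟨w, hw, a, ha, b, hb, m, hm, he⟩ := exists_mu R hd hu hu1
  refine ⟨m, ?_, fun y hy => ?_⟩
  · rw [he]
    exact mul_mem (mul_mem (Subgroup.mem_sup_right ha) (Subgroup.mem_sup_left hu)) (Subgroup.mem_sup_right hb)
  · rw [R.conj_rp hm hy, hw]

/-- the reflection in a long root orthogonal to `ρ` has a representative in `P` -/
theorem exists_rf {d : Fin 4 → ℤ} (hd : d ∈ DFour.lg) (h0 : DFour.B d r0 = 0) : ∃ m ∈ PP cs X,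
    ∀ y ∈ DFour.lg, cj m (X (DFour.c y)) = X (DFour.c (rf d y)) := by
  have hr := DFour.root cs (x := d) hd
  obtain ⟨m, hm, e⟩ := exists_refl R hr
  have hc0 : (DFour.c d) 0 = 0 := by
    rw [c_zero]; exact h0
  refine ⟨m, (sup_le (le_PP hr (by rw [hc0])) (le_PP hr.neg ?_)) hm, fun y hy => ?_⟩
  · rw [Pi.neg_apply, hc0]; norm_num
  · rw [e _ (DFour.root cs hy), DFour.cpr_cc cs y hd]
    congr 1
    unfold rf
    rw [map_sub, map_zsmul]

/-- iterates -/
theorem iter_rf {d : Fin 4 → ℤ} (hrf : ∀ y ∈ DFour.lg, rf d y ∈ DFour.lg) {m : G} (hm : m ∈ PP cs X)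
    (e : ∀ y ∈ DFour.lg, cj m (X (DFour.c y)) = X (DFour.c (rf d y))) (i : ℕ) {x : Fin 4 → ℤ} (hx : x ∈ DFour.lg) :
    (rf d)^[i] x ∈ DFour.lg ∧ ∃ p ∈ PP cs X, cj p (X (DFour.c x)) = X (DFour.c ((rf d)^[i] x)) := by
  induction i with
  | zero => exact ⟨hx, 1, one_mem _, by rw [cj_one]; rfl⟩
  | succ i ih =>
    obtain ⟨h1, p, hp, h2⟩ := ih
    rw [Function.iterate_succ_apply']
    exact ⟨hrf _ h1, m * p, mul_mem hm hp, by rw [cj_mul, h2, e _ h1]⟩

/-- **`P` is transitive on the long root groups `X r`, `(r, ρ) = 1`.** -/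
theorem PP_tr {r : Fin 4 → ℤ} (hr : r ∈ DFour.lg) (h1 : DFour.B r r0 = 1) : ∃ p ∈ PP cs X,
    cj p (X (DFour.c s1)) = X (DFour.c r) := by
  obtain ⟨-, is1, -, i1, i2, i3, -, -, -, -, -, -, o1, o2, o3, -, -, -⟩ := facts1
  obtain ⟨m1, hm1, e1⟩ := exists_rf R i1 o1
  obtain ⟨m2, hm2, e2⟩ := exists_rf R i2 o2
  obtain ⟨m3, hm3, e3⟩ := exists_rf R i3 o3
  obtain ⟨i, -, j, -, k, -, rfl⟩ := orbit8 r hr h1
  obtain ⟨g3, p3, hp3, f3⟩ := iter_rf R (fun y hy => (rf_mem y hy).2.2) hm3 e3 k is1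
  obtain ⟨g2, p2, hp2, f2⟩ := iter_rf R (fun y hy => (rf_mem y hy).2.1) hm2 e2 j g3
  obtain ⟨g1, p1, hp1, f1⟩ := iter_rf R (fun y hy => (rf_mem y hy).1) hm1 e1 i g2
  exact ⟨p1 * (p2 * p3), mul_mem hp1 (mul_mem hp2 hp3), by rw [cj_mul, cj_mul, f3, f2, f1]⟩

/-- **`-1`** -/
theorem PP_sw : ∃ m ∈ PP cs X, cj m (X (DFour.c s1)) = X (DFour.c (r0 - s1)) ∧
    cj m (X (DFour.c (r0 - s1))) = X (DFour.c s1) := by
  obtain ⟨-, is1, ir, i1, i2, i3, -, -, -, -, -, -, o1, o2, o3, -, -, -⟩ := facts1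
  obtain ⟨m1, hm1, e1⟩ := exists_rf R i1 o1
  obtain ⟨m2, hm2, e2⟩ := exists_rf R i2 o2
  obtain ⟨m3, hm3, e3⟩ := exists_rf R i3 o3
  refine ⟨m1 * (m2 * m3), mul_mem hm1 (mul_mem hm2 hm3), ?_, ?_⟩
  · rw [cj_mul, cj_mul, e3 _ is1, e2 _ (rf_mem _ is1).2.2, e1 _ (rf_mem _ (rf_mem _ is1).2.2).2.1, swap8.1]
  · rw [cj_mul, cj_mul, e3 _ ir, e2 _ (rf_mem _ ir).2.2, e1 _ (rf_mem _ (rf_mem _ ir).2.2).2.1, swap8.2]

end KF

section Opp

variable {R : RGD cs isCartan 2 T n X} (D : Dat R)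

include D

/-- `C_T(x)` centralises `X b` -/
theorem tor_cent (hT : ∀ a ∈ T, ∀ b ∈ T, a * b = b * a) {b : Fin 4 → ℤ} (hb : IsRoot cs isCartan b) {t x : G}
    (ht : t ∈ T) (hx : x ∈ X b) (hx1 : x ≠ 1) (htx : t * x = x * t) : ∀ v ∈ X b, t * v = v * t := by
  intro v hv
  by_cases hv1 : v = 1
  · rw [hv1, mul_one, one_mul]
  obtain ⟨k, hk, e⟩ := exists_tor R hb hx hx1 hv hv1
  have h1 := hT t ht k hk
  have h2 : t * x * t⁻¹ = x := by rw [htx]; group
  have h3 : t * v * t⁻¹ = v := by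
    calc t * v * t⁻¹ = t * (k * x * k⁻¹) * t⁻¹ := by rw [e]
      _ = (t * k) * x * (t * k)⁻¹ := by group
      _ = k * (t * x * t⁻¹) * k⁻¹ := by rw [h1]; group
      _ = v := by rw [h2, e]
  calc t * v = t * v * t⁻¹ * t := by group
    _ = v * t := by rw [h3]

/-- **`C_P(X s)` is transitive on the long root groups in `Q` which do not commute with `X s`.** -/
theorem PP_opp [Finite G] (hT : ∀ a ∈ T, ∀ b ∈ T, a * b = b * a) {p : G} (hp : p ∈ PP cs X) :
    (∀ x ∈ X (DFour.c s1), ∀ y ∈ X (DFour.c s1), x * (p * y * p⁻¹) = p * y * p⁻¹ * x) ∨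
    ∃ u ∈ PP cs X, (∀ x ∈ X (DFour.c s1), u * x = x * u) ∧
      cj (u⁻¹ * p) (X (DFour.c s1)) = X (DFour.c (r0 - s1)) := by
  have : Finite W := finiteW cs
  obtain ⟨-, is1, ir, -, -, -, -, b1, b2, b3, -, -, -, -, -, b4, i4, o4⟩ := facts1
  have hrr := rho_root cs
  have hcr : DFour.c r0 = rho := DFour.c_rho
  have hs := DFour.root cs is1
  have hsl := DFour.long is1
  have hs' := DFour.root cs ir
  have hsl' := DFour.long ir
  have hQn : ∀ p ∈ PP cs X, ∀ y ∈ QQ cs X, p * y * p⁻¹ ∈ QQ cs X := fun p hp y hy =>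
    (Subgroup.mem_normalizer_iff.1 (PP_normalizer R hp) y).1 hy
  -- `X s = m (X ρ) m⁻¹`
  obtain ⟨w0, hw0⟩ : ∃ w : W, rep cs isCartan w rho = DFour.c s1 := by
    obtain ⟨w, hw⟩ := exists_rep_long cs hs hsl
    obtain ⟨v, hv⟩ := exists_rep_long cs hrr rho_long
    refine ⟨w * v⁻¹, ?_⟩
    rw [rep_mul_apply, ← hv, rep_inv_apply, hw]
  obtain ⟨m, hm⟩ := exists_rp cs R.nsys w0
  have hmG := NN_le_GG R ⟨w0, hm⟩
  have em : cj m (X rho) = X (DFour.c s1) := by rw [R.conj_rp hm hrr, hw0]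
  have hsQ : X (DFour.c s1) ≤ QQ cs X := le_QQ hs (by rw [c_zero]; exact b1.ge)
  have hpsQ : cj p (X (DFour.c s1)) ≤ QQ cs X := by
    intro x hx
    rw [mem_cj] at hx
    have h3 := hQn p hp _ (hsQ hx)
    have e : p * (p⁻¹ * x * p) * p⁻¹ = x := by group
    rwa [e] at h3
  obtain ⟨k, hk, r, hr, hrl, hr1, f1, f2⟩ := pair D hmG (mul_mem (PP_le_GG hp) hmG) (by rw [em]; exact hsQ) (by
    rw [cj_mul, em]; exact hpsQ)
  rw [em] at f1
  rw [cj_mul, em] at f2
  by_cases h0 : 0 ≤ r 0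
  · -- they commute
    left
    intro x hx y hy
    have h1 : k⁻¹ * x * k ∈ X rho := by
      rw [f1, mem_cj] at hx; exact hx
    have h2 : k⁻¹ * (p * y * p⁻¹) * k ∈ X r := by
      have : p * y * p⁻¹ ∈ cj p (X (DFour.c s1)) := conj_mem_cj.2 hy
      rw [f2, mem_cj] at this; exact this
    have h3 : k⁻¹ * (p * y * p⁻¹) * k * (k⁻¹ * x * k) = k⁻¹ * x * k * (k⁻¹ * (p * y * p⁻¹) * k) :=
      comm_long D hr hrr rho_long (by rw [bf_rho]; omega) h2 h1
    calc x * (p * y * p⁻¹) = k * (k⁻¹ * x * k * (k⁻¹ * (p * y * p⁻¹) * k)) * k⁻¹ := by group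
      _ = k * (k⁻¹ * (p * y * p⁻¹) * k * (k⁻¹ * x * k)) * k⁻¹ := by rw [h3]
      _ = _ := by group
  · right
    have hr0 : r 0 = -1 := by omega
    have hA : A2 cs isCartan rho r := a2 cs hrr hr (by rw [rho_long, hrl]) (by
      rw [bf_comm, bf_rho, hr0, rho_long]; norm_num)
    -- `k X (ρ + r) k⁻¹ = X ρ`
    have e1 : cj k (X (rho + r)) = X rho := by
      obtain ⟨x, hx, hx1⟩ := exists_ne_one R hrr
      obtain ⟨y, hy, hy1⟩ := exists_ne_one R hr
      have h1 := hA.comm_mem R hx hy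
      have h2 := hA.comm_ne_one R hx hx1 hy hy1
      have h3 : k * ⁅x, y⁆ * k⁻¹ ∈ X rho := by
        have h4 : k * ⁅x, y⁆ * k⁻¹ = ⁅k * x * k⁻¹, k * y * k⁻¹⁆ := by
          rw [commutatorElement_def, commutatorElement_def]; group
        rw [h4]
        refine Irr.comm_QQ R D.lr (hsQ ?_) (hpsQ ?_)
        · rw [f1]; exact conj_mem_cj.2 hx
        · rw [f2]; exact conj_mem_cj.2 hy
      have hrl' : bf (rho + r) (rho + r) = 4 := by
        have h6 : bf r rho = -2 := by rw [bf_rho, hr0]; norm_num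
        rw [bf_add_left, bf_add_right, bf_add_right, bf_comm rho r, h6, rho_long, hrl]; norm_num
      obtain ⟨w, hw⟩ : ∃ w : W, rep cs isCartan w (rho + r) = rho := by
        obtain ⟨w, hw⟩ := exists_rep_long cs hrr rho_long
        obtain ⟨v, hv⟩ := exists_rep_long cs hA.rxy hrl'
        refine ⟨w * v⁻¹, ?_⟩
        rw [rep_mul_apply, ← hv, rep_inv_apply, hw]
      have h5 := (D.lr _ hA.rxy hrl').ti (w := w) hk h1 h2 (by rw [hw]; exact h3)
      rwa [hw] at h5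
    -- move `(ρ, r)` to `(s, ρ - s)`
    obtain ⟨w, hw1, hw2⟩ := exists_rep_120 cs hrr hr rho_long hrl (by rw [bf_comm, bf_rho, hr0]; norm_num) hs hs'
      hsl hsl' (by rw [DFour.bf_c, b3]; norm_num)
    obtain ⟨l, hl⟩ := exists_rp cs R.nsys w
    have hlG := NN_le_GG R ⟨w, hl⟩
    have g1 : cj l (X rho) = X (DFour.c s1) := by rw [R.conj_rp hl hrr, hw1]
    have g2 : cj l (X r) = X (DFour.c (r0 - s1)) := by rw [R.conj_rp hl hr, hw2]
    have g3 : cj l (X (rho + r)) = X rho := by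
      rw [R.conj_rp hl hA.rxy, map_add, hw1, hw2, ← map_add, ← hcr]
      congr 2
      abel
    have k1 : cj (k * l⁻¹) (X (DFour.c s1)) = X (DFour.c s1) := by
      rw [cj_mul, ← g1, cj_inv_cj, ← f1, g1]
    have k2 : cj (k * l⁻¹) (X (DFour.c (r0 - s1))) = cj p (X (DFour.c s1)) := by
      rw [cj_mul, ← g2, cj_inv_cj, ← f2]
    have k3 : cj (k * l⁻¹) (X rho) = X rho := by
      rw [cj_mul]
      conv_lhs => rw [← g3]
      rw [cj_inv_cj, e1]
    -- `k l⁻¹ = u t`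
    have hkl : k * l⁻¹ ∈ PS T X (Ge cs isCartan rho) := by
      rw [← (D.lr rho hrr rho_long).normalizer]
      exact Subgroup.mem_inf.2 ⟨mem_normalizer_iff_cj.2 k3, mul_mem hk (inv_mem hlG)⟩
    have hTn : T ≤ Subgroup.normalizer (RGD.Sup X (Ge cs isCartan rho) : Set G) :=
      R.T_le_normalizer fun x hx => hx.1
    obtain ⟨t, ht, u', hu', e2⟩ : ∃ t ∈ T, ∃ u ∈ PP cs X, k * l⁻¹ = t * u := by
      have h2 : k * l⁻¹ ∈ ((PS T X (Ge cs isCartan rho) : Subgroup G) : Set G) := hkl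
      unfold PS at h2
      rw [Subgroup.coe_mul_of_left_le_normalizer_right _ _ hTn, Set.mem_mul] at h2
      obtain ⟨t, ht, q, hq, e⟩ := h2
      exact ⟨t, ht, q, hq, e.symm⟩
    set u := t * u' * t⁻¹ with hu
    have huP : u ∈ PP cs X := (Subgroup.mem_normalizer_iff.1 (hTn ht) u').1 hu'
    have e3 : k * l⁻¹ = u * t := by rw [e2, hu]; group
    have u1 : cj u (X (DFour.c s1)) = X (DFour.c s1) := by
      have h1 := k1
      rw [e3, cj_mul, R.tor _ hs t ht] at h1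
      exact h1
    have u2 : cj u (X (DFour.c (r0 - s1))) = cj p (X (DFour.c s1)) := by
      have h1 := k2
      rw [e3, cj_mul, R.tor _ hs' t ht] at h1
      exact h1
    -- make `u` centralise `X s`
    obtain ⟨x, hx, hx1⟩ := exists_ne_one R hs
    have hx' : u⁻¹ * x * u ∈ X (DFour.c s1) := by
      have : x ∈ cj u (X (DFour.c s1)) := by rw [u1]; exact hx
      rwa [mem_cj] at this
    have hx1' : u⁻¹ * x * u ≠ 1 := by
      intro h
      apply hx1
      calc x = u * (u⁻¹ * x * u) * u⁻¹ := by group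
        _ = 1 := by rw [h]; group
    have hA2 : A2 cs isCartan (DFour.c (-d1)) (DFour.c s1) := DFour.a2_of cs i4 is1 b4
    obtain ⟨h, hh, e4⟩ := hA2.tor_trans R hx hx1 hx' hx1'
    have hhP : h ∈ PP cs X := by
      have hc0 : (DFour.c (-d1)) 0 = 0 := by
        rw [c_zero]; exact o4
      have hrd := DFour.root cs i4
      refine (sup_le (le_PP hrd (by rw [hc0])) (le_PP hrd.neg ?_)) hh.2
      rw [Pi.neg_apply, hc0]; norm_num
    have hu0 : u * h ∈ PP cs X := mul_mem huP hhP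
    refine ⟨u * h, hu0, ?_, ?_⟩
    · have h1 : (u * h) * x = x * (u * h) := by
        have h2 : (u * h) * x * (u * h)⁻¹ = x := by
          calc (u * h) * x * (u * h)⁻¹ = u * (h * x * h⁻¹) * u⁻¹ := by group
            _ = x := by rw [e4]; group
        calc (u * h) * x = (u * h) * x * (u * h)⁻¹ * (u * h) := by group
          _ = x * (u * h) := by rw [h2]
      obtain ⟨c, hc, hcx, q, hq, e⟩ := ((D.lr _ hs hsl).mem_centralizer (PP_le_GG hu0) hx hx1).1 h1
      intro v hv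
      rw [e, mul_assoc, (D.lr _ hs hsl).comm' hq hv, ← mul_assoc, tor_cent D hT hs hc hx hx1 hcx v hv, mul_assoc]
    · rw [mul_inv_rev, mul_assoc, cj_mul, cj_mul, ← u2, cj_inv_cj, R.tor _ hs' _ (inv_mem hh.1)]

end Opp

/-- **The hypotheses `D7Tw.Tor`.** -/
theorem tor [Finite G] {R : RGD cs isCartan 2 T n X} (D : Dat R) (hT : ∀ a ∈ T, ∀ b ∈ T, a * b = b * a) :
    Tor (GG cs isCartan T X) DFour.B DFour.Phi (fun x => X (DFour.c x)) ![1, 1, 0, 0] (PP cs X) s1
      (T ⊓ (X (DFour.c be) ⊔ X (-DFour.c be))) := by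
  have : Finite W := finiteW cs
  obtain ⟨ir0, is1, ir, -, -, -, ib, b1, b2, b3, b5, b6, -, -, -, b4, i4, o4⟩ := facts1
  have hrr := rho_root cs
  have hcr : DFour.c r0 = rho := DFour.c_rho
  have hs := DFour.root cs is1
  have hs' := DFour.root cs ir
  have hb := DFour.root cs ib
  refine
    { hs := is1
      hsρ := b1
      trρ := ?_
      cen := ?_
      TAK := le_trans inf_le_left T_le_GG
      TAs := fun h hh => cj_iff.2 (R.tor _ hs h hh.1)
      TAρ := fun h hh => ?_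
      TAa := ?_
      trans := ?_
      sw := ?_
      tr := ?_
      opp := ?_ }
  · -- trρ
    intro r hr
    obtain ⟨w, hw⟩ : ∃ w : W, rep cs isCartan w rho = DFour.c r := by
      obtain ⟨w, hw⟩ := exists_rep_long cs (DFour.root cs hr) (DFour.long hr)
      obtain ⟨v, hv⟩ := exists_rep_long cs hrr rho_long
      refine ⟨w * v⁻¹, ?_⟩
      rw [rep_mul_apply, ← hv, rep_inv_apply, hw]
    obtain ⟨m, hm⟩ := exists_rp cs R.nsys w
    refine ⟨m, NN_le_GG R ⟨w, hm⟩, ?_⟩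
    rw [cj_iff]
    show cj m (X (DFour.c r0)) = X (DFour.c r)
    rw [hcr, R.conj_rp hm hrr, hw]
  · -- cen
    intro g hg h
    obtain ⟨x, hx, hx1⟩ := exists_ne_one R hrr
    have h1 : g * x = x * g := h x (by
      show x ∈ X (DFour.c r0)
      rw [hcr]; exact hx)
    obtain ⟨t, ht, -, q, hq, e⟩ := cent_z D hg hx hx1 h1
    refine ⟨t, T_le_GG ht, q, hq, e, ?_⟩
    have h3 : orderOf t ∣ Nat.card T := Subgroup.orderOf_dvd_natCard T ht
    exact Odd.of_dvd_nat (Nat.coprime_two_right.mp R.tcop) h3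
  · -- TAρ
    rw [cj_iff]
    show cj h (X (DFour.c r0)) = X (DFour.c r0)
    rw [hcr]
    exact R.tor _ hrr h hh.1
  · -- TAa
    intro h hh y hy
    exact Cfsg.Agent.KFacts.TwESix.Tor.orth_comm R D.lr hb (DFour.long ib) hs' (by rw [DFour.bf_c, b6]; norm_num) hh.2 hy
  · -- trans
    intro z hz hz1 v hv hv1
    exact (DFour.a2_of cs ib ir0 b5).tor_trans R hz hz1 hv hv1
  · -- sw
    obtain ⟨m, hm, e1, e2⟩ := PP_sw (cs := cs) R
    exact ⟨m, hm, cj_iff.2 e1, cj_iff.2 e2⟩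
  · -- tr
    intro r hr h1
    obtain ⟨p, hp, e⟩ := PP_tr R hr h1
    exact ⟨p, hp, cj_iff.2 e⟩
  · -- opp
    intro p hp
    rcases PP_opp D hT hp with h | ⟨u, hu, h1, h2⟩
    · exact Or.inl h
    · exact Or.inr ⟨u, hu, h1, cj_iff.2 h2⟩

end Cfsg.Agent.OddHalf.D7Tw.TorOf

end
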